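import Cfsg.Agent.Lib.C7U.Form
import Cfsg.Agent.Lib.C7.Roots

/-!
# Elements of the unitary tensor stabiliser

Root elements `C.R i b s = 1 ⊗ (transvection at b)`, Eichler elements and a torus in one position.
-/

set_option autoImplicit false
set_option linter.unusedSectionVars false

namespace Cfsg.Agent.C7U

open Matrix Module Cfsg.Agent.Transvect Cfsg.Agent.C7
open Cfsg.Agent.Unitary (IsHerm Nondeg)
open Cfsg.Agent.C4.Herm (fl fl_apply Iso tu tu_apply tu_iso tu_mem_sl eich eich_apply eich_iso eich_mem_sl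
  perpF mem_perpF le_finrank_perpF skew_pow)
open scoped MatrixGroups

/-- A rank one update with its determinant. -/
lemma exists_pseudo {F : Type*} [Field F] {m : ℕ} (v : Fin m → F) (φ : (Fin m → F) →ₗ[F] F)
    (h : 1 + φ v ≠ 0) :
    ∃ A : GL (Fin m) F, (∀ x, app A x = x + φ x • v) ∧
      (A : Matrix (Fin m) (Fin m) F).det = 1 + φ v := by
  have hd : (1 + Matrix.replicateCol Unit v *
      Matrix.replicateRow Unit (fun j => φ (Pi.single j 1))).det = 1 + φ v := by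
    rw [Matrix.det_one_add_replicateCol_mul_replicateRow]
    congr 1
    conv_rhs => rw [pi_eq_sum_univ' v, map_sum]
    exact Finset.sum_congr rfl fun i _ => by rw [map_smul, smul_eq_mul, mul_comm]
  refine ⟨Matrix.GeneralLinearGroup.mkOfDetNeZero _ (hd ▸ h), fun x => ?_, hd⟩
  rw [app_apply]
  show (1 + Matrix.replicateCol Unit v *
    Matrix.replicateRow Unit (fun j => φ (Pi.single j 1))) *ᵥ x = _
  rw [Matrix.add_mulVec, Matrix.one_mulVec]
  congr 1
  funext i
  have hx : φ x = ∑ j, x j * φ (Pi.single j 1) := by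
    conv_lhs => rw [pi_eq_sum_univ' x, map_sum]
    simp
  simp only [Matrix.mulVec, dotProduct, Matrix.mul_apply, Matrix.replicateCol_apply,
    Matrix.replicateRow_apply, Finset.univ_unique, Finset.sum_singleton, Pi.smul_apply, smul_eq_mul,
    hx, Finset.sum_mul]
  exact Finset.sum_congr rfl fun j _ => by ring

namespace Ctx

variable {F : Type*} [Field F] [Fintype F] {q m : ℕ} (C : Ctx F q m) {t s : ℕ}

include C

lemma two_le_q : 2 ≤ q := Cfsg.Agent.Unitary.two_le_q C.hF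

/-- An isotropic point. -/
lemma exists_iso : ∃ b, b ≠ 0 ∧ C.h b b = 0 := by
  obtain ⟨b, -, h0, h⟩ := C4.Herm.exists_iso_in C.hF C.H (W := (⊤ : Submodule F (Fin m → F)))
    (by rw [finrank_top, finrank_fin_fun]; have := C.hm; omega)
  exact ⟨b, h0, h⟩

lemma exists_partner {b : Fin m → F} (hb0 : b ≠ 0) (hb : C.h b b = 0) :
    ∃ b', C.h b' b' = 0 ∧ C.h b' b = 1 ∧ C.h b b' = 1 ∧ b' ≠ 0 :=
  C4.Herm.exists_partner C.hF C.H C.nd hb0 hb

/-- Subtracting the hyperbolic components. -/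
lemma sub_pair_perp {b b' : Fin m → F} (hb : C.h b b = 0) (hb' : C.h b' b' = 0)
    (h1 : C.h b' b = 1) (h2 : C.h b b' = 1) (z : Fin m → F) :
    C.h (z - C.h z b' • b - C.h z b • b') b = 0 ∧ C.h (z - C.h z b' • b - C.h z b • b') b' = 0 := by
  simp [C.H.sub_left, C.H.smul_left, hb, hb', h1, h2]

/-- An anisotropic vector orthogonal to a hyperbolic pair. -/
lemma exists_aniso_perp {b b' : Fin m → F} (hb : C.h b b = 0) (hb' : C.h b' b' = 0)
    (h1 : C.h b' b = 1) (h2 : C.h b b' = 1) :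
    ∃ z, C.h z b = 0 ∧ C.h z b' = 0 ∧ C.h z z ≠ 0 := by
  by_contra! hc
  let P := perpF C.H ![b, b']
  have hP : ∀ y : P, C.h (y : Fin m → F) (y : Fin m → F) = 0 := fun y =>
    hc _ ((mem_perpF C.H).1 y.2 0) ((mem_perpF C.H).1 y.2 1)
  have h0 : ∀ y : P, (y : Fin m → F) = 0 := fun y => C.nd _ fun z => by
    obtain ⟨e1, e2⟩ := C.sub_pair_perp hb hb' h1 h2 z
    have e := (C.H.comap P.subtype).eq_zero_of_isotropic C.hF hP y
      ⟨z - C.h z b' • b - C.h z b • b', (mem_perpF C.H).2 fun i => by fin_cases i <;> assumption⟩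
    simp only [Submodule.subtype_apply] at e
    obtain ⟨hya, hyb⟩ : C.h (y : Fin m → F) b = 0 ∧ C.h (y : Fin m → F) b' = 0 :=
      ⟨(mem_perpF C.H).1 y.2 0, (mem_perpF C.H).1 y.2 1⟩
    simpa [C.H.sub_right C.hF, C.H.smul_right, hya, hyb] using e
  have : P = ⊥ := (Submodule.eq_bot_iff _).2 fun y hy => h0 ⟨y, hy⟩
  have h3 : m ≤ finrank F P + 2 := le_finrank_perpF C.H ![b, b']
  rw [this, finrank_bot] at h3
  have := C.hm
  omega

/-! ### Elements `A ⊗ B` -/

lemma kr_iso (i : Fin (t + 1)) {A : GL (J m t) F} {B : GL (Fin m) F} (hA : A ∈ C.isoJ t)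
    (hB : Iso C.h B) : kr i A B ∈ C.isoJ (t + 1) :=
  C.iso_of_T i fun a w a' w' => by rw [app_kr, app_kr, C.fV_T, hA, hB]

lemma kr_mem_ust (i : Fin (t + 1)) {A : GL (J m t) F} {B : GL (Fin m) F} (hA : A ∈ C.ust t)
    (hB : Iso C.h B) (hB' : B ∈ Cfsg.Geo.specialLinear (Fin m) F) : kr i A B ∈ C.ust (t + 1) :=
  ⟨kr_mem i hA.1 B, C.kr_iso i hA.2.1 hB, kr_mem_sl i hA.2.2 hB'⟩

lemma kr_one_mem_ust (i : Fin (t + 1)) {B : GL (Fin m) F} (hB : Iso C.h B)
    (hB' : B ∈ Cfsg.Geo.specialLinear (Fin m) F) : kr i 1 B ∈ C.ust (t + 1) :=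
  C.kr_mem_ust i (one_mem _) hB hB'

lemma kr_left_mem_ust (i : Fin (t + 1)) {A : GL (J m t) F} (hA : A ∈ C.ust t) :
    kr i A 1 ∈ C.ust (t + 1) :=
  C.kr_mem_ust i hA (fun x y => by simp) (one_mem _)

/-- The root element at `b` in position `i`. -/
noncomputable def R (i : Fin (t + 1)) (b : Fin m → F) (s : F) : GL (J m (t + 1)) F :=
  rt i (s • LinearMap.id) b (fl C.H b)

variable {i : Fin (t + 1)} {b : Fin m → F}

lemma R_apply (hb : C.h b b = 0) (s : F) (x : J m (t + 1) → F) :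
    app (C.R i b s) x = x + s • T i (C.cb i b x) b := by
  rw [R, rt_apply (show fl C.H b b = 0 from hb), LinearMap.smul_apply, LinearMap.id_apply, map_smul,
    LinearMap.smul_apply]
  rfl

lemma R_eq_kr (hb : C.h b b = 0) (s : F) : C.R i b s = kr i 1 (tu C.H b s) :=
  gl_ext_T i fun a w => by
    rw [C.R_apply hb, C.cb_T, app_kr, tu_apply C.H hb, map_one, LinearEquiv.coe_one, id_eq, map_add,
      map_smul, map_smul, LinearMap.smul_apply, smul_smul]

lemma R_mem (hb : C.h b b = 0) {s : F} (hs : s + s ^ q = 0) : C.R i b s ∈ C.ust (t + 1) := by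
  rw [C.R_eq_kr hb]
  exact C.kr_one_mem_ust i (tu_iso C.hF C.H hb hs) (tu_mem_sl C.H b s)

lemma R_mul (hb : C.h b b = 0) (s u : F) : C.R i b s * C.R i b u = C.R i b (s + u) := by
  rw [R, R, R, rt_mul (show fl C.H b b = 0 from hb), add_smul]

lemma R_zero (hb : C.h b b = 0) : C.R i b 0 = 1 := gl_ext fun x => by
  rw [C.R_apply hb]; simp

lemma R_inv (hb : C.h b b = 0) (s : F) : (C.R i b s)⁻¹ = C.R i b (-s) :=
  inv_eq_of_mul_eq_one_right (by rw [C.R_mul hb, add_neg_cancel, C.R_zero hb])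

lemma res_R (hb0 : b ≠ 0) (hb : C.h b b = 0) {s : F} (hs : s ≠ 0) :
    C4.res (C.R i b s) = Li i b := by
  rw [show C.R i b s = rt i LinearMap.id b (s • fl C.H b) from
    rt_smul_one (show fl C.H b b = 0 from hb) fun a => rfl]
  refine res_rt (by simp [hb]) (smul_ne_zero hs (C4.Herm.fl_ne_zero C.hF C.H C.nd hb0))

lemma R_fix_iff (hb0 : b ≠ 0) (hb : C.h b b = 0) {s : F} (hs : s ≠ 0) {x : J m (t + 1) → F} :
    app (C.R i b s) x = x ↔ C.cb i b x = 0 := by
  rw [C.R_apply hb, add_eq_left, smul_eq_zero, or_iff_right hs]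
  exact ⟨fun h => (T_eq_zero h).resolve_right hb0, fun h => by rw [h]; simp⟩

lemma R_ne_one (hb0 : b ≠ 0) (hb : C.h b b = 0) {s : F} (hs : s ≠ 0) : C.R i b s ≠ 1 := by
  intro h
  have h1 := congrArg C4.res h
  rw [C.res_R hb0 hb hs] at h1
  have h2 : C4.res (1 : GL (J m (t + 1)) F) = ⊥ :=
    le_bot_iff.1 (C4.res_le fun x => by simp)
  have h3 := congrArg (fun W : Submodule F (J m (t + 1) → F) => finrank F W) (h1.trans h2)
  rw [finrank_Li i hb0, finrank_bot] at h3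
  exact (pow_pos (by have := C.hm; omega) t).ne' h3

/-- The Eichler element in position `i`. -/
noncomputable def E (i : Fin (t + 1)) (b v : Fin m → F) (c : F) : GL (J m (t + 1)) F :=
  kr i 1 (eich C.H b v c)

lemma E_apply (hb : C.h b b = 0) {v : Fin m → F} (hvb : C.h v b = 0) (c : F)
    (x : J m (t + 1) → F) : app (C.E i b v c) x =
      x + T i (C.cb i b x) v - T i (C.cb i v x) b + c • T i (C.cb i b x) b :=
  LinearMap.congr_fun (lin_ext i (f := (app (C.E i b v c)).toLinearMap)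
    (g := LinearMap.id + (T i).flip v ∘ₗ C.cb i b - (T i).flip b ∘ₗ C.cb i v
      + c • ((T i).flip b ∘ₗ C.cb i b)) fun a w => by
    simp only [E, LinearEquiv.coe_coe, app_kr, eich_apply C.H hb ((C.H.eq_zero_symm C.hF).1 hvb) hvb,
      LinearMap.add_apply, LinearMap.sub_apply, LinearMap.id_apply, LinearMap.smul_apply,
      LinearMap.comp_apply, LinearMap.flip_apply, cb_T, map_add, map_sub, map_smul, map_one,
      LinearEquiv.coe_one, id_eq, smul_smul]) x

lemma E_mem (hb : C.h b b = 0) {v : Fin m → F} (hvb : C.h v b = 0) {c : F}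
    (hc : c + c ^ q = -(C.h v v)) : C.E i b v c ∈ C.ust (t + 1) :=
  C.kr_one_mem_ust i (eich_iso C.hF C.H hb hvb hc) (eich_mem_sl C.H b v c)

lemma exists_skew : ∃ s : F, s ≠ 0 ∧ s + s ^ q = 0 := by
  obtain ⟨s, hs0, hs⟩ := Cfsg.Agent.Unitary.exists_skew C.hF
  exact ⟨s, hs0, by rw [hs, add_neg_cancel]⟩

lemma exists_trace (v : Fin m → F) : ∃ c : F, c + c ^ q = -(C.h v v) :=
  Cfsg.Agent.Unitary.exists_trace_eq C.hF
    (by rw [Cfsg.Agent.Unitary.neg_pow_q C.hF, C.H.self_fixed])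

/-- Isotropic points of one position are conjugate under the stabiliser. -/
lemma exists_move (i : Fin (t + 1)) {b b' : Fin m → F} (hb0 : b ≠ 0) (hb : C.h b b = 0)
    (hb'0 : b' ≠ 0) (hb' : C.h b' b' = 0) :
    ∃ B : GL (Fin m) F, kr i (1 : GL (J m t) F) B ∈ C.ust (t + 1) ∧
      ∃ ρ : F, ρ ≠ 0 ∧ app B b = ρ • b' := by
  let K : Subgroup (GL (Fin m) F) :=
    { carrier := {B | kr i (1 : GL (J m t) F) B ∈ C.ust (t + 1)}
      mul_mem' := fun {A B} hA hB => by
        show kr i 1 (A * B) ∈ C.ust (t + 1)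
        rw [← one_mul (1 : GL (J m t) F), ← kr_mul]
        exact mul_mem hA hB
      one_mem' := by
        show kr i 1 1 ∈ C.ust (t + 1)
        rw [kr_one]; exact one_mem _
      inv_mem' := fun {A} hA => by
        show kr i 1 A⁻¹ ∈ C.ust (t + 1)
        have := inv_mem (show kr i (1 : GL (J m t) F) A ∈ C.ust (t + 1) from hA)
        rwa [kr_inv, inv_one] at this }
  obtain ⟨B, hB, ρ, hρ, hBb⟩ := C4.Herm.exists_move C.hF C.H C.nd (K := K)
    (fun v c hv hc => C.kr_one_mem_ust i (tu_iso C.hF C.H hv hc) (tu_mem_sl C.H v c))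
    hb0 hb hb'0 hb'
  exact ⟨B, hB, ρ, hρ, hBb⟩

/-- A torus element with prescribed eigenvalue at `b`. -/
lemma exists_torus {b b' : Fin m → F} (hb : C.h b b = 0) (hb' : C.h b' b' = 0)
    (h1 : C.h b' b = 1) (h2 : C.h b b' = 1) {lam : F} (hl : lam ≠ 0) :
    ∃ B : GL (Fin m) F, Iso C.h B ∧ B ∈ Cfsg.Geo.specialLinear (Fin m) F ∧
      app B b = lam • b ∧ app B b' = (lam ^ q)⁻¹ • b' := by
  obtain ⟨z, hzb, hzb', hzz⟩ := C.exists_aniso_perp hb hb' h1 h2
  have hbz := (C.H.eq_zero_symm C.hF).1 hzb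
  have hb'z := (C.H.eq_zero_symm C.hF).1 hzb'
  set μ := (lam ^ q)⁻¹ with hμdef
  set ν := lam ^ q / lam with hνdef
  have hlq : lam ^ q ≠ 0 := pow_ne_zero q hl
  obtain ⟨P1, hP1, d1⟩ := exists_pseudo b ((lam - 1) • fl C.H b')
    (by simp [h2, hl])
  obtain ⟨P2, hP2, d2⟩ := exists_pseudo b' ((μ - 1) • fl C.H b) (by simp [h1, hμdef, hl])
  have h3 : 1 + (((ν - 1) / C.h z z) • fl C.H z) z = ν := by
    rw [LinearMap.smul_apply, fl_apply, smul_eq_mul, div_mul_cancel₀ _ hzz]; ring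
  obtain ⟨P3, hP3, d3⟩ := exists_pseudo z (((ν - 1) / C.h z z) • fl C.H z)
    (by rw [h3]; exact div_ne_zero hlq hl)
  have hB : ∀ x, app (P1 * P2 * P3) x = x + ((lam - 1) * C.h x b') • b +
      ((μ - 1) * C.h x b) • b' + ((ν - 1) / C.h z z * C.h x z) • z := fun x => by
    simp only [map_mul, LinearEquiv.mul_apply, hP1, hP2, hP3, LinearMap.smul_apply, fl_apply,
      smul_eq_mul, C.H.add_left, C.H.smul_left, hzb, hzb', hb', mul_zero, add_zero]
    module
  refine ⟨P1 * P2 * P3, fun x y => ?_, ?_, ?_, ?_⟩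
  · have e1 : μ ^ q = lam⁻¹ := by
      rw [hμdef, inv_pow, Cfsg.Agent.Unitary.pow_q_pow_q C.hF]
    have e2 : ν ^ q = lam / lam ^ q := by
      rw [hνdef, div_pow, Cfsg.Agent.Unitary.pow_q_pow_q C.hF]
    have hz' : (C.h z z) ^ q = C.h z z := C.H.self_fixed z
    simp only [hB, C.H.add_left, C.H.add_right C.hF, C.H.smul_left, C.H.smul_right, hb, hb', h1, h2,
      hbz, hb'z, hzb, hzb', mul_zero, add_zero, mul_one, mul_pow, div_pow, hz',
      Cfsg.Agent.Unitary.sub_pow_q C.hF, one_pow, e1, e2, ← C.H.conj_symm]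
    rw [hμdef, hνdef]
    field_simp
    ring
  · rw [mem_sl_iff, Units.val_mul, Units.val_mul, Matrix.det_mul, Matrix.det_mul, d1, d2, d3, h3]
    simp only [LinearMap.smul_apply, fl_apply, h1, h2, smul_eq_mul, mul_one, add_sub_cancel]
    rw [hμdef, hνdef]
    field_simp
  · rw [hB, h2, hb, hbz]; module
  · rw [hB, hb', h1, hb'z]; module

end Ctx

end Cfsg.Agent.C7U
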