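import Cfsg.Agent.Lib.C7U.Gen

/-!
# Invariant groups of skew forms

An additive group of skew-hermitian forms on the tensor power that is invariant under the stabiliser
has, as soon as it has a nonscalar member, the form of a transvection at a pure vector or a nonscalar
member that is the given form in some position.
-/

set_option autoImplicit false
set_option linter.unusedSectionVars false

namespace Cfsg.Agent.C7U

open Matrix Module Cfsg.Agent.Transvect Cfsg.Agent.C7
open Cfsg.Agent.Unitary (IsHerm Nondeg)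
open Cfsg.Agent.C4.Herm (fl fl_apply Iso skew_pow)
open scoped MatrixGroups

variable {F : Type*} [Field F] [Fintype F] {q : ℕ} {κ : Type*}

/-- A skew-hermitian form. -/
structure Sk (q : ℕ) (B : (κ → F) → (κ → F) → F) : Prop where
  add_left : ∀ x y z, B (x + y) z = B x z + B y z
  smul_left : ∀ (c : F) x z, B (c • x) z = c * B x z
  skew : ∀ x y, B y x = -(B x y) ^ q

lemma Sk.add_right (hF : Fintype.card F = q ^ 2) {B : (κ → F) → (κ → F) → F} (h : Sk q B)
    (x y z : κ → F) : B x (y + z) = B x y + B x z := by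
  rw [h.skew (y + z), h.add_left, Unitary.add_pow_q hF, neg_add, ← h.skew, ← h.skew]

lemma Sk.smul_right {B : (κ → F) → (κ → F) → F} (h : Sk q B) (x : κ → F) (c : F) (y : κ → F) :
    B x (c • y) = c ^ q * B x y := by
  rw [h.skew (c • y), h.smul_left, mul_pow, ← mul_neg, ← h.skew]

lemma Sk.sub_right (hF : Fintype.card F = q ^ 2) {B : (κ → F) → (κ → F) → F} (h : Sk q B)
    (x y z : κ → F) : B x (y - z) = B x y - B x z := by
  rw [eq_sub_iff_add_eq, ← h.add_right hF, sub_add_cancel]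

lemma Sk.zero_left {B : (κ → F) → (κ → F) → F} (h : Sk q B) (y : κ → F) : B 0 y = 0 := by
  simpa using h.smul_left 0 0 y

lemma Sk.zero_right (hF : Fintype.card F = q ^ 2) {B : (κ → F) → (κ → F) → F} (h : Sk q B)
    (x : κ → F) : B x 0 = 0 := by
  rw [h.skew 0, h.zero_left, Unitary.zero_pow_q hF, neg_zero]

namespace Ctx

variable {m : ℕ} (C : Ctx F q m) {t : ℕ}

include C

/-- A group of skew forms invariant under the stabiliser. -/
def Inv (C : Ctx F q m) (V : AddSubgroup ((J m t → F) → (J m t → F) → F)) : Prop :=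
  (∀ B ∈ V, Sk q B) ∧
    ∀ g ∈ C.ust t, ∀ B ∈ V, (fun x y => B (app g x) (app g y)) ∈ V

/-- `B` is the given form in position `j`. -/
def Triv (C : Ctx F q m) (j : Fin (t + 1)) (B : (J m (t + 1) → F) → (J m (t + 1) → F) → F) : Prop :=
  ∃ Y : (J m t → F) → (J m t → F) → F, ∀ a u a' w, B (T j a u) (T j a' w) = Y a a' * C.h u w

/-- Either a form lives at one isotropic point of position `0`, or all forms are trivial there. -/
theorem dich {V : AddSubgroup ((J m (t + 1) → F) → (J m (t + 1) → F) → F)} (hV : C.Inv V) :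
    (∃ r, r ≠ 0 ∧ C.h r r = 0 ∧ ∃ Y, Y ≠ 0 ∧ C.lft 0 r Y ∈ V) ∨ ∀ B ∈ V, C.Triv 0 B := by
  by_cases hex : ∃ r, r ≠ 0 ∧ C.h r r = 0 ∧ ∃ Y, Y ≠ 0 ∧ C.lft 0 r Y ∈ V
  · exact .inl hex
  push Not at hex
  have hno : ∀ r, r ≠ 0 → C.h r r = 0 → ∀ Y, C.lft 0 r Y ∈ V → Y = 0 := fun r h0 h Y hY =>
    by_contra fun hne => hex r h0 h Y hne hY
  refine .inr fun B hB => ?_
  have S := hV.1 B hB
  obtain ⟨s, hs0, hs⟩ := C.exists_skew
  have hsq := skew_pow hs
  -- nothing from `r` to the vectors orthogonal to `r`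
  have hperp : ∀ r, r ≠ 0 → C.h r r = 0 → ∀ v, C.h v r = 0 → ∀ a a',
      B (T 0 a r) (T 0 a' v) = 0 := by
    intro r hr0 hr
    set p : (J m (t + 1) → F) →ₗ[F] (J m t → F) := C.cb 0 r with hp
    set Y0 : (J m t → F) → (J m t → F) → F := fun a a' => B (T 0 a r) (T 0 a' r) with hY0
    set B1 : (J m (t + 1) → F) → (J m (t + 1) → F) → F := fun x y =>
      s * B (T 0 (p x) r) y - (s * B (T 0 (p y) r) x) ^ q + s * s ^ q * Y0 (p x) (p y) with hB1
    have hB1V : B1 ∈ V := by
      convert sub_mem (hV.2 _ (C.R_mem (i := 0) hr hs) B hB) hB using 1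
      funext x y
      simp only [Pi.sub_apply, C.R_apply hr, S.add_left, S.add_right C.hF, S.smul_left, S.smul_right,
        hB1, hY0, mul_pow, ← hp, S.skew (T 0 (p y) r) x]
      ring
    let W : (Fin m → F) → F → (J m t → F) → (J m (t + 1) → F) → F := fun v c a y =>
      B (T 0 a r) (T 0 (p y) v) - Y0 a (C.cb 0 v y) + c ^ q * Y0 a (p y)
    have hE : ∀ (v : Fin m → F) (c : F), C.h v r = 0 → c + c ^ q = -(C.h v v) →
        (fun x y => s * W v c (p x) y - (s * W v c (p y) x) ^ q) ∈ V := by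
      intro v c hv hc
      have hrv := (C.H.eq_zero_symm C.hF).1 hv
      have hpE : ∀ x, p (app (C.E 0 r v c) x) = p x := fun x => by
        simp [hp, C.E_apply hr hv, C.cb_T, hv, hr, -app_apply]
      convert sub_mem (hV.2 _ (C.E_mem (i := 0) hr hv hc) B1 hB1V) hB1V using 1
      funext x y
      simp only [Pi.sub_apply, hB1, hpE]
      simp only [C.E_apply hr hv, S.add_right C.hF, S.sub_right C.hF, S.smul_right, ← hp, W, hY0,
        mul_add, mul_sub, Unitary.add_pow_q C.hF, Unitary.sub_pow_q C.hF]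
      ring
    have hY00 : Y0 = 0 := by
      refine hno r hr0 hr _ ?_
      obtain ⟨r', hr', h1, h2, -⟩ := C.exists_partner hr0 hr
      obtain ⟨z, hzr, -, hzz⟩ := C.exists_aniso_perp hr hr' h1 h2
      obtain ⟨γ, hγ⟩ := Unitary.exists_trace_eq C.hF (one_pow q : (1 : F) ^ q = 1)
      set η := (-γ / s) ^ q with hη
      set v₂ := (η / C.h z z) • z with hv₂
      have hv₂r : C.h v₂ r = 0 := by rw [hv₂, C.H.smul_left, hzr, mul_zero]
      have hrv₂ := (C.H.eq_zero_symm C.hF).1 hv₂r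
      have hv₂z : C.h v₂ z = η := by rw [hv₂, C.H.smul_left, div_mul_cancel₀ _ hzz]
      have hrz := (C.H.eq_zero_symm C.hF).1 hzr
      obtain ⟨c, hc⟩ := C.exists_trace z
      obtain ⟨c₂, hc₂⟩ := C.exists_trace v₂
      have hmem := sub_mem (hV.2 _ (C.E_mem (i := 0) hr hv₂r hc₂) _ (hE z c hzr hc)) (hE z c hzr hc)
      convert hmem using 1
      funext x y
      have hp2 : ∀ x, p (app (C.E 0 r v₂ c₂) x) = p x := fun x => by
        simp [hp, C.E_apply hr hv₂r, C.cb_T, hv₂r, hr, -app_apply]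
      have hz2 : ∀ x, C.cb 0 z (app (C.E 0 r v₂ c₂) x) = C.cb 0 z x + η • p x := fun x => by
        simp [hp, C.E_apply hr hv₂r, C.cb_T, hv₂z, hrz, -app_apply]
      have hsk : Y0 (p y) (p x) ^ q = -Y0 (p x) (p y) := by
        simp only [hY0]; rw [S.skew (T 0 (p y) r) (T 0 (p x) r), neg_neg]
      simp only [Pi.sub_apply, C.lft_apply, W, hp2, hz2, hY0, map_add, map_smul,
        LinearMap.add_apply, LinearMap.smul_apply, S.add_right C.hF, S.smul_right, ← hp]
      simp only [hY0] at hsk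
      have hηq : η ^ q = -γ / s := by rw [hη, Unitary.pow_q_pow_q C.hF]
      simp only [mul_add, mul_sub, mul_pow, Unitary.add_pow_q C.hF, Unitary.sub_pow_q C.hF,
        Unitary.pow_q_pow_q C.hF, hsk, hsq, hηq]
      simp only [div_pow, Unitary.neg_pow_q C.hF, hsq, neg_div_neg_eq]
      field_simp
      linear_combination -(B (T 0 (p x) r) (T 0 (p y) r)) * hγ
    -- the operators towards `v`
    intro v hv a a'
    have hsym : ∀ v, C.h v r = 0 → ∀ a a',
        B (T 0 a r) (T 0 a' v) + B (T 0 a' r) (T 0 a v) ^ q = 0 := by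
      intro v hv a a'
      obtain ⟨c, hc⟩ := C.exists_trace v
      have h0 := hno r hr0 hr (fun a a' =>
        s * (B (T 0 a r) (T 0 a' v) + B (T 0 a' r) (T 0 a v) ^ q)) (by
        convert hE v c hv hc using 1
        funext x y
        simp only [C.lft_apply, W, hY00, Pi.zero_apply, ← hp, sub_zero, mul_zero, add_zero, mul_pow,
          hsq]
        ring)
      have := congrFun (congrFun h0 a) a'
      exact (mul_eq_zero.1 this).resolve_left hs0
    obtain ⟨ν, hν⟩ := C.exists_ne_conj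
    have h1 := hsym v hv a a'
    have h2 := hsym (ν • v) (by rw [C.H.smul_left, hv, mul_zero]) a a'
    rw [map_smul, map_smul, S.smul_right, S.smul_right, mul_pow, Unitary.pow_q_pow_q C.hF] at h2
    exact (mul_eq_zero.1 (show (ν ^ q - ν) * B (T 0 a r) (T 0 a' v) = 0 by
      linear_combination h2 - ν * h1)).resolve_left (sub_ne_zero.2 hν)
  -- the operator of an isotropic point
  have hform : ∀ r, r ≠ 0 → C.h r r = 0 → ∀ r', C.h r' r = 1 → ∀ a a' w,
      B (T 0 a r) (T 0 a' w) = C.h r w * B (T 0 a r) (T 0 a' r') := by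
    intro r hr0 hr r' hr' a a' w
    have h := hperp r hr0 hr (w - C.h w r • r')
      (by rw [C.H.sub_left, C.H.smul_left, hr', mul_one, sub_self]) a a'
    rw [map_sub, map_smul, S.sub_right C.hF, S.smul_right, ← C.H.conj_symm, sub_eq_zero] at h
    exact h
  have hpair : ∀ r r', r ≠ 0 → C.h r r = 0 → C.h r' r' = 0 → C.h r' r ≠ 0 →
      ∀ Y : (J m t → F) → (J m t → F) → F,
      (∀ a a' w, B (T 0 a r) (T 0 a' w) = C.h r w * Y a a') →
      ∀ a a' w, B (T 0 a r') (T 0 a' w) = C.h r' w * -(Y a' a) ^ q := by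
    intro r r' hr0 hr hr' hne Y hY a a' w
    have hr'0 : r' ≠ 0 := fun h => hne (by rw [h, C.H.zero_left])
    set r'' := (C.h r r')⁻¹ • r
    have hrr' : C.h r r' ≠ 0 := fun h => hne ((C.H.eq_zero_symm C.hF).1 h)
    have h1 : C.h r'' r' = 1 := by rw [C.H.smul_left, inv_mul_cancel₀ hrr']
    rw [hform r' hr'0 hr' r'' h1]
    congr 1
    rw [map_smul, S.smul_right, inv_pow, ← C.H.conj_symm, S.skew (T 0 a' r) (T 0 a r'), hY, mul_pow,
      ← C.H.conj_symm, ← mul_neg, ← mul_assoc, inv_mul_cancel₀ hne, one_mul]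
  obtain ⟨r₀, hr00, hr0⟩ := C.exists_iso
  obtain ⟨r₁, hr1, h10, h01, -⟩ := C.exists_partner hr00 hr0
  set Y : (J m t → F) → (J m t → F) → F := fun a a' => B (T 0 a r₀) (T 0 a' r₁) with hYdef
  have hY0 : ∀ a a' w, B (T 0 a r₀) (T 0 a' w) = C.h r₀ w * Y a a' :=
    hform r₀ hr00 hr0 r₁ h10
  have hY1 := hpair r₀ r₁ hr00 hr0 hr1 (by rw [h10]; exact one_ne_zero) Y hY0
  have hskew : ∀ a a', Y a a' = -(Y a' a) ^ q := by
    intro a a'
    set r₂ := r₀ + s • r₁ with hr2def
    have e20 : C.h r₂ r₀ = s := by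
      rw [hr2def, C.H.add_left, C.H.smul_left, hr0, h10]; ring
    have e21 : C.h r₂ r₁ = 1 := by rw [hr2def, C.H.add_left, C.H.smul_left, hr1, h01]; ring
    have e22 : C.h r₂ r₂ = 0 := by
      rw [show C.h r₂ r₂ = C.h r₂ (r₀ + s • r₁) from congrArg _ hr2def, C.H.add_right C.hF,
        C.H.smul_right, e20, e21, mul_one, hs]
    have r10 : r₁ ≠ 0 := fun h => by rw [h, C.H.zero_left] at h10; exact zero_ne_one h10
    have a1 := hpair r₀ r₂ hr00 hr0 e22 (by rw [e20]; exact hs0) Y hY0 a a' r₁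
    have a2 := hpair r₁ r₂ r10 hr1 e22 (by rw [e21]; exact one_ne_zero)
      (fun a a' => -(Y a' a) ^ q) (fun a a' w => hY1 a a' w) a a' r₁
    rw [a1, e21, one_mul, one_mul, Unitary.neg_pow_q C.hF, neg_neg, Unitary.pow_q_pow_q C.hF] at a2
    exact a2.symm
  have hall : ∀ r, C.h r r = 0 → ∀ a a' w, B (T 0 a r) (T 0 a' w) = C.h r w * Y a a' := by
    intro r hr
    by_cases hr00' : r = 0
    · intro a a' w; simp [hr00', S.zero_left, C.H.zero_left]
    by_cases hne : C.h r r₀ = 0
    · obtain ⟨d, hd, hdr, hd0⟩ :=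
        C4.Herm.exists_nonorth C.hF C.H C.nd hr00' hr hr00 hne
      have hd00 : d ≠ 0 := fun h => hd0 (by rw [h, C.H.zero_left])
      intro a a' w
      rw [hpair d r hd00 hd hr (fun h => hdr ((C.H.eq_zero_symm C.hF).1 h)) Y (fun a a' w => by
        rw [hpair r₀ d hr00 hr0 hd hd0 Y hY0, ← hskew]), ← hskew]
    · intro a a' w
      rw [hpair r₀ r hr00 hr0 hr hne Y hY0, ← hskew]
  refine ⟨Y, fun a u a' w => ?_⟩
  have hu := C4.Herm.mem_span_iso C.hF C.H C.nd (by have := C.hm; omega) u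
  induction hu using Submodule.span_induction with
  | mem r hr => rw [hall r hr, mul_comm]
  | zero => simp [S.zero_left, C.H.zero_left]
  | add x y _ _ hx hy => rw [map_add, S.add_left, hx, hy, C.H.add_left, mul_add]
  | smul c x _ hx => rw [map_smul, S.smul_left, hx, C.H.smul_left, mul_left_comm]

/-- A nonscalar member gives a pure transvection or a nonscalar member trivial in some position. -/
theorem pure_or_triv : ∀ t {V : AddSubgroup ((J m (t + 1) → F) → (J m (t + 1) → F) → F)},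
    C.Inv V → ∀ {B}, B ∈ V → (¬ ∃ c : F, ∀ x y, B x y = c * C.fV (t + 1) x y) →
    (∃ p c, C.Pure (t + 1) p ∧ c ≠ 0 ∧ C.rk (t + 1) p c ∈ V) ∨
      ∃ j, ∃ B' ∈ V, (¬ ∃ c : F, ∀ x y, B' x y = c * C.fV (t + 1) x y) ∧ C.Triv j B' := by
  intro t
  induction t with
  | zero =>
    intro V hV B hB hns
    rcases C.dich hV with ⟨r, hr0, hr, Y, hY, hYV⟩ | htriv
    · obtain ⟨r', hr', h1, h2, -⟩ := C.exists_partner hr0 hr
      have S := hV.1 _ hYV
      have hY' : ∀ a a', Y a a' = a default * (a' default ^ q * Y 1 1) := fun a a' => by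
        have e : ∀ a : J m 0 → F, a = a default • (1 : J m 0 → F) := fun a => funext fun f => by
          rw [Subsingleton.elim f default]; simp
        have h := congrArg₂ (fun x y => C.lft 0 r Y x y)
          (congrArg (fun z => T 0 z r') (e a)) (congrArg (fun z => T 0 z r') (e a'))
        simp only [map_smul, LinearMap.smul_apply, S.smul_left, S.smul_right] at h
        simpa [C.lft_apply, C.cb_T, h1] using h
      refine .inl ⟨T 0 1 r, Y 1 1, C.pure_T 0 (fun h => one_ne_zero (congrFun h default)) hr0 hr,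
        fun h => hY (funext fun a => funext fun a' => by rw [hY', h]; simp), ?_⟩
      convert hYV using 1
      rw [← C.lft_rk]
      congr 1
      funext a a'
      simp only [rk, C.fV_zero_eq, Pi.one_apply, one_pow, mul_one]
      rw [hY' a a']
      ring
    · exact .inr ⟨0, B, hB, hns, htriv B hB⟩
  | succ t ih =>
    intro V hV B hB hns
    rcases C.dich hV with ⟨r, hr0, hr, Y, hY, hYV⟩ | htriv
    swap
    · exact .inr ⟨0, B, hB, hns, htriv B hB⟩
    obtain ⟨r', hr', h1, h2, -⟩ := C.exists_partner hr0 hr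
    have hlns : ∀ Y, Y ≠ 0 → ¬ ∃ c : F, ∀ x y, C.lft 0 r Y x y = c * C.fV (t + 2) x y := by
      rintro Y hY ⟨c, hc⟩
      refine hY (funext fun a => funext fun a' => ?_)
      have e := hc (T 0 a r') (T 0 a' r')
      rw [C.lft_apply, C.cb_T, C.cb_T, h1, one_smul, one_smul, C.fV_T, hr', mul_zero, mul_zero] at e
      exact e
    have hcb : ∀ (j : Fin (t + 1)) a u, C.cb 0 r (T j.succ a u) = T j (C.cb 0 r a) u := fun j a u =>
      LinearMap.congr_fun (lin_ext 0 (f := C.cb 0 r ∘ₗ (T j.succ).flip u)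
        (g := (T j).flip u ∘ₗ C.cb 0 r) fun z w => by
          simp [T_succ_T, C.cb_T]) a
    have htlift : ∀ (j : Fin (t + 1)) (Y : (J m (t + 1) → F) → (J m (t + 1) → F) → F),
        C.Triv j Y → C.Triv j.succ (C.lft 0 r Y) := fun j Y ⟨Y', hY'⟩ =>
      ⟨C.lft 0 r Y', fun a u a' w => by
        rw [C.lft_apply, hcb, hcb, hY']; rfl⟩
    by_cases hsc : ∃ c : F, ∀ x y, Y x y = c * C.fV (t + 1) x y
    · obtain ⟨c, hc⟩ := hsc
      refine .inr ⟨_, _, hYV, hlns Y hY, htlift 0 Y ⟨fun a a' => c * C.fV t a a', fun a u a' w => ?_⟩⟩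
      rw [hc, C.fV_T]; ring
    have hcbkr : ∀ (g : GL (J m (t + 1)) F) x,
        C.cb 0 r (app (kr 0 g 1) x) = app g (C.cb 0 r x) := fun g x =>
      LinearMap.congr_fun (lin_ext 0 (f := C.cb 0 r ∘ₗ (app (kr 0 g 1)).toLinearMap)
        (g := (app g).toLinearMap ∘ₗ C.cb 0 r) fun z w => by
          simp [app_kr, C.cb_T, -app_apply]) x
    have hV' : C.Inv (V.comap (C.lft 0 r)) := by
      refine ⟨fun Y hY => ?_, fun g hg Y hY => ?_⟩
      · have S := hV.1 _ hY
        refine ⟨fun x y z => ?_, fun c x z => ?_, fun x y => ?_⟩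
        · simpa [C.lft_apply, C.cb_T, h1, map_add] using S.add_left (T 0 x r') (T 0 y r') (T 0 z r')
        · simpa [C.lft_apply, C.cb_T, h1, map_smul] using S.smul_left c (T 0 x r') (T 0 z r')
        · simpa [C.lft_apply, C.cb_T, h1] using S.skew (T 0 x r') (T 0 y r')
      · have := hV.2 _ (C.kr_left_mem_ust 0 hg) _ hY
        refine AddSubgroup.mem_comap.2 ?_
        convert this using 1
        funext x y
        simp only [C.lft_apply, hcbkr]
    rcases ih hV' (show Y ∈ V.comap (C.lft 0 r) from hYV) hsc with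
      ⟨p, c, hp, hc, hpV⟩ | ⟨j, B', hB', hns', hj⟩
    · exact .inl ⟨_, c, C.pure_T 0 hp hr0 hr, hc, C.lft_rk 0 r p c ▸ hpV⟩
    · exact .inr ⟨_, _, hB', hlns _ (fun h => hns' ⟨0, fun x y => by simp [h]⟩), htlift j B' hj⟩

end Ctx

end Cfsg.Agent.C7U
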