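import Cfsg.Agent.Lib.C7U.Pure
import Cfsg.Agent.Lib.C4.Unitary.Gen

/-!
# One nonscalar root on top of the special unitary group of the other positions

If `M` contains `A ⊗ 1` for all special isometries `A` of the positions other than `i` and a
nonscalar root element in position `i`, it is the special unitary group: this is the generation
theorem for a tensor product of two hermitian spaces, carried to standard coordinates.
-/

set_option autoImplicit false
set_option linter.unusedSectionVars false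

namespace Cfsg.Agent.C7U

open Matrix Module Cfsg.Agent.Transvect Cfsg.Agent.C7
open Cfsg.Agent.Unitary (IsHerm Nondeg Orthonormal suGL)
open Cfsg.Agent.C4.Herm (fl fl_apply Iso)
open scoped MatrixGroups

lemma app_reindex {F : Type*} [Field F] {κ ι : Type} [Fintype κ] [DecidableEq κ] [Fintype ι]
    [DecidableEq ι] (e : κ ≃ ι) (g : GL κ F) (x : ι → F) :
    app (Cfsg.Geo.glReindex e g) x = (app g (x ∘ e)) ∘ e.symm := by
  funext k
  simp only [app_apply, Cfsg.Geo.glReindex, Units.coe_mapEquiv, Matrix.mulVec, dotProduct,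
    Function.comp_apply]
  rw [← e.sum_comp]
  simp

lemma reindex_mem_sl {F : Type*} [Field F] {κ ι : Type} [Fintype κ] [DecidableEq κ] [Fintype ι]
    [DecidableEq ι] (e : κ ≃ ι) (g : GL κ F) :
    Cfsg.Geo.glReindex e g ∈ Cfsg.Geo.specialLinear ι F ↔ g ∈ Cfsg.Geo.specialLinear κ F := by
  rw [mem_sl_iff, mem_sl_iff]
  simp [Cfsg.Geo.glReindex]

namespace Ctx

variable {F : Type*} [Field F] [Fintype F] {q m : ℕ} (C : Ctx F q m)

include C

/-- Standard coordinates for the tensor power. -/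
lemma exists_coord (t : ℕ) {N : ℕ} (eJ : J m t ≃ Fin N) :
    ∃ P : GL (Fin N) F, ∀ x y : J m t → F,
      Cfsg.hermForm N F q (app P (x ∘ eJ.symm)) (app P (y ∘ eJ.symm)) = C.fV t x y := by
  have hd : finrank F (J m t → F) = N := by
    rw [Module.finrank_fintype_fun_eq_card, Fintype.card_congr eJ, Fintype.card_fin]
  obtain ⟨c, hc, -⟩ := Unitary.exists_orthonormal_extend C.hF (C.fV_herm t) (C.fV_nondeg t)
    (k := 0) (b := Fin.elim0) ⟨fun i => i.elim0, fun i => i.elim0⟩ (Nat.zero_le _) (n := N) hd.ge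
  let L : (Fin N → F) →ₗ[F] (Fin N → F) :=
    (LinearMap.pi fun k => flG (C.fV_herm t) (c k)) ∘ₗ LinearMap.funLeft F F eJ
  have hexp := fun x : J m t → F => hc.eq_sum_of_card (C.fV_herm t) (by rw [Fintype.card_fin, hd]) x
  have hLi : Function.Injective L := fun x y h => by
    have hk : ∀ k, C.fV t (x ∘ eJ) (c k) = C.fV t (y ∘ eJ) (c k) := fun k => congrFun h k
    have : x ∘ eJ = y ∘ eJ := by rw [hexp (x ∘ eJ), hexp (y ∘ eJ)]; simp only [hk]
    exact eJ.surjective.injective_comp_right this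
  obtain ⟨P, hP⟩ := C7.exists_gl L hLi
  refine ⟨P, fun x y => ?_⟩
  rw [hP, hP]
  conv_rhs => rw [hexp x, hexp y, hc.inner_sum C.hF (C.fV_herm t)]
  simp [L, Cfsg.hermForm, Function.comp_def, LinearMap.funLeft]

/-- A nonscalar root and the special unitary group of the other positions give everything. -/
theorem su_le_of_root {t : ℕ} {M : Subgroup (GL (J m (t + 2)) F)} (hM : C.ust (t + 2) ≤ M)
    (hMK : M ≤ C.su (t + 2)) (i : Fin (t + 2)) (hsu : ∀ A ∈ C.su (t + 1), kr i A 1 ∈ M)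
    {K : (J m (t + 1) → F) →ₗ[F] (J m (t + 1) → F)} {b : Fin m → F} (hb0 : b ≠ 0)
    (hb : C.h b b = 0) (hK : rt i K b (fl C.H b) ∈ M) (hns : ¬ ∃ c : F, ∀ a, K a = c • a) :
    C.su (t + 2) ≤ M := by
  let eJ : J m (t + 2) ≃ Fin (m ^ (t + 2)) := Fintype.equivFinOfCardEq (by simp)
  let eT : J m (t + 1) ≃ Fin (m ^ (t + 1)) := Fintype.equivFinOfCardEq (by simp)
  obtain ⟨P, hP⟩ := C.exists_coord (t + 2) eJ
  let e : Fin (m ^ (t + 2)) ≃ Fin (m ^ (t + 1)) × Fin m := eJ.symm.trans
    ((Fin.insertNthEquiv (fun _ => Fin m) i).symm.trans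
      ((Equiv.prodComm _ _).trans (eT.prodCongr (Equiv.refl _))))
  let h₁ : (Fin (m ^ (t + 1)) → F) → (Fin (m ^ (t + 1)) → F) → F :=
    fun a a' => C.fV (t + 1) (a ∘ eT) (a' ∘ eT)
  let D : C4.TData (Fin (m ^ (t + 2))) F (m ^ (t + 1)) m := ⟨e, P⟩
  have hDT : ∀ a w, D.T a w = app P (T i (a ∘ eT) w ∘ eJ.symm) := fun a w => by
    show app P _ = _
    congr 1
  have h3 : 3 ≤ m ^ (t + 1) := C.hm.trans (Nat.le_self_pow (Nat.succ_ne_zero t) m)
  let U : C4.UData0 F q (m ^ (t + 2)) (m ^ (t + 1)) m :=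
    { D := D
      h₁ := h₁
      h₂ := C.h
      hF := C.hF
      H₁ := ⟨fun x y z => (C.fV_herm _).add_left _ _ _, fun c x z => (C.fV_herm _).smul_left c _ _,
        fun x y => (C.fV_herm _).conj_symm _ _⟩
      nd₁ := fun x hx => eT.surjective.injective_comp_right (C.fV_nondeg _ (x ∘ eT) fun y => by
        have := hx (y ∘ eT.symm)
        simpa [h₁, Function.comp_def] using this)
      H₂ := C.H
      nd₂ := C.nd
      tensor := fun a w a' w' => by rw [hDT, hDT, hP, C.fV_T]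
      two_le := by omega
      three_le := C.hm
      exc := fun h => by omega }
  let Φ : GL (J m (t + 2)) F →* GL (Fin (m ^ (t + 2))) F :=
    (MulAut.conj P).toMonoidHom.comp (Cfsg.Geo.glReindex eJ).toMonoidHom
  have hΦ : ∀ g x, app (Φ g) (app P (x ∘ eJ.symm)) = app P (app g x ∘ eJ.symm) := fun g x => by
    show app (P * Cfsg.Geo.glReindex eJ g * P⁻¹) _ = _
    rw [map_mul, map_mul, LinearEquiv.mul_apply, LinearEquiv.mul_apply, app_inv_app, app_reindex]
    simp [Function.comp_def, -app_apply]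
  have hsurj : ∀ y, ∃ x, app P (x ∘ eJ.symm) = y := fun y =>
    ⟨app P⁻¹ y ∘ eJ, by simp [Function.comp_def, -app_apply]⟩
  have hΦsu : ∀ g ∈ C.su (t + 2), Φ g ∈ suGL (m ^ (t + 2)) F q := by
    intro g hg
    refine U.mem_suGL_of_iso (fun x y => ?_) ?_
    · obtain ⟨x, rfl⟩ := hsurj x
      obtain ⟨y, rfl⟩ := hsurj y
      rw [hΦ, hΦ, hP, hP, hg.1]
    · show P * Cfsg.Geo.glReindex eJ g * P⁻¹ ∈ Cfsg.Geo.specialLinear _ F
      rw [mem_sl_iff, Units.val_mul, Units.val_mul, Matrix.det_units_conj, ← mem_sl_iff,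
        reindex_mem_sl]
      exact hg.2
  have hΦi : Function.Injective Φ :=
    (MulAut.conj P).injective.comp (Cfsg.Geo.glReindex eJ).injective
  set M' := M.map Φ
  have hMK' : M' ≤ suGL (m ^ (t + 2)) F q := by
    rintro _ ⟨g, hg, rfl⟩; exact hΦsu g (hMK hg)
  have hHM : U.KrMem M' := by
    intro A B hA hB hAs hBs
    set A' := Cfsg.Geo.glReindex eT.symm A
    have hA'1 : ∀ x, app A' x = app A (x ∘ eT.symm) ∘ eT := fun x => app_reindex eT.symm A x
    have hA'i : A' ∈ C.isoJ (t + 1) := fun x y => by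
      rw [hA'1, hA'1]
      refine (hA (x ∘ eT.symm) (y ∘ eT.symm)).trans ?_
      simp [U, h₁, Function.comp_def]
    refine ⟨kr i A' 1 * kr i 1 B, mul_mem (hsu A' ⟨hA'i, (reindex_mem_sl _ _).2 hAs⟩)
      (hM (C.kr_one_mem_ust i hB hBs)), D.gl_ext_T fun a w => ?_⟩
    show _ = app (D.kr A B) _
    rw [D.app_kr, hDT, hDT, hΦ]
    simp [map_mul, app_kr, hA'1, Function.comp_def, -app_apply]
  let k : (Fin (m ^ (t + 1)) → F) →ₗ[F] (Fin (m ^ (t + 1)) → F) :=
    LinearMap.funLeft F F eT.symm ∘ₗ K ∘ₗ LinearMap.funLeft F F eT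
  have hk : k ∈ U.kSet M' hb := by
    refine ⟨_, hK, D.gl_ext_T fun a w => ?_⟩
    have hb' : (fl C.H b) b = 0 := hb
    show _ = app (D.rt k b (fl C.H b)) _
    rw [D.rt_apply hb', D.ct_T, map_smul, map_smul, LinearMap.smul_apply, hDT, hDT, hΦ,
      rt_T hb']
    simp only [k, LinearMap.comp_apply, ← map_smul, ← map_add]
    congr 1
    funext f
    simp [LinearMap.funLeft, Function.comp_def]
  have hkns : ¬ ∃ c : F, ∀ a, k a = c • a := fun ⟨c, hc⟩ => hns ⟨c, fun a => funext fun f => by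
    have := congrFun (hc (a ∘ eT.symm)) (eT f)
    simpa [k, LinearMap.funLeft, Function.comp_def] using this⟩
  have hcard : 4 ≤ m ^ (t + 2) := by
    have := C.hm
    rw [pow_succ]
    nlinarith
  have hle := Unitary.le_of_centres C.hF (Or.inl hcard) fun v hv =>
    U.all_centres hMK' (fun r b' hr hb' => U.pure_iso_centres hHM hMK' hb0 hb hk hkns r b' hr hb') hv
  intro g hg
  obtain ⟨g', hg', he⟩ := hle (hΦsu g hg)
  rwa [← hΦi he]

end Ctx

end Cfsg.Agent.C7U
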