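import Cfsg.Agent.Lib.C7.Wreath
import Cfsg.Agent.Lib.C4.Unitary.Herm

/-!
# The tensor power of a hermitian form

`Ctx` holds the factor `(F^m, h)`; `C.fV t` is the form on the `t`-th tensor power, `C.isoJ t` its
isometry group.
-/

set_option autoImplicit false
set_option linter.unusedSectionVars false

namespace Cfsg.Agent.C7U

open Matrix Module Cfsg.Agent.Transvect Cfsg.Agent.C7
open Cfsg.Agent.Unitary (IsHerm Nondeg)
open Cfsg.Agent.C4.Herm (fl fl_apply)
open scoped MatrixGroups

/-- A nondegenerate hermitian factor of dimension at least three, four if `q = 2`. -/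
structure Ctx (F : Type*) [Field F] [Fintype F] (q m : ℕ) where
  h : (Fin m → F) → (Fin m → F) → F
  hF : Fintype.card F = q ^ 2
  H : IsHerm q h
  nd : Nondeg h
  hm : 3 ≤ m
  exc : q = 2 → 4 ≤ m

section Perp

variable {F : Type*} [Field F] [Fintype F] {q : ℕ} {κ : Type*} [Fintype κ]
  {f : (κ → F) → (κ → F) → F}

/-- `x ↦ f x v`. -/
def flG (H : IsHerm q f) (v : κ → F) : (κ → F) →ₗ[F] F where
  toFun x := f x v
  map_add' x y := H.add_left x y v
  map_smul' c x := H.smul_left c x v

@[simp] lemma flG_apply (H : IsHerm q f) (v x : κ → F) : flG H v x = f x v := rfl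

/-- The vectors orthogonal to `W`. -/
def perpS (H : IsHerm q f) (W : Submodule F (κ → F)) : Submodule F (κ → F) where
  carrier := {x | ∀ y ∈ W, f x y = 0}
  add_mem' hx hy z hz := by rw [H.add_left, hx z hz, hy z hz, add_zero]
  zero_mem' z _ := H.zero_left z
  smul_mem' c x hx z hz := by rw [H.smul_left, hx z hz, mul_zero]

lemma mem_perpS {H : IsHerm q f} {W : Submodule F (κ → F)} {x : κ → F} :
    x ∈ perpS H W ↔ ∀ y ∈ W, f x y = 0 := Iff.rfl

lemma finrank_perpS (hF : Fintype.card F = q ^ 2) (H : IsHerm q f) (hnd : Nondeg f)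
    (W : Submodule F (κ → F)) :
    finrank F (perpS H W) + finrank F W = Fintype.card κ := by
  set b := Module.finBasis F W
  set Φ : (κ → F) →ₗ[F] (Fin (finrank F W) → F) := LinearMap.pi fun i => flG H (b i) with hΦ
  have hker : LinearMap.ker Φ = perpS H W := by
    refine le_antisymm (fun x hx y hy => ?_) fun x hx => ?_
    · have h1 := congrArg W.subtype (b.sum_repr ⟨y, hy⟩)
      simp only [map_sum, map_smul, Submodule.subtype_apply] at h1
      rw [← h1, H.sum_right hF]
      refine Finset.sum_eq_zero fun i _ => ?_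
      rw [H.smul_right, show f x (b i) = 0 from congrFun (LinearMap.mem_ker.1 hx) i, mul_zero]
    · exact LinearMap.mem_ker.2 (funext fun i => hx _ (b i).2)
  have hsurj : LinearMap.range Φ = ⊤ := by
    by_contra hne
    obtain ⟨φ, hφ0, hφ⟩ := Submodule.exists_le_ker_of_lt_top _ (lt_top_iff_ne_top.2 hne)
    set v : κ → F := ∑ i, (φ (Pi.single i 1)) ^ q • (b i : κ → F) with hv
    have hv0 : v = 0 := hnd v fun x => (H.eq_zero_symm hF).1 (by
      rw [hv, H.sum_right hF]
      have h1 : φ (Φ x) = 0 := hφ (LinearMap.mem_range_self Φ x)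
      rw [pi_eq_sum_univ' (Φ x), map_sum] at h1
      rw [← h1]
      refine Finset.sum_congr rfl fun i _ => ?_
      rw [H.smul_right, Cfsg.Agent.Unitary.pow_q_pow_q hF, map_smul, smul_eq_mul, mul_comm]
      rfl)
    refine hφ0 (LinearMap.ext fun y => ?_)
    have h2 : ∀ i, φ (Pi.single i 1) = 0 := fun i => by
      have := Fintype.linearIndependent_iff.1 b.linearIndependent
        (fun i => (φ (Pi.single i 1)) ^ q) (Subtype.ext (by simpa [hv] using hv0)) i
      exact (Cfsg.Agent.Unitary.pow_q_eq_zero hF).1 this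
    conv_lhs => rw [pi_eq_sum_univ' y]
    simp [h2]
  have h := LinearMap.finrank_range_add_finrank_ker Φ
  rw [hker, hsurj, finrank_top, Module.finrank_fintype_fun_eq_card,
    Module.finrank_fintype_fun_eq_card, Fintype.card_fin] at h
  omega

end Perp

namespace Ctx

variable {F : Type*} [Field F] [Fintype F] {q m : ℕ} (C : Ctx F q m) {t s : ℕ}

/-- The tensor power of `h`. -/
def fV (t : ℕ) (x y : J m t → F) : F :=
  ∑ a, ∑ b, x a * (∏ p, Cfsg.Geo.gramMatrix C.h (a p) (b p)) * y b ^ q

include C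

lemma hfun_eq (x y : Fin m → F) :
    ∑ c, ∑ d, x c * Cfsg.Geo.gramMatrix C.h c d * y d ^ q = C.h x y := by
  conv_rhs => rw [pi_eq_sum_univ' x, pi_eq_sum_univ' y]
  simp only [C.H.sum_left, C.H.sum_right C.hF, C.H.smul_left, C.H.smul_right,
    Cfsg.Geo.gramMatrix]
  exact Finset.sum_congr rfl fun a _ => Finset.sum_congr rfl fun b _ => by ring

lemma fV_herm (t : ℕ) : IsHerm q (C.fV t) := by
  refine ⟨fun x y z => ?_, fun c x z => ?_, fun x y => ?_⟩
  · simp only [fV, Pi.add_apply, add_mul, Finset.sum_add_distrib]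
  · simp only [fV, Pi.smul_apply, smul_eq_mul, Finset.mul_sum]
    exact Finset.sum_congr rfl fun a _ => Finset.sum_congr rfl fun b _ => by ring
  · simp only [fV, Cfsg.Agent.Unitary.sum_pow_q C.hF]
    rw [Finset.sum_comm]
    refine Finset.sum_congr rfl fun a _ => Finset.sum_congr rfl fun b _ => ?_
    rw [mul_pow, mul_pow, Cfsg.Agent.Unitary.pow_q_pow_q C.hF, ← Finset.prod_pow]
    simp only [Cfsg.Geo.gramMatrix, ← C.H.conj_symm]
    ring

lemma fV_T (i : Fin (t + 1)) (a a' : J m t → F) (u u' : Fin m → F) :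
    C.fV (t + 1) (T i a u) (T i a' u') = C.fV t a a' * C.h u u' := by
  simp only [fV]
  rw [← (Fin.insertNthEquiv (fun _ => Fin m) i).sum_comp]
  simp only [← (Fin.insertNthEquiv (fun _ => Fin m) i).sum_comp (fun b => _ * T i a' u' b ^ q)]
  rw [← C.hfun_eq u u', Finset.sum_mul_sum, Fintype.sum_prod_type, Finset.sum_comm]
  refine Finset.sum_congr rfl fun g _ => Finset.sum_congr rfl fun c _ => ?_
  rw [Fintype.sum_prod_type, Finset.sum_mul_sum, Finset.sum_comm]
  refine Finset.sum_congr rfl fun g' _ => Finset.sum_congr rfl fun d _ => ?_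
  simp only [Fin.insertNthEquiv, Equiv.coe_fn_mk, T_ins, Fin.prod_univ_succAbove _ i,
    Fin.insertNth_apply_same, Fin.insertNth_apply_succAbove, mul_pow]
  ring

/-- The contraction of position `i` with `b`. -/
def cb (i : Fin (t + 1)) (b : Fin m → F) : (J m (t + 1) → F) →ₗ[F] (J m t → F) :=
  ct i (fl C.H b)

@[simp] lemma cb_T (i : Fin (t + 1)) (b : Fin m → F) (a : J m t → F) (w : Fin m → F) :
    C.cb i b (T i a w) = C.h w b • a := ct_T i _ a w

lemma cb_add (i : Fin (t + 1)) (b b' : Fin m → F) (x : J m (t + 1) → F) :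
    C.cb i (b + b') x = C.cb i b x + C.cb i b' x := by
  rw [cb, cb, cb, ← ct_add]
  congr 2
  exact LinearMap.ext fun y => C.H.add_right C.hF y b b'

lemma cb_smul (i : Fin (t + 1)) (c : F) (b : Fin m → F) (x : J m (t + 1) → F) :
    C.cb i (c • b) x = c ^ q • C.cb i b x := by
  rw [cb, cb, ← ct_smul]
  congr 2
  exact LinearMap.ext fun y => C.H.smul_right c y b

lemma fV_right (i : Fin (t + 1)) (x : J m (t + 1) → F) (a : J m t → F) (w : Fin m → F) :
    C.fV (t + 1) x (T i a w) = C.fV t (C.cb i w x) a :=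
  LinearMap.congr_fun (lin_ext i (f := flG (C.fV_herm (t + 1)) (T i a w))
    (g := flG (C.fV_herm t) a ∘ₗ C.cb i w) fun a' w' => by
      simp only [flG_apply, LinearMap.comp_apply, cb_T, fV_T, (C.fV_herm t).smul_left, mul_comm]) x

lemma fV_left (i : Fin (t + 1)) (x : J m (t + 1) → F) (a : J m t → F) (w : Fin m → F) :
    C.fV (t + 1) (T i a w) x = C.fV t a (C.cb i w x) := by
  rw [(C.fV_herm _).conj_symm x, fV_right, ← (C.fV_herm _).conj_symm]

lemma fV_lc (i : Fin (t + 1)) (x : J m (t + 1) → F) (a : J m t → F) (w : Fin m → F) :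
    C.fV (t + 1) x (T i a w) = C.h (lc i (flG (C.fV_herm t) a) x) w :=
  LinearMap.congr_fun (lin_ext i (f := flG (C.fV_herm (t + 1)) (T i a w))
    (g := fl C.H w ∘ₗ lc i (flG (C.fV_herm t) a)) fun a' w' => by
      simp only [flG_apply, LinearMap.comp_apply, lc_T, fl_apply, fV_T, C.H.smul_left,
        flG_apply]) x

lemma fV_nondeg : ∀ t, Nondeg (C.fV t) := by
  intro t
  induction t with
  | zero =>
    intro x hx
    funext a
    have h1 := hx (Pi.single a 1)
    simp only [fV, Fintype.sum_unique] at h1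
    rw [Subsingleton.elim (default : J m 0) a, Pi.single_eq_same, one_pow, mul_one] at h1
    simpa using h1
  | succ t ih =>
    intro x hx
    have hz : ∀ w, C.cb 0 w x = 0 := fun w => ih _ fun a => by rw [← C.fV_right]; exact hx _
    rw [← sum_T_single 0 x]
    refine Finset.sum_eq_zero fun c _ => ?_
    obtain ⟨w, hw⟩ := C4.Herm.exists_fl C.hF C.H C.nd (LinearMap.proj c)
    have : (fun g => x (ins 0 c g)) = C.cb 0 w x := by
      rw [cb, hw]; rfl
    rw [this, hz w]; simp

lemma card_J (t : ℕ) : Fintype.card (J m t) = m ^ t := by simp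

lemma finrank_perp (W : Submodule F (J m t → F)) :
    finrank F (perpS (C.fV_herm t) W) + finrank F W = m ^ t := by
  rw [finrank_perpS C.hF (C.fV_herm t) (C.fV_nondeg t), C.card_J]

/-- `cb i b x = 0` means orthogonality to the line. -/
lemma cb_eq_zero_iff {i : Fin (t + 1)} {b : Fin m → F} {x : J m (t + 1) → F} :
    C.cb i b x = 0 ↔ x ∈ perpS (C.fV_herm (t + 1)) (Li i b) := by
  refine ⟨?_, fun h => C.fV_nondeg t _ fun a => ?_⟩
  · rintro h _ ⟨a, rfl⟩
    show C.fV (t + 1) x (T i a b) = 0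
    rw [C.fV_right, h, (C.fV_herm t).zero_left]
  · rw [← C.fV_right]; exact h _ (T_mem_Li i a b)

/-- The isometries of the tensor power. -/
def isoJ (t : ℕ) : Subgroup (GL (J m t) F) where
  carrier := {g | ∀ x y, C.fV t (app g x) (app g y) = C.fV t x y}
  mul_mem' {a b} ha hb x y := by
    rw [map_mul, LinearEquiv.mul_apply, LinearEquiv.mul_apply, ha, hb]
  one_mem' x y := by simp
  inv_mem' {a} ha x y := by rw [← ha, app_app_inv, app_app_inv]

/-- The special isometries. -/
abbrev su (t : ℕ) : Subgroup (GL (J m t) F) :=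
  C.isoJ t ⊓ Cfsg.Geo.specialLinear (J m t) F

/-- The stabiliser of the decomposition among the special isometries. -/
abbrev ust (t : ℕ) : Subgroup (GL (J m t) F) := Wr F m t ⊓ C.su t

lemma iso_of_T (i : Fin (t + 1)) {g : GL (J m (t + 1)) F}
    (hg : ∀ a w a' w', C.fV (t + 1) (app g (T i a w)) (app g (T i a' w')) =
      C.fV t a a' * C.h w w') : g ∈ C.isoJ (t + 1) := by
  have h1 : ∀ a' w' x, C.fV (t + 1) (app g x) (app g (T i a' w')) = C.fV (t + 1) x (T i a' w') :=
    fun a' w' x => LinearMap.congr_fun (lin_ext i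
      (f := flG (C.fV_herm _) (app g (T i a' w')) ∘ₗ (app g).toLinearMap)
      (g := flG (C.fV_herm _) (T i a' w')) fun a w => by
        simp only [LinearMap.comp_apply, LinearEquiv.coe_coe, flG_apply, hg, C.fV_T]) x
  intro x y
  have H := C.fV_herm (t + 1)
  rw [H.conj_symm (app g y), H.conj_symm y]
  congr 1
  exact LinearMap.congr_fun (lin_ext i
    (f := flG H (app g x) ∘ₗ (app g).toLinearMap) (g := flG H x) fun a w => by
      simp only [LinearMap.comp_apply, LinearEquiv.coe_coe, flG_apply]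
      rw [H.conj_symm (app g x), h1, ← H.conj_symm]) y

lemma iso_map_perp {g : GL (J m t) F} (hg : g ∈ C.isoJ t) (W : Submodule F (J m t → F)) :
    (perpS (C.fV_herm t) W).map (app g).toLinearMap =
      perpS (C.fV_herm t) (W.map (app g).toLinearMap) := by
  refine le_antisymm ?_ fun x hx => ⟨app g⁻¹ x, fun y hy => ?_, app_app_inv g x⟩
  · rintro _ ⟨x, hx, rfl⟩ _ ⟨y, hy, rfl⟩
    simp only [LinearEquiv.coe_coe]
    rw [hg]; exact hx y hy
  · rw [← hg, app_app_inv]
    exact hx _ ⟨y, hy, rfl⟩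

end Ctx

end Cfsg.Agent.C7U
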