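import Cfsg.Agent.EqLemmas

/-!
# Self-normalising quadratic subgroups

An abelian `p`-subgroup `U` containing its normaliser and the centralisers of its nontrivial elements
has a normal `p'`-complement, which is trivial when the elements of `U` are quadratic.
-/

set_option autoImplicit false

namespace Cfsg.Agent.C7U

variable {G : Type*} [Group G] [Finite G]

/-- With a fixed point free `u`, every element of the coset is conjugate to `u`. -/
lemma exists_conj_eq_mul {N : Subgroup G} {u : G} (hN : ∀ n ∈ N, u * n * u⁻¹ ∈ N)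
    (hfpf : ∀ n ∈ N, u * n = n * u → n = 1) {n : G} (hn : n ∈ N) :
    ∃ b ∈ N, n * u = b * u * b⁻¹ := by
  let f : N → N := fun b => ⟨b * (u * (b : G)⁻¹ * u⁻¹), mul_mem b.2 (hN _ (inv_mem b.2))⟩
  have hf : Function.Injective f := by
    intro a b h
    have h1 : (a : G) * (u * (a : G)⁻¹ * u⁻¹) = b * (u * (b : G)⁻¹ * u⁻¹) := congrArg Subtype.val h
    refine Subtype.ext (inv_mul_eq_one.1 (hfpf _ (mul_mem (inv_mem a.2) b.2) ?_))
    have h2 : (a : G) * u * (a : G)⁻¹ = b * u * (b : G)⁻¹ := by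
      have := congrArg (· * u) h1
      simpa [mul_assoc] using this
    calc u * ((a : G)⁻¹ * b) = (a : G)⁻¹ * ((a : G) * u * (a : G)⁻¹) * b := by group
      _ = (a : G)⁻¹ * b * u := by rw [h2]; group
  obtain ⟨b, hb⟩ := (Finite.injective_iff_surjective.1 hf) ⟨n, hn⟩
  refine ⟨b, b.2, ?_⟩
  have hb' : (b : G) * (u * (b : G)⁻¹ * u⁻¹) = n := congrArg Subtype.val hb
  rw [← hb']; group

variable {A : Type*} [Ring A] {p : ℕ} [Fact p.Prime] [CharP A p] (ψ : G →* A)

/-- A quadratic element fixes a point of any nontrivial `p'`-group it normalises. -/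
lemma eq_bot_of_quadratic (hψ : Function.Injective ψ) (hp : p ≠ 2) {N : Subgroup G} {u : G}
    (hu : (ψ u - 1) * (ψ u - 1) = 0) (hN : ∀ n ∈ N, u * n * u⁻¹ ∈ N)
    (hfpf : ∀ n ∈ N, u * n = n * u → n = 1) (hcard : ¬ p ∣ Nat.card N) : N = ⊥ := by
  have hquad : ∀ n ∈ N, ψ (n * u) * ψ (n * u) = 2 * ψ (n * u) - 1 := by
    intro n hn
    obtain ⟨b, -, hb⟩ := exists_conj_eq_mul hN hfpf hn
    rw [hb, map_mul, map_mul]
    have h1 : ψ b⁻¹ * ψ b = 1 := by rw [← map_mul, inv_mul_cancel, map_one]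
    have h2 : ψ b * ψ b⁻¹ = 1 := by rw [← map_mul, mul_inv_cancel, map_one]
    have h3 : ψ u * ψ u = 2 * ψ u - 1 := by rw [← sub_eq_zero, ← hu]; noncomm_ring
    calc ψ b * ψ u * ψ b⁻¹ * (ψ b * ψ u * ψ b⁻¹)
        = ψ b * ψ u * (ψ b⁻¹ * ψ b) * ψ u * ψ b⁻¹ := by noncomm_ring
      _ = ψ b * (ψ u * ψ u) * ψ b⁻¹ := by rw [h1]; noncomm_ring
      _ = 2 * (ψ b * ψ u * ψ b⁻¹) - ψ b * ψ b⁻¹ := by rw [h3]; noncomm_ring
      _ = 2 * (ψ b * ψ u * ψ b⁻¹) - 1 := by rw [h2]
  rw [Subgroup.eq_bot_iff_forall]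
  intro c hc
  let f : N → N := fun b => ⟨u * b * u⁻¹, hN _ b.2⟩
  have hf : Function.Injective f := fun a b h =>
    Subtype.ext (mul_left_cancel (mul_right_cancel (congrArg Subtype.val h)))
  obtain ⟨⟨b, hb⟩, hbc⟩ := (Finite.injective_iff_surjective.1 hf) ⟨c, hc⟩
  have hub : u * b = c * u := by
    have : u * b * u⁻¹ = c := congrArg Subtype.val hbc
    rw [← this, inv_mul_cancel_right]
  -- the squares of `b u`, `c u` and `b c u`
  set B := ψ b
  set C := ψ c
  set U := ψ u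
  have hUB : U * B = C * U := by rw [← map_mul, hub, map_mul]
  have e1 : B * C * (U * U) = 2 * (B * U) - 1 := by
    have := hquad b hb
    rw [map_mul] at this
    rw [← this, mul_assoc B U (B * U), ← mul_assoc U B U, hUB]
    noncomm_ring
  have e2 := hquad c hc
  rw [map_mul] at e2
  have e3 : B * C * (C * U * (C * U)) = 2 * (B * C * U) - 1 := by
    have := hquad (b * c) (mul_mem hb hc)
    rw [map_mul, map_mul] at this
    rw [← this, mul_assoc (B * C) U (B * C * U),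
      show U * (B * C * U) = U * B * C * U by noncomm_ring, hUB]
    noncomm_ring
  have hU2 : U * U = 2 * U - 1 := by rw [← sub_eq_zero, ← hu]; noncomm_ring
  have key : 2 * (B * ((C - 1) * (C - 1)) * U) = 0 := by
    rw [e2] at e3
    rw [hU2] at e1
    have h1 := sub_eq_zero.2 e3
    have h2 := sub_eq_zero.2 e1
    calc 2 * (B * ((C - 1) * (C - 1)) * U)
        = (B * C * (2 * (C * U) - 1) - (2 * (B * C * U) - 1)) -
            (B * C * (2 * U - 1) - (2 * (B * U) - 1)) := by noncomm_ring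
      _ = 0 := by rw [h1, h2, sub_zero]
  have hp2 : ∃ d : A, d * 2 = 1 := by
    obtain ⟨j, hj⟩ := (Fact.out : p.Prime).odd_of_ne_two hp
    exact ⟨((j + 1 : ℕ) : A), by
      rw [← Nat.cast_two, ← Nat.cast_mul, show (j + 1) * 2 = p + 1 by omega, Nat.cast_add,
        CharP.cast_eq_zero, Nat.cast_one, zero_add]⟩
  obtain ⟨d, hd⟩ := hp2
  have hB : ψ b⁻¹ * B = 1 := by rw [← map_mul, inv_mul_cancel, map_one]
  have hU : U * ψ u⁻¹ = 1 := by rw [← map_mul, mul_inv_cancel, map_one]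
  have hC : (C - 1) * (C - 1) = 0 := by
    have h1 : B * ((C - 1) * (C - 1)) * U = 0 := by
      have := congrArg (d * ·) key
      simpa [← mul_assoc, hd] using this
    calc (C - 1) * (C - 1)
        = ψ b⁻¹ * B * ((C - 1) * (C - 1)) * (U * ψ u⁻¹) := by rw [hB, hU, one_mul, mul_one]
      _ = ψ b⁻¹ * (B * ((C - 1) * (C - 1)) * U) * ψ u⁻¹ := by noncomm_ring
      _ = 0 := by rw [h1, mul_zero, zero_mul]
  have hCp : C ^ p = 1 := by
    have h2 : 2 ≤ p := (Fact.out : p.Prime).two_le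
    have := sub_pow_char_of_commute p (Commute.one_right C)
    rw [show p = 2 + (p - 2) by omega, pow_add, pow_two, hC, zero_mul, one_pow,
      show 2 + (p - 2) = p by omega] at this
    exact sub_eq_zero.1 this.symm
  rw [← map_pow, ← map_one ψ] at hCp
  have hcp : c ^ p = 1 := hψ hCp
  by_contra hne
  refine hcard ?_
  rw [← orderOf_eq_prime hcp hne, ← Subgroup.orderOf_mk c hc]
  exact orderOf_dvd_natCard _

omit [Fact p.Prime] [CharP A p] in
/-- Two fixed point free involutions with fixed point free product. -/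
lemma eq_bot_of_involutions {N : Subgroup G} {u v : G} (hu2 : u * u = 1) (hv2 : v * v = 1)
    (hu : ∀ n ∈ N, u * n * u⁻¹ ∈ N) (hv : ∀ n ∈ N, v * n * v⁻¹ ∈ N)
    (hfu : ∀ n ∈ N, u * n = n * u → n = 1) (hfv : ∀ n ∈ N, v * n = n * v → n = 1)
    (hfuv : ∀ n ∈ N, u * v * n = n * (u * v) → n = 1) : N = ⊥ := by
  have hinv : ∀ {w : G}, w * w = 1 → (∀ n ∈ N, w * n * w⁻¹ ∈ N) →
      (∀ n ∈ N, w * n = n * w → n = 1) → ∀ n ∈ N, w * n * w⁻¹ = n⁻¹ := by
    intro w hw hwN hfw n hn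
    obtain ⟨b, -, hb⟩ := exists_conj_eq_mul hwN hfw hn
    have h : n * w * (n * w) = 1 := by
      rw [hb]
      calc b * w * b⁻¹ * (b * w * b⁻¹) = b * (w * w) * b⁻¹ := by group
        _ = 1 := by rw [hw, mul_one, mul_inv_cancel]
    refine eq_inv_of_mul_eq_one_right ?_
    rw [inv_eq_of_mul_eq_one_right hw, ← h]
    group
  rw [Subgroup.eq_bot_iff_forall]
  intro n hn
  refine hfuv n hn ?_
  have h1 := hinv hv2 hv hfv n hn
  have h2 := hinv hu2 hu hfu n⁻¹ (inv_mem hn)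
  rw [inv_inv, ← h1] at h2
  calc u * v * n = u * (v * n * v⁻¹) * u⁻¹ * (u * v) := by group
    _ = n * (u * v) := by rw [h2]

variable {U : Subgroup G}

omit [CharP A p] in
/-- An abelian self-normalising `p`-subgroup has a normal `p'`-complement. -/
lemma exists_complement (hU : IsPGroup p U) (hab : ∀ a ∈ U, ∀ b ∈ U, a * b = b * a)
    (hN : ∀ g : G, (∀ u ∈ U, g * u * g⁻¹ ∈ U) → g ∈ U) :
    ∃ N : Subgroup G, N.Normal ∧ ¬ p ∣ Nat.card N ∧ N.IsComplement' U := by
  obtain ⟨P, hP⟩ := hU.exists_le_sylow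
  have : Group.IsNilpotent (P : Subgroup G) := IsPGroup.isNilpotent P.isPGroup'
  have hPU : (P : Subgroup G) = U := by
    by_contra hne
    have hlt : U.subgroupOf P < ⊤ := lt_top_iff_ne_top.2 fun e => hne (le_antisymm
      (fun x hx => Subgroup.mem_subgroupOf.1 (e ▸ Subgroup.mem_top (⟨x, hx⟩ : (P : Subgroup G)))) hP)
    obtain ⟨x, hxN, hxU⟩ := SetLike.exists_of_lt (Group.normalizerCondition_of_isNilpotent _ hlt)
    refine hxU (Subgroup.mem_subgroupOf.2 (hN _ fun u hu => ?_))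
    exact Subgroup.mem_subgroupOf.1 ((Subgroup.mem_normalizer_iff.1 hxN ⟨u, hP hu⟩).1
      (Subgroup.mem_subgroupOf.2 hu))
  have hNC : Subgroup.normalizer (P : Set G) ≤ Subgroup.centralizer (P : Set G) := by
    intro g hg
    have hgU : g ∈ U := hN g fun u hu => by
      rw [← hPU] at hu ⊢
      exact (Subgroup.mem_normalizer_iff.1 hg u).1 hu
    exact Subgroup.mem_centralizer_iff.2 fun x hx =>
      hab x (by rw [← hPU]; exact hx) g hgU
  exact ⟨_, MonoidHom.normal_ker _, MonoidHom.not_dvd_card_ker_transferSylow P hNC,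
    hPU ▸ MonoidHom.ker_transferSylow_isComplement' P hNC⟩

include ψ in
/-- Such a subgroup of quadratic elements with fixed point free action is everything. -/
theorem eq_top_of_selfnorm (hψ : Function.Injective ψ) (hU : IsPGroup p U)
    (hab : ∀ a ∈ U, ∀ b ∈ U, a * b = b * a)
    (hN : ∀ g : G, (∀ u ∈ U, g * u * g⁻¹ ∈ U) → g ∈ U)
    (hC : ∀ u ∈ U, u ≠ 1 → ∀ g : G, u * g = g * u → g ∈ U)
    (hquad : ∀ u ∈ U, (ψ u - 1) * (ψ u - 1) = 0) {u v : G} (huU : u ∈ U) (hu1 : u ≠ 1)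
    (hv : p = 2 → v ∈ U ∧ v ≠ 1 ∧ v ≠ u) : U = ⊤ := by
  obtain ⟨N, hNn, hNp, hcomp⟩ := exists_complement hU hab hN
  have hfpf : ∀ w ∈ U, w ≠ 1 → ∀ n ∈ N, w * n = n * w → n = 1 := fun w hw hw1 n hn h =>
    Subgroup.disjoint_def.1 hcomp.disjoint hn (hC w hw hw1 n h)
  suffices hbot : N = ⊥ by
    subst hbot
    exact Subgroup.isComplement'_bot_left.1 hcomp
  by_cases hp : p = 2
  swap
  · exact eq_bot_of_quadratic ψ hψ hp (hquad u huU) (fun n hn => hNn.conj_mem n hn u)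
      (hfpf u huU hu1) hNp
  obtain ⟨hvU, hv1, hvu⟩ := hv hp
  subst hp
  have hsq : ∀ w ∈ U, w * w = 1 := fun w hw => hψ (by
    have h := hquad w hw
    have h2 : (2 : A) = 0 := by rw [← Nat.cast_two]; exact CharP.cast_eq_zero A 2
    rw [map_mul, map_one, ← sub_eq_zero]
    calc ψ w * ψ w - 1 = (ψ w - 1) * (ψ w - 1) + 2 * (ψ w - 1) := by noncomm_ring
      _ = 0 := by rw [h, h2]; noncomm_ring)
  refine eq_bot_of_involutions (hsq u huU) (hsq v hvU) (fun n hn => hNn.conj_mem n hn u)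
    (fun n hn => hNn.conj_mem n hn v) (hfpf u huU hu1) (hfpf v hvU hv1)
    (hfpf _ (mul_mem huU hvU) fun h => hvu ?_)
  rw [eq_inv_of_mul_eq_one_right h, inv_eq_of_mul_eq_one_right (hsq u huU)]

/-- If `U` has order two, the product of two involutions has odd order. -/
theorem odd_orderOf_mul {U : Subgroup G} (hcard : Nat.card U = 2)
    (hN : ∀ g : G, (∀ u ∈ U, g * u * g⁻¹ ∈ U) → g ∈ U) {x y : G}
    (hx : x * x = 1) (hy : y * y = 1) (hx1 : x ≠ 1) (hy1 : y ≠ 1) : Odd (orderOf (x * y)) := by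
  have := Fact.mk Nat.prime_two
  have hU : IsPGroup 2 U := IsPGroup.of_card (n := 1) (by rw [hcard, pow_one])
  have hab : ∀ a ∈ U, ∀ b ∈ U, a * b = b * a := by
    have : IsCyclic U := isCyclic_of_prime_card hcard
    intro a ha b hb
    have := congrArg Subtype.val (mul_comm' (⟨a, ha⟩ : U) ⟨b, hb⟩)
    exact this
  obtain ⟨N, hNn, hN2, hcomp⟩ := exists_complement (p := 2) hU hab hN
  have hidx : N.index = 2 := by rw [hcomp.symm.index_eq_card, hcard]
  have hnot : ∀ z : G, z * z = 1 → z ≠ 1 → z ∉ N := fun z hz hz1 hzN => hN2 (by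
    rw [← orderOf_eq_prime (p := 2) (by rw [pow_two, hz]) hz1, ← Subgroup.orderOf_mk z hzN]
    exact orderOf_dvd_natCard _)
  have hxy : x * y ∈ N := (Subgroup.mul_mem_iff_of_index_two hidx).2
    ⟨fun h => absurd h (hnot x hx hx1), fun h => absurd h (hnot y hy hy1)⟩
  refine (Nat.even_or_odd _).resolve_left fun h => hN2 ((even_iff_two_dvd.1 h).trans ?_)
  rw [← Subgroup.orderOf_mk _ hxy]
  exact orderOf_dvd_natCard _

end Cfsg.Agent.C7U
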