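import Cfsg.Agent.Lib.C7U.Finish

/-!
# A transvection at a pure vector generates the special unitary group

`C.Sp t` is spanned by the forms of the transvections at pure vectors. It has members acting on a
pure vector as any scalar, so vectors with one anisotropic factor are centres, and the transvections
along an orthonormal basis of one factor multiply to a transvection of the other factors.
-/

set_option autoImplicit false
set_option linter.unusedSectionVars false

namespace Cfsg.Agent.C7U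

open Matrix Module Cfsg.Agent.Transvect Cfsg.Agent.C7
open Cfsg.Agent.Unitary (IsHerm Nondeg Orthonormal)
open Cfsg.Agent.C4.Herm (fl fl_apply Iso)
open scoped MatrixGroups

namespace Ctx

variable {F : Type*} [Field F] [Fintype F] {q m : ℕ} (C : Ctx F q m) {t : ℕ}

include C

/-- Pull a form back along the contraction with `r` in position `i`. -/
def lft (i : Fin (t + 1)) (r : Fin m → F) : ((J m t → F) → (J m t → F) → F) →+
    ((J m (t + 1) → F) → (J m (t + 1) → F) → F) where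
  toFun Y x y := Y (C.cb i r x) (C.cb i r y)
  map_zero' := rfl
  map_add' _ _ := rfl

lemma lft_apply (i : Fin (t + 1)) (r : Fin m → F) (Y : (J m t → F) → (J m t → F) → F)
    (x y : J m (t + 1) → F) : C.lft i r Y x y = Y (C.cb i r x) (C.cb i r y) := rfl

/-- The form of the transvection at `v`. -/
def rk (t : ℕ) (v : J m t → F) (c : F) : (J m t → F) → (J m t → F) → F :=
  fun x y => c * C.fV t x v * C.fV t y v ^ q

lemma lft_rk (i : Fin (t + 1)) (r : Fin m → F) (z : J m t → F) (c : F) :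
    C.lft i r (C.rk t z c) = C.rk (t + 1) (T i z r) c := by
  funext x y
  simp only [lft_apply, rk, C.fV_right]

/-- The forms of elements of `M` in the root group at `b`. -/
def kB (M : Subgroup (GL (J m (t + 1)) F)) (i : Fin (t + 1)) {b : Fin m → F} (hb : C.h b b = 0) :
    AddSubgroup ((J m t → F) → (J m t → F) → F) where
  carrier := {B | ∃ g ∈ M, ∀ x y, C.fV (t + 1) (app g x - x) y = B (C.cb i b x) (C.cb i b y)}
  zero_mem' := ⟨1, one_mem M, fun x y => by simp [(C.fV_herm _).zero_left]⟩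
  add_mem' := by
    rintro B B' ⟨g, hg, e⟩ ⟨g', hg', e'⟩
    have hfix : ∀ x, C.cb i b (app g' x) = C.cb i b x := fun x => by
      rw [← sub_eq_zero, ← map_sub]
      refine C.fV_nondeg t _ fun a => ?_
      have h0 := e' x 0
      rw [map_zero, (C.fV_herm _).zero_right C.hF] at h0
      rw [← C.fV_right, e', C.cb_T, hb, zero_smul, ← h0]
    refine ⟨g * g', mul_mem hg hg', fun x y => ?_⟩
    rw [map_mul, LinearEquiv.mul_apply, ← sub_add_sub_cancel _ (app g' x) x, (C.fV_herm _).add_left,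
      e, e', hfix]
    rfl
  neg_mem' := by
    rintro B ⟨g, hg, e⟩
    refine ⟨g⁻¹, inv_mem hg, fun x y => ?_⟩
    have h1 : C.cb i b (app g⁻¹ x) = C.cb i b x := by
      rw [← sub_eq_zero, ← map_sub]
      refine C.fV_nondeg t _ fun a => ?_
      have h0 := e (app g⁻¹ x) 0
      have h2 := e (app g⁻¹ x) (T i a b)
      rw [map_zero, (C.fV_herm _).zero_right C.hF] at h0
      rw [app_app_inv, C.cb_T, hb, zero_smul, ← h0] at h2
      rw [← C.fV_right, ← neg_sub, (C.fV_herm _).neg_left, h2, neg_zero]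
    have h3 := e (app g⁻¹ x) y
    rw [app_app_inv, h1] at h3
    rw [← neg_sub, (C.fV_herm _).neg_left, h3]
    rfl

lemma mem_kB {M : Subgroup (GL (J m (t + 1)) F)} {i : Fin (t + 1)} {b : Fin m → F}
    {hb : C.h b b = 0} {B : (J m t → F) → (J m t → F) → F} :
    B ∈ C.kB M i hb ↔
      ∃ g ∈ M, ∀ x y, C.fV (t + 1) (app g x - x) y = B (C.cb i b x) (C.cb i b y) := Iff.rfl

/-- The span of the forms of transvections at pure vectors. -/
def Sp (t : ℕ) : AddSubgroup ((J m t → F) → (J m t → F) → F) :=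
  AddSubgroup.closure {B | ∃ z c, C.Pure t z ∧ c + c ^ q = 0 ∧ B = C.rk t z c}

lemma lft_Sp {z : Fin m → F} (hz0 : z ≠ 0) (hz : C.h z z = 0)
    {B : (J m t → F) → (J m t → F) → F} (hB : B ∈ C.Sp t) : C.lft 0 z B ∈ C.Sp (t + 1) := by
  have : C.Sp t ≤ (C.Sp (t + 1)).comap (C.lft 0 z) := by
    rw [Sp, AddSubgroup.closure_le]
    rintro _ ⟨v, c, hv, hc, rfl⟩
    exact AddSubgroup.subset_closure ⟨_, c, C.pure_T 0 hv hz0 hz, hc, C.lft_rk 0 z v c⟩
  exact this hB

/-- Four isotropic vectors whose signed sum is any multiple of `u`. -/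
lemma exists_four {u : Fin m → F} (hu0 : u ≠ 0) (hu : C.h u u = 0) (η : F) :
    ∃ z₁ z₂ z₃ z₄, (C.h z₁ z₁ = 0 ∧ C.h u z₁ = 1) ∧ (C.h z₂ z₂ = 0 ∧ C.h u z₂ = 1) ∧
      (C.h z₃ z₃ = 0 ∧ C.h u z₃ = 1) ∧ (C.h z₄ z₄ = 0 ∧ C.h u z₄ = 1) ∧
      z₁ - z₂ - (z₃ - z₄) = η • u := by
  obtain ⟨u', hu', h1, h2, -⟩ := C.exists_partner hu0 hu
  obtain ⟨w₀, hwu, hwu', hww⟩ := C.exists_aniso_perp hu hu' h1 h2
  obtain ⟨s, hs⟩ := Unitary.exists_norm_eq C.hF (c := -(η + η ^ q) / C.h w₀ w₀)
    (by rw [div_pow, Unitary.neg_pow_q C.hF, Unitary.trace_fixed C.hF, C.H.self_fixed])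
  set w := s • w₀ with hwdef
  have hw : C.h w w = -(η + η ^ q) := by
    rw [hwdef, C.H.smul_left, C.H.smul_right, ← mul_assoc, ← pow_succ', hs, div_mul_cancel₀ _ hww]
  have hwu1 : C.h w u = 0 := by rw [hwdef, C.H.smul_left, hwu, mul_zero]
  have hwu1' : C.h w u' = 0 := by rw [hwdef, C.H.smul_left, hwu', mul_zero]
  have hu1w := (C.H.eq_zero_symm C.hF).1 hwu1
  have hu1w' := (C.H.eq_zero_symm C.hF).1 hwu1'
  have hz : ∀ μ τ : F, τ + τ ^ q = -(μ ^ (q + 1) * C.h w w) →
      C.h (u' + μ • w + τ • u) (u' + μ • w + τ • u) = 0 ∧ C.h u (u' + μ • w + τ • u) = 1 := by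
    intro μ τ ht
    simp only [C.H.add_left, C.H.add_right C.hF, C.H.smul_left, C.H.smul_right, hu, hu', h1, h2,
      hwu1, hwu1', hu1w, hu1w']
    exact ⟨by linear_combination ht, by ring⟩
  obtain ⟨ν, hν, hν1⟩ : ∃ ν : F, ν ^ (q + 1) = 1 ∧ ν ≠ 1 := by
    by_contra! hc
    have h1 : Nat.card {x : F // x ^ (q + 1) = 1} ≤ 1 :=
      Finite.card_le_one_iff_subsingleton.2
        ⟨fun a b => Subtype.ext ((hc _ a.2).trans (hc _ b.2).symm)⟩
    rw [Unitary.card_norm_one C.hF] at h1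
    have := C.two_le_q
    omega
  set l := (1 - ν)⁻¹
  obtain ⟨t₁, ht₁⟩ := Unitary.exists_trace_eq C.hF (c := -(l ^ (q + 1) * C.h w w))
    (by rw [Unitary.neg_pow_q C.hF, mul_pow, Unitary.pow_q_succ_fixed C.hF, C.H.self_fixed])
  refine ⟨_, u', _, _, hz 1 η ?_, ⟨hu', h2⟩, hz l t₁ ht₁,
    hz (ν * l) t₁ (by rw [mul_pow, hν, one_mul]; exact ht₁), ?_⟩
  · rw [hw, one_pow, one_mul, neg_neg]
  · have hl : (1 - ν) * l = 1 := mul_inv_cancel₀ (sub_ne_zero.2 (Ne.symm hν1))
    clear_value w l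
    match_scalars
    · ring
    · linear_combination -hl
    · ring

lemma fV_zero_eq (x y : J m 0 → F) : C.fV 0 x y = x default * y default ^ q := by
  simp [fV]

/-- The span acts on a pure vector as any scalar. -/
lemma exists_op : ∀ t {a : J m t → F}, C.Pure t a →
    (∀ c : F, c + c ^ q = 0 → ∃ B ∈ C.Sp t, ∀ y, B a y = c * C.fV t a y) ∧
      (1 ≤ t → ∀ γ : F, ∃ B ∈ C.Sp t, ∀ y, B a y = γ * C.fV t a y) := by
  intro t
  induction t with
  | zero =>
    intro a ha
    refine ⟨fun c hc => ?_, fun h => absurd h (by omega)⟩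
    have haa : C.fV 0 a a ≠ 0 := by
      have : a default ≠ 0 := fun h => ha (funext fun f => by rw [Subsingleton.elim f default, h]; rfl)
      rw [C.fV_zero_eq]
      exact mul_ne_zero this (pow_ne_zero q this)
    refine ⟨C.rk 0 a (c / C.fV 0 a a), AddSubgroup.subset_closure ⟨a, _, ha, ?_, rfl⟩, fun y => ?_⟩
    · rw [div_pow, (C.fV_herm 0).self_fixed, ← add_div, hc, zero_div]
    · rw [rk, div_mul_cancel₀ _ haa, ← (C.fV_herm 0).conj_symm]
  | succ t ih =>
    intro a ha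
    have key : ∀ γ : F, ∃ B ∈ C.Sp (t + 1), ∀ y, B a y = γ * C.fV (t + 1) a y := by
      intro γ
      obtain ⟨β, u, hβ, hu0, hu, rfl⟩ := ha
      obtain ⟨c, hc0, hc⟩ := C.exists_skew
      obtain ⟨B, hB, hBy⟩ := (ih hβ).1 c hc
      obtain ⟨z₁, z₂, z₃, z₄, ⟨i1, e1⟩, ⟨i2, e2⟩, ⟨i3, e3⟩, ⟨i4, e4⟩, he⟩ :=
        C.exists_four hu0 hu (γ / c)
      have hne : ∀ {z}, C.h u z = 1 → z ≠ 0 := fun h e => by
        rw [e, C.H.zero_right C.hF] at h; exact zero_ne_one h
      refine ⟨C.lft 0 z₁ B - C.lft 0 z₂ B - (C.lft 0 z₃ B - C.lft 0 z₄ B),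
        sub_mem (sub_mem (C.lft_Sp (hne e1) i1 hB) (C.lft_Sp (hne e2) i2 hB))
          (sub_mem (C.lft_Sp (hne e3) i3 hB) (C.lft_Sp (hne e4) i4 hB)), fun y => ?_⟩
      simp only [Pi.sub_apply, lft_apply, C.cb_T, e1, e2, e3, e4, one_smul, hBy, ← C.fV_left]
      rw [← mul_sub, ← mul_sub, ← mul_sub, ← (C.fV_herm _).sub_left, ← (C.fV_herm _).sub_left,
        ← (C.fV_herm _).sub_left, ← map_sub, ← map_sub, ← map_sub, he, map_smul,
        (C.fV_herm _).smul_left, ← mul_assoc, mul_div_cancel₀ _ hc0]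
    exact ⟨fun c _ => key c, fun _ => key⟩

variable {M : Subgroup (GL (J m (t + 2)) F)}

lemma Sp_le_kB (hcen : ∀ v, C.Pure (t + 2) v → C.Cen (t + 2) M v) {b : Fin m → F} (hb0 : b ≠ 0)
    (hb : C.h b b = 0) : C.Sp (t + 1) ≤ C.kB M 0 hb := by
  rw [Sp, AddSubgroup.closure_le]
  rintro _ ⟨z, c, hz, hc, rfl⟩
  have hp := C.pure_T 0 hz hb0 hb
  refine ⟨_, (hcen _ hp).2 c hc, fun x y => ?_⟩
  rw [C.trv_apply (C.pure_iso hp), add_sub_cancel_left, (C.fV_herm _).smul_left,
    (C.fV_herm _).conj_symm y (T 0 z b), C.fV_right, C.fV_right]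
  rfl

/-- A pure tensor with an arbitrary factor in position `0` is a centre. -/
lemma cen_one_aniso (hMK : M ≤ C.su (t + 2)) (hcen : ∀ v, C.Pure (t + 2) v → C.Cen (t + 2) M v)
    {p : J m (t + 1) → F} (hp : C.Pure (t + 1) p) (z : Fin m → F) :
    C.Cen (t + 2) M (T 0 p z) := by
  by_cases hz : C.h z z = 0
  · by_cases hz0 : z = 0
    · subst hz0
      refine ⟨by rw [C.fV_T, hz, mul_zero], fun c _ => ?_⟩
      have : C.trv (t + 2) (T 0 p 0) c = 1 := gl_ext fun x => by
        rw [C.trv_apply (by rw [C.fV_T, hz, mul_zero])]; simp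
      rw [this]; exact one_mem M
    · exact hcen _ (C.pure_T 0 hp hz0 hz)
  obtain ⟨γ, hγ⟩ := Unitary.exists_trace_eq C.hF (C.H.self_fixed z)
  have hγ0 : γ ≠ 0 := fun h => hz (by rw [← hγ, h, Unitary.zero_pow_q C.hF, add_zero])
  obtain ⟨d₀, hd0, hzd0⟩ : ∃ d, C.h d d = 0 ∧ C.h z d ≠ 0 := by
    by_contra! hall
    refine hz ?_
    have key : ∀ y, C.h z y = 0 := fun y => by
      have hy := C4.Herm.mem_span_iso C.hF C.H C.nd (by have := C.hm; omega) y
      induction hy using Submodule.span_induction with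
      | mem v hv => exact hall v hv
      | zero => exact C.H.zero_right C.hF _
      | add a b _ _ ha hb => rw [C.H.add_right C.hF, ha, hb, add_zero]
      | smul c v _ hv => rw [C.H.smul_right, hv, mul_zero]
    exact key z
  set d := (γ / C.h z d₀) ^ q • d₀ with hd
  have hzd : C.h z d = γ := by
    rw [hd, C.H.smul_right, Unitary.pow_q_pow_q C.hF, div_mul_cancel₀ _ hzd0]
  have hdd : C.h d d = 0 := by rw [hd, C.H.smul_left, C.H.smul_right, hd0, mul_zero, mul_zero]
  have hdz : C.h d z = γ ^ q := by rw [C.H.conj_symm z d, hzd]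
  have hd00 : d ≠ 0 := fun h => hγ0 (by rw [← hzd, h, C.H.zero_right C.hF])
  set b := γ⁻¹ • (z - d) with hbdef
  have hbb : C.h b b = 0 := by
    rw [hbdef, C.H.smul_left, C.H.smul_right, C.H.sub_left, C.H.sub_right C.hF,
      C.H.sub_right C.hF, hdd, hzd, hdz]
    linear_combination -(γ⁻¹ * γ⁻¹ ^ q) * hγ
  have hdb : C.h d b = 1 := by
    rw [hbdef, C.H.smul_right, C.H.sub_right C.hF, hdd, hdz, sub_zero, inv_pow,
      inv_mul_cancel₀ (pow_ne_zero q hγ0)]
  have hb0 : b ≠ 0 := fun h => by rw [h, C.H.zero_right C.hF] at hdb; exact zero_ne_one hdb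
  obtain ⟨B, hB, hBy⟩ := (C.exists_op (t + 1) hp).2 (by omega) γ
  obtain ⟨g, hg, he⟩ := C.Sp_le_kB hcen hb0 hbb hB
  have h1 := C.cen_map hg (hMK hg).1 (hcen _ (C.pure_T 0 hp hd00 hdd))
  convert h1 using 1
  refine (sub_eq_zero.1 (C.fV_nondeg _ _ fun y => ?_)).symm
  have h2 := he (T 0 p d) y
  rw [C.cb_T, hdb, one_smul, hBy, ← C.fV_left] at h2
  rw [show T 0 p z = T 0 p d + γ • T 0 p b by
      rw [← map_smul, ← map_add, hbdef, smul_inv_smul₀ hγ0, add_sub_cancel],
    ← sub_sub, (C.fV_herm _).sub_left, (C.fV_herm _).smul_left, h2, sub_self]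

/-- A transvection at a pure vector and the stabiliser generate the special unitary group. -/
theorem su_le_of_pure : ∀ t {M : Subgroup (GL (J m t) F)}, C.ust t ≤ M → M ≤ C.su t →
    ∀ {v : J m t → F} {c : F}, C.Pure t v → c ≠ 0 → C.trv t v c ∈ M → C.su t ≤ M := by
  intro t
  induction t with
  | zero =>
    intro M _ _ v c _ _ _ g hg
    have : g = 1 := by
      apply Units.ext
      ext i j
      have hd := mem_sl_iff.1 hg.2
      rw [Matrix.det_eq_elem_of_subsingleton _ i] at hd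
      obtain rfl : j = i := Subsingleton.elim _ _
      simp [hd]
    rw [this]; exact one_mem M
  | succ t ih =>
    cases t with
    | zero => exact fun hM _ _ _ _ _ _ g hg => hM ⟨mem_Wr_one g, hg⟩
    | succ t =>
    intro M hM hMK v c hv hc0 hcM
    have hcen : ∀ w, C.Pure (t + 2) w → C.Cen (t + 2) M w :=
      fun w hw => C.cen_pure hM hMK hv hc0 hcM hw
    have hc := C.skew_of_trv (C.pure_ne hv) (C.pure_iso hv) (hMK hcM).1
    obtain ⟨p, hp⟩ := C.exists_pure (t + 1)
    obtain ⟨o, ho, -⟩ := Unitary.exists_orthonormal_extend C.hF C.H C.nd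
      (k := 0) (b := Fin.elim0) ⟨fun i => i.elim0, fun i => i.elim0⟩ (Nat.zero_le _) (n := m)
      (by simp)
    have hp0 := C.pure_iso hp
    have hv2 : ∀ z w, C.fV (t + 2) (T 0 p z) (T 0 p w) = 0 := fun z w => by
      rw [C.fV_T, hp0, zero_mul]
    have hprod : ∀ s : Finset (Fin m), ∃ g ∈ M, ∀ x, app g x =
        x + ∑ k ∈ s, (c * C.fV (t + 2) x (T 0 p (o k))) • T 0 p (o k) := by
      classical
      intro s
      induction s using Finset.induction_on with
      | empty => exact ⟨1, one_mem M, fun x => by simp⟩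
      | @insert k s hk ihs =>
        obtain ⟨g, hg, hgx⟩ := ihs
        refine ⟨g * C.trv _ (T 0 p (o k)) c, mul_mem hg ((C.cen_one_aniso hMK hcen hp _).2 c hc),
          fun x => ?_⟩
        rw [map_mul, LinearEquiv.mul_apply, C.trv_apply (hv2 _ _), hgx, Finset.sum_insert hk]
        simp only [(C.fV_herm _).add_left, (C.fV_herm _).smul_left, hv2, mul_zero, add_zero]
        abel
    obtain ⟨g, hg, hgx⟩ := hprod Finset.univ
    have hexp := fun u : Fin m → F => ho.eq_sum_of_card C.H (by simp) u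
    have hgk : g = kr 0 (C.trv (t + 1) p c) 1 := gl_ext_T 0 fun a u => by
      rw [hgx, app_kr, C.trv_apply hp0, map_one, LinearEquiv.coe_one, id_eq]
      conv_rhs => rw [map_add, LinearMap.add_apply, map_smul, LinearMap.smul_apply, hexp u, map_sum,
        map_sum, Finset.smul_sum]
      congr 1
      · rw [← map_sum, ← hexp u]
      · refine Finset.sum_congr rfl fun k _ => ?_
        rw [C.fV_T, map_smul, smul_smul]
        congr 1
        ring
    have hsu : C.su (t + 1) ≤ M.comap (krHom F m 0) ⊓ C.su (t + 1) :=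
      ih (le_inf (fun A hA => hM (C.kr_left_mem_ust 0 hA)) inf_le_right) inf_le_right hp hc0
        ⟨show kr 0 (C.trv (t + 1) p c) 1 ∈ M from hgk ▸ hg, C.trv_mem_su hp0 hc⟩
    obtain ⟨b, hb0, hb⟩ := C.exists_iso
    have hroot := (hcen _ (C.pure_T 0 hp hb0 hb)).2 c hc
    rw [C.trv_T p hb] at hroot
    refine C.su_le_of_root hM hMK 0 (fun A hA => (hsu hA).1) hb0 hb hroot ?_
    rintro ⟨d, hd⟩
    have h1 := hd p
    rw [LinearMap.smulRight_apply, flG_apply, hp0, zero_smul] at h1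
    have hd0 : d = 0 := (smul_eq_zero.1 h1.symm).resolve_right (C.pure_ne hp)
    obtain ⟨a, ha⟩ := C.exists_pair_J (C.pure_ne hp)
    have h2 := hd a
    rw [LinearMap.smulRight_apply, flG_apply, ha, one_smul, hd0, zero_smul] at h2
    exact (smul_eq_zero.1 h2).elim hc0 (C.pure_ne hp)

end Ctx

end Cfsg.Agent.C7U
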