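import Cfsg.Agent.Lib.C7.Roots

/-!
# Lines of special points

An element mapping `Li i u` to lines for all `u` in a spanning set closed under suitable sums is in
the wreath group.
-/

set_option autoImplicit false
set_option linter.unusedSectionVars false

namespace Cfsg.Agent.C7U

open Matrix Module Cfsg.Agent.Transvect Cfsg.Agent.C7
open scoped MatrixGroups

variable {F : Type*} [Field F] [Fintype F] {m : ℕ}

/-- An element mapping special lines to lines is in the wreath group. -/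
theorem mem_Wr_of_lines (hm : 3 ≤ m) {S : Set (Fin m → F)} (hspan : Submodule.span F S = ⊤)
    (hS : ∀ u ∈ S, ∀ u' ∈ S, ∃ e : F, e ≠ 0 ∧ u + e • u' ∈ S) : ∀ {t : ℕ} (g : GL (J m (t + 1)) F),
    (∀ (i : Fin (t + 1)) (u : Fin m → F), u ∈ S → u ≠ 0 →
      ∃ (l : Fin (t + 1)) (v : Fin m → F), ∀ a, app g (T i a u) ∈ Li l v) →
    g ∈ Wr F m (t + 1) := by
  intro t
  induction t with
  | zero => exact fun g _ => mem_Wr_one g
  | succ s ih =>
    intro g h
    have : Nonempty (Fin m) := ⟨⟨0, by omega⟩⟩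
    obtain ⟨c₀, hc₀⟩ := exists_ne (0 : J m s → F)
    set i : Fin (s + 2) := 0
    choose l' v' hlv' using h i
    let l : ∀ u, (u ∈ S ∧ u ≠ 0) → Fin (s + 2) := fun u hu => l' u hu.1 hu.2
    let v : ∀ u, (u ∈ S ∧ u ≠ 0) → (Fin m → F) := fun u hu => v' u hu.1 hu.2
    have hlv : ∀ u hu a, app g (T i a u) ∈ Li (l u hu) (v u hu) := fun u hu => hlv' u hu.1 hu.2
    have hv : ∀ u hu, v u hu ≠ 0 := fun u hu e => by
      obtain ⟨a, ha⟩ := exists_ne (0 : J m (s + 1) → F)
      obtain ⟨b, hb⟩ := hlv u hu a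
      rw [e] at hb
      simp only [map_zero] at hb
      exact (T_eq_zero ((app g).map_eq_zero_iff.1 hb.symm)).elim ha hu.2
    have himg : ∀ u hu, (Li i u).map (app g).toLinearMap = Li (l u hu) (v u hu) := fun u hu => by
      refine Submodule.eq_of_le_of_finrank_eq ?_
        (by rw [LinearEquiv.finrank_map_eq, finrank_Li i hu.2, finrank_Li _ (hv u hu)])
      rintro _ ⟨_, ⟨a, rfl⟩, rfl⟩
      exact hlv u hu a
    have hinf : ∀ u hu u' hu', u' ∉ F ∙ u → Li (l u hu) (v u hu) ⊓ Li (l u' hu') (v u' hu') = ⊥ := by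
      intro u hu u' hu' hn
      rw [← himg u hu, ← himg u' hu', ← Submodule.map_inf _ (app g).injective, Submodule.map_eq_bot_iff,
        eq_bot_iff]
      rintro x ⟨⟨a, rfl⟩, ⟨b, hb⟩⟩
      simp only [LinearMap.flip_apply] at hb
      rw [Submodule.mem_bot]
      by_cases hb0 : b = 0
      · simp [← hb, hb0]
      · exact absurd (mem_span_of_T_eq hb0 hb) hn
    have hl : ∀ u hu u' hu', l u hu = l u' hu' := by
      have key : ∀ u hu u' hu', u' ∉ F ∙ u → l u hu = l u' hu' := fun u hu u' hu' hn => by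
        by_contra hne
        exact inf_Li_ne_bot (Ne.symm hne) (hv u hu) (hv u' hu') (hinf u hu u' hu' hn)
      intro u hu u' hu'
      obtain ⟨w', hw'⟩ := C4.TData.exists_indep hm u u'
      obtain ⟨w, hwS, hw⟩ : ∃ w ∈ S, w ∉ Submodule.span F ({u, u'} : Set (Fin m → F)) := by
        by_contra! hall
        exact hw' ((Submodule.span_le.2 hall) (hspan.symm ▸ Submodule.mem_top))
      have hw0 : w ∈ S ∧ w ≠ 0 := ⟨hwS, fun e => hw (e ▸ Submodule.zero_mem _)⟩
      rw [key u hu w hw0 fun h => hw (Submodule.span_mono (by simp) h),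
        key u' hu' w hw0 fun h => hw (Submodule.span_mono (by simp) h)]
    obtain ⟨u₀, hu₀⟩ : ∃ u, u ∈ S ∧ u ≠ 0 := by
      by_contra! hall
      obtain ⟨x, hx⟩ := exists_ne (0 : Fin m → F)
      have h0 : Submodule.span F S ≤ ⊥ := Submodule.span_le.2 fun u hu => by simpa using hall u hu
      exact hx (by simpa using h0 (hspan.symm ▸ Submodule.mem_top : x ∈ Submodule.span F S))
    set l₀ := l u₀ hu₀
    set v₀ := v u₀ hu₀
    have hv₀ : v₀ ≠ 0 := hv u₀ hu₀
    obtain ⟨γ₀, hγ₀⟩ := exists_dual hv₀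
    let A : (J m (s + 1) → F) →ₗ[F] (J m (s + 1) → F) :=
      ct l₀ γ₀ ∘ₗ (app g).toLinearMap ∘ₗ (T i).flip u₀
    have hA : ∀ a, app g (T i a u₀) = T l₀ (A a) v₀ := fun a => by
      obtain ⟨b, hb⟩ := hlv u₀ hu₀ a
      have h1 : A a = ct l₀ γ₀ (T l₀ b v₀) := congrArg (ct l₀ γ₀) hb.symm
      rw [h1, ct_T, hγ₀, one_smul]
      exact hb.symm
    have hAi : Function.Injective A := fun a b e => T_inj_left hu₀.2 ((app g).injective (by
      rw [hA, hA, e]))
    have hAu : ∀ u, ∃ w, ∀ a, app g (T i a u) = T l₀ (A a) w := by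
      intro u
      have hmem : u ∈ Submodule.span F S := hspan.symm ▸ Submodule.mem_top
      induction hmem using Submodule.span_induction with
      | zero => exact ⟨0, fun a => by simp⟩
      | add x y _ _ hx hy =>
        obtain ⟨w, hw⟩ := hx
        obtain ⟨w', hw'⟩ := hy
        exact ⟨w + w', fun a => by simp only [map_add, hw, hw']⟩
      | smul c x _ hx =>
        obtain ⟨w, hw⟩ := hx
        exact ⟨c • w, fun a => by simp only [map_smul, hw]⟩
      | mem u huS =>
      by_cases hn : u ∈ F ∙ u₀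
      · obtain ⟨c, rfl⟩ := Submodule.mem_span_singleton.1 hn
        exact ⟨c • v₀, fun a => by rw [map_smul, map_smul, hA, map_smul]⟩
      have hu : u ∈ S ∧ u ≠ 0 := ⟨huS, fun e => hn (e ▸ Submodule.zero_mem _)⟩
      obtain ⟨ε, hε0, hεS⟩ := hS u huS u₀ hu₀.1
      have hs : u + ε • u₀ ∈ S ∧ u + ε • u₀ ≠ 0 := ⟨hεS, fun e => hn (Submodule.mem_span_singleton.2
        ⟨-ε, by rw [neg_smul, neg_eq_iff_add_eq_zero, add_comm]; exact e⟩)⟩
      have hn' : v u hu ∉ F ∙ v₀ := fun h => by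
        have h0 := hinf u₀ hu₀ u hu hn
        obtain ⟨a, ha⟩ := exists_ne (0 : J m (s + 1) → F)
        have : T l₀ a (v u hu) ∈ Li l₀ v₀ ⊓ Li (l u hu) (v u hu) := by
          refine ⟨?_, by rw [hl u hu u₀ hu₀]; exact T_mem_Li _ _ _⟩
          obtain ⟨c, hc⟩ := Submodule.mem_span_singleton.1 h
          rw [← hc, map_smul]
          exact Submodule.smul_mem _ _ (T_mem_Li _ _ _)
        rw [h0, Submodule.mem_bot] at this
        exact (T_eq_zero this).elim ha (hv u hu)
      obtain ⟨f, hf1, hf2⟩ := Submodule.exists_le_ker_of_notMem hn'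
      obtain ⟨f', hf'1, hf'2⟩ := Submodule.exists_le_ker_of_notMem
        (show v₀ ∉ F ∙ v u hu from fun h => by
          obtain ⟨c, hc⟩ := Submodule.mem_span_singleton.1 h
          have hc0 : c ≠ 0 := fun e => hv₀ (by rw [← hc, e, zero_smul])
          exact hn' (Submodule.mem_span_singleton.2 ⟨c⁻¹, by rw [← hc, inv_smul_smul₀ hc0]⟩))
      have hfv : f v₀ = 0 := hf2 (Submodule.mem_span_singleton_self _)
      have hf'v : f' (v u hu) = 0 := hf'2 (Submodule.mem_span_singleton_self _)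
      refine ⟨((f (v u hu))⁻¹ * f (v (u + ε • u₀) hs) * ((f' (v (u + ε • u₀) hs))⁻¹ * (ε * f' v₀))) • v u hu,
        fun a => ?_⟩
      obtain ⟨b, hb⟩ := hlv u hu a
      obtain ⟨b', hb'⟩ := hlv (u + ε • u₀) hs a
      simp only [LinearMap.flip_apply, hl u hu u₀ hu₀, hl (u + ε • u₀) hs u₀ hu₀] at hb hb'
      change T l₀ b (v u hu) = _ at hb
      change T l₀ b' (v (u + ε • u₀) hs) = _ at hb'
      have key : T l₀ b' (v (u + ε • u₀) hs) = T l₀ b (v u hu) + ε • T l₀ (A a) v₀ := by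
        rw [hb', map_add, map_add, map_smul, map_smul, ← hb, hA]
      have e1 : f (v (u + ε • u₀) hs) • b' = f (v u hu) • b := by
        simpa [hfv, smul_smul] using congrArg (ct l₀ f) key
      have e2 : f' (v (u + ε • u₀) hs) • b' = (ε * f' v₀) • A a := by
        simpa [hf'v, smul_smul] using congrArg (ct l₀ f') key
      by_cases hAa : A a = 0
      · rw [hAi (hAa.trans (map_zero A).symm)]
        simp
      have hne : f' (v (u + ε • u₀) hs) ≠ 0 := fun e => by
        rw [e, zero_smul] at e2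
        exact (smul_eq_zero.1 e2.symm).elim (mul_ne_zero hε0 hf'1) hAa
      have hbA : b = ((f (v u hu))⁻¹ * f (v (u + ε • u₀) hs) *
          ((f' (v (u + ε • u₀) hs))⁻¹ * (ε * f' v₀))) • A a := by
        rw [← smul_smul, ← smul_smul ((f' (v (u + ε • u₀) hs))⁻¹), ← e2, inv_smul_smul₀ hne,
          ← smul_smul, e1, inv_smul_smul₀ hf1]
      rw [← hb, hbA, map_smul, LinearMap.smul_apply, map_smul]
    obtain ⟨a₀, ha₀⟩ := exists_ne (0 : J m (s + 1) → F)
    have hAa₀ : A a₀ ≠ 0 := fun e => ha₀ (hAi (e.trans (map_zero A).symm))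
    obtain ⟨ψ, hψ⟩ := exists_dual hAa₀
    let B : (Fin m → F) →ₗ[F] (Fin m → F) := lc l₀ ψ ∘ₗ (app g).toLinearMap ∘ₗ T i a₀
    have hB : ∀ a u, app g (T i a u) = T l₀ (A a) (B u) := fun a u => by
      obtain ⟨w, hw⟩ := hAu u
      have : B u = w := by
        show lc l₀ ψ (app g (T i a₀ u)) = w
        rw [hw, lc_T, hψ, one_smul]
      rw [hw, this]
    have hBi : Function.Injective B := fun u u' e =>
      T_inj_right ha₀ ((app g).injective (by rw [hB, hB, e]))
    obtain ⟨XA, hXA⟩ := exists_gl A hAi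
    obtain ⟨XB, hXB⟩ := exists_gl B hBi
    obtain ⟨p, hp, hpT⟩ := exists_perm (F := F) (m := m) i l₀
    have hgp : g = p * kr i XA XB := gl_ext_T i fun a u => by
      rw [map_mul, LinearEquiv.mul_apply, app_kr, hpT, hB, hXA, hXB]
    rw [hgp]
    refine mul_mem hp (kr_mem i (ih XA fun j u huS hu => ?_) XB)
    obtain ⟨lj, vj, hlj⟩ := h (i.succAbove j) u huS hu
    have hx : ∀ c q, T l₀ (app XA (T j c u)) (app XB q) ∈ Li lj vj := fun c q => by
      obtain ⟨z, hz⟩ := nested_mem i j c u q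
      rw [hXA, hXB, ← hB, ← hz]
      exact hlj z
    have hne : lj ≠ l₀ := by
      rintro rfl
      have hAc : app XA (T j c₀ u) ≠ 0 := fun e =>
        (T_eq_zero ((app XA).map_eq_zero_iff.1 e)).elim hc₀ hu
      have hall : ∀ q, app XB q ∈ F ∙ vj := fun q => by
        obtain ⟨b, hb⟩ := hx c₀ q
        exact mem_span_of_T_eq hAc hb.symm
      have h1 : (⊤ : Submodule F (Fin m → F)) ≤ F ∙ vj := fun q _ => by
        simpa using hall (app XB⁻¹ q)
      have h2 := Submodule.finrank_mono h1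
      rw [finrank_top, Module.finrank_fintype_fun_eq_card, Fintype.card_fin] at h2
      have h3 := finrank_span_le_card (R := F) ({vj} : Set (Fin m → F))
      simp at h3
      omega
    obtain ⟨j', rfl⟩ := Fin.exists_succAbove_eq hne
    obtain ⟨γ, hγ⟩ := exists_dual (show app XB u₀ ≠ 0 from fun e => hu₀.2
      ((app XB).map_eq_zero_iff.1 e))
    refine ⟨j', vj, fun c => ?_⟩
    have := ct_mem_Li l₀ j' γ (hx c u₀)
    rwa [ct_T, hγ, one_smul] at this


end Cfsg.Agent.C7U
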