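import Cfsg.Agent.Lib.C7U.Base
import Cfsg.Agent.Lib.C7.Swap

/-!
# Root groups in the wreath group

A conjugate of a root group lying in the wreath group is a root group of some line: its elements
cannot all exchange two positions.
-/

set_option autoImplicit false
set_option linter.unusedSectionVars false

namespace Cfsg.Agent.C7U

open Matrix Module Cfsg.Agent.Transvect Cfsg.Agent.C7
open Cfsg.Agent.C4.Herm (fl)
open scoped MatrixGroups

variable {F : Type*} [Field F] [Fintype F] {m t : ℕ}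

/-- `y` carries position `i` to position `l`. -/
def Moves (y : GL (J m (t + 1)) F) (i l : Fin (t + 1)) : Prop :=
  ∃ (X : GL (J m t) F) (B : GL (Fin m) F), ∀ a q, app y (T i a q) = T l (app X a) (app B q)

lemma Moves.unique (hm : 3 ≤ m) {y : GL (J m (t + 1)) F} {i l l' : Fin (t + 1)}
    (h : Moves y i l) (h' : Moves y i l') : l = l' := by
  obtain ⟨X, B, e⟩ := h
  obtain ⟨X', B', e'⟩ := h'
  have : Nonempty (Fin m) := ⟨⟨0, by omega⟩⟩
  obtain ⟨q, hq⟩ := exists_ne (0 : Fin m → F)
  refine (of_Li_le (by omega) ((app B).map_ne_zero_iff.2 hq) ((app B').map_ne_zero_iff.2 hq) ?_).1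
  rintro _ ⟨a, rfl⟩
  refine ⟨app X' (app X⁻¹ a), ?_⟩
  show T l' _ (app B' q) = T l a (app B q)
  rw [← e', e, app_app_inv]

lemma Moves.comp {y z : GL (J m (t + 1)) F} {i l p : Fin (t + 1)} (h : Moves z i l)
    (h' : Moves y l p) : Moves (y * z) i p := by
  obtain ⟨X, B, e⟩ := h
  obtain ⟨X', B', e'⟩ := h'
  exact ⟨X' * X, B' * B, fun a q => by simp only [map_mul, LinearEquiv.mul_apply, e, e']⟩

/-- An involutory exchange of two positions fixing the diagonal fixes the other positions. -/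
lemma moves_other (hm : 3 ≤ m) {s : ℕ} {y : GL (J m (s + 2)) F} {i : Fin (s + 2)}
    {j : Fin (s + 1)} {B : GL (Fin m) F}
    (hdiag : ∀ a x, app y (cmp i j B a a x) = cmp i j B a a x)
    {p p' : Fin (s + 2)} (hpi : p ≠ i) (hpl : p ≠ i.succAbove j) (h : Moves y p p') : p' = p := by
  obtain ⟨X', B', hy⟩ := h
  obtain ⟨p₁, rfl⟩ := Fin.exists_succAbove_eq hpi
  obtain ⟨p₂, rfl⟩ := Fin.exists_succAbove_eq (show p₁ ≠ j from fun e => hpl (by rw [e]))
  cases s with
  | zero => exact p₂.elim0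
  | succ s =>
    have : Nonempty (Fin m) := ⟨⟨0, by omega⟩⟩
    obtain ⟨v, hv⟩ := exists_ne (0 : Fin m → F)
    set w := app B' v
    have hw : w ≠ 0 := (app B').map_ne_zero_iff.2 hv
    have hz : ∀ a (c : J m s → F), cmp i j B a a (T p₂ c v) ∈ Li p' w := fun a c => by
      rw [← hdiag]
      have h1 : cmp i j B a a (T p₂ c v) ∈ Li (i.succAbove (j.succAbove p₂)) v := by
        obtain ⟨d, hd⟩ := nested_mem j p₂ c v (app B (Pi.single a 1))
        change T (j.succAbove p₂) d v = _ at hd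
        rw [cmp_eq, ← hd]
        exact nested_mem i (j.succAbove p₂) d v _
      obtain ⟨e, he⟩ := h1
      rw [← he]
      show app y (T _ e v) ∈ _
      rw [hy]
      exact T_mem_Li _ _ _
    obtain ⟨c₀, hc₀⟩ := exists_ne (0 : J m s → F)
    have hne : T p₂ c₀ v ≠ 0 := fun e => (T_eq_zero e).elim hc₀ hv
    have hspan : ∀ {f : Fin m → (Fin m → F)}, LinearIndependent F f → (∀ a, f a ∈ F ∙ w) → False := by
      intro f hf hall
      have h1 := Submodule.finrank_mono (Submodule.span_le.2 (Set.range_subset_iff.2 hall) :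
        Submodule.span F (Set.range f) ≤ F ∙ w)
      rw [finrank_span_eq_card hf, Fintype.card_fin, finrank_span_singleton hw] at h1
      omega
    obtain hp' | ⟨p₁', rfl⟩ := i.eq_self_or_eq_succAbove p'
    · subst hp'
      refine absurd (hspan (f := fun a => Pi.single a 1) ?_ fun a => ?_) id
      · have := (Pi.basisFun F (Fin m)).linearIndependent
        simpa [funext (Pi.basisFun_apply F (Fin m))] using this
      · obtain ⟨e, he⟩ := hz a c₀
        rw [cmp_eq] at he
        refine mem_span_of_T_eq (fun h0 => ?_) he.symm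
        rcases T_eq_zero h0 with h | h
        · exact hne h
        · exact (app B).map_ne_zero_iff.2 (by simp : (Pi.single a (1 : F) : Fin m → F) ≠ 0) h
    obtain hpj | ⟨p₂', rfl⟩ := j.eq_self_or_eq_succAbove p₁'
    · subst hpj
      refine absurd (hspan (f := fun a => app B (Pi.single a 1)) ?_ fun a => ?_) id
      · have := (Pi.basisFun F (Fin m)).linearIndependent.map' (app B).toLinearMap (app B).ker
        simpa [funext (Pi.basisFun_apply F (Fin m)), Function.comp_def] using this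
      · have h1 := ct_mem_Li i p₁' (LinearMap.proj a) (hz a c₀)
        rw [cmp_eq, ct_T, LinearMap.proj_apply, Pi.single_eq_same, one_smul] at h1
        obtain ⟨e, he⟩ := h1
        exact mem_span_of_T_eq hne he.symm
    obtain ⟨a⟩ : Nonempty (Fin m) := inferInstance
    have hle : Li p₂ v ≤ Li p₂' w := by
      rintro _ ⟨c, rfl⟩
      obtain ⟨γ, hγ⟩ := exists_dual ((app B).map_ne_zero_iff.2
        (by simp : (Pi.single a (1 : F) : Fin m → F) ≠ 0))
      have h1 := ct_mem_Li j p₂' γ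
        (ct_mem_Li i (j.succAbove p₂') (LinearMap.proj a) (hz a c))
      rwa [cmp_eq, ct_T, LinearMap.proj_apply, Pi.single_eq_same, one_smul, ct_T, hγ, one_smul] at h1
    rw [(of_Li_le (by omega) hv hw hle).1]

/-- A root conjugate in the wreath group fixing all positions is decomposable, otherwise it
exchanges two positions and `m = 3`, `2 = 0`. -/
lemma dec_or_swap (hm : 3 ≤ m) {y : GL (J m (t + 1)) F} (hW : y ∈ Wr F m (t + 1))
    (hrank : finrank F (C4.res y) = m ^ t) (hfix : ∀ z ∈ C4.res y, app y z = z) :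
    IsDec y ∨ (m = 3 ∧ (2 : F) = 0 ∧ ∃ i l, i ≠ l ∧ Moves y i l ∧ Moves y l i ∧
      ∀ p, p ≠ i → p ≠ l → Moves y p p) := by
  by_cases hall : ∀ i, Moves y i i
  · left
    by_cases hsc : ∀ i, ∃ (X : GL (J m t) F) (B : GL (Fin m) F),
        (∀ a q, app y (T i a q) = T i (app X a) (app B q)) ∧ ∃ c : F, ∀ q, app B q = c • q
    · exfalso
      obtain ⟨c, hc⟩ := eq_smul_of_scalar hm hsc
      have hres : C4.res y = ⊥ := le_bot_iff.1 (C4.res_le fun x => by
        rw [Submodule.mem_bot]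
        have h1 := hfix _ (C4.mem_res x)
        rw [hc, hc] at h1
        have h2 : ((c - 1) * (c - 1)) • x = 0 := by linear_combination (norm := module) h1
        rcases smul_eq_zero.1 h2 with h | h
        · rw [hc, sub_eq_zero.1 (mul_self_eq_zero.1 h), one_smul, sub_self]
        · rw [h, map_zero, sub_zero])
      rw [hres, finrank_bot] at hrank
      exact absurd hrank.symm (pow_pos (by omega) t).ne'
    · push Not at hsc
      obtain ⟨i, hi⟩ := hsc
      obtain ⟨X, B, hy⟩ := hall i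
      obtain ⟨q, hq⟩ := exists_not_eigen (app B).toLinearMap (hi X B hy)
      exact isDec_of_diag hm hrank hfix hy hq
  right
  push Not at hall
  obtain ⟨i, hi⟩ := hall
  obtain ⟨l, X, B, hy⟩ := exists_form hW i
  have hli : l ≠ i := fun e => hi ⟨X, B, e ▸ hy⟩
  cases t with
  | zero => exact absurd ((Fin.fin_one_eq_zero l).trans (Fin.fin_one_eq_zero i).symm) hli
  | succ s =>
    have hyy : ∀ x, app y (app y x) = (2 : F) • app y x - x := fun x => by
      have h1 := hfix _ (C4.mem_res x)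
      rw [map_sub, sub_eq_iff_eq_add] at h1
      rw [h1, two_smul]
      abel
    have h2 : (2 : F) = 0 := by
      by_contra h2
      have : Nonempty (Fin m) := ⟨⟨0, by omega⟩⟩
      obtain ⟨q, hq⟩ := exists_ne (0 : Fin m → F)
      obtain ⟨i₂, X₂, B₂, hy₂⟩ := exists_form hW l
      have hBq : app B q ≠ 0 := fun e => hq ((app B).map_eq_zero_iff.1 e)
      have hB2q : app B₂ (app B q) ≠ 0 := fun e => hBq ((app B₂).map_eq_zero_iff.1 e)
      refine not_Li_le_sup hm (q := q) hBq hB2q hli ?_ ?_ (j := i₂)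
      · intro hi2 hsp
        obtain ⟨c, hc⟩ := Submodule.mem_span_singleton.1 hsp
        refine hli (of_Li_le (by omega) hq hBq ?_).1.symm
        rintro _ ⟨a, rfl⟩
        show T i a q ∈ Li l (app B q)
        have hc0 : c ≠ 0 := fun e => hBq (by rw [← hc, e, zero_smul])
        have h1 : T i a q = (2 : F) • app y (T i a q) - app y (app y (T i a q)) := by
          rw [hyy]; abel
        rw [h1, hy, hy₂, hi2]
        refine Submodule.sub_mem _ (Submodule.smul_mem _ _ (T_mem_Li _ _ _)) ?_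
        refine ⟨c⁻¹ • app X₂ (app X a), ?_⟩
        show T l (c⁻¹ • app X₂ (app X a)) (app B q) = _
        rw [map_smul, LinearMap.smul_apply]
        conv_lhs => rw [← hc, map_smul, inv_smul_smul₀ hc0]
      · rintro _ ⟨a, rfl⟩
        show T l a (app B q) ∈ _
        have h1 : T l a (app B q) =
            (2 : F)⁻¹ • (T i (app X⁻¹ a) q + app y (app y (T i (app X⁻¹ a) q))) := by
          rw [hyy, add_sub_cancel, inv_smul_smul₀ h2, hy, app_app_inv]
        rw [h1, hy, hy₂, smul_add]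
        exact Submodule.add_mem _ (Submodule.smul_mem _ _ (Submodule.mem_sup_left (T_mem_Li _ _ _)))
          (Submodule.smul_mem _ _ (Submodule.mem_sup_right (T_mem_Li _ _ _)))
    have hsq : ∀ x, app y (app y x) = x := fun x => by
      rw [hyy, h2, zero_smul, zero_sub, neg_eq_self₂ h2]
    obtain ⟨j, rfl⟩ := Fin.exists_succAbove_eq hli
    obtain ⟨hm3, -, hdiag⟩ := swap_small hm hy hsq hrank.le
    refine ⟨hm3, h2, i, i.succAbove j, (i.succAbove_ne j).symm, ⟨X, B, hy⟩,
      ⟨X⁻¹, B⁻¹, fun a q => ?_⟩, fun p hp hp' => ?_⟩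
    · have h3 := hsq (T i (app X⁻¹ a) (app B⁻¹ q))
      rwa [hy, app_app_inv, app_app_inv] at h3
    · obtain ⟨p', X', B', h'⟩ := exists_form hW p
      obtain rfl := moves_other hm hdiag hp hp' ⟨X', B', h'⟩
      exact ⟨X', B', h'⟩

variable {q : ℕ} (C : Ctx F q m)

/-- A conjugate of a root group inside the wreath group has a decomposable element, so its line
goes to a line. -/
theorem line_of_root_group {Y : GL (J m (t + 1)) F} {j : Fin (t + 1)} {r : Fin m → F}
    (hr0 : r ≠ 0) (hr : C.h r r = 0)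
    (hW : ∀ s : F, s + s ^ q = 0 → s ≠ 0 → Y * C.R j r s * Y⁻¹ ∈ Wr F m (t + 1)) :
    ∃ (l : Fin (t + 1)) (v : Fin m → F), v ≠ 0 ∧ (Li j r).map (app Y).toLinearMap = Li l v := by
  classical
  have hres : ∀ s : F, s ≠ 0 →
      C4.res (Y * C.R j r s * Y⁻¹) = (Li j r).map (app Y).toLinearMap := fun s hs => by
    rw [C4.res_conj, C.res_R hr0 hr hs]
  have hdec : ∀ s : F, s + s ^ q = 0 → s ≠ 0 → IsDec (Y * C.R j r s * Y⁻¹) ∨
      (m = 3 ∧ (2 : F) = 0 ∧ ∃ i l, i ≠ l ∧ Moves (Y * C.R j r s * Y⁻¹) i l ∧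
        Moves (Y * C.R j r s * Y⁻¹) l i ∧
          ∀ p, p ≠ i → p ≠ l → Moves (Y * C.R j r s * Y⁻¹) p p) := by
    intro s hs hs0
    refine dec_or_swap C.hm (hW s hs hs0) ?_ ?_
    · rw [hres s hs0, LinearEquiv.finrank_map_eq, finrank_Li j hr0]
    · intro z hz
      rw [hres s hs0] at hz
      obtain ⟨x, hx, rfl⟩ := hz
      simp only [map_mul, LinearEquiv.mul_apply, LinearEquiv.coe_coe, app_inv_app]
      rw [(C.R_fix_iff hr0 hr hs0).2 (ct_Li hr hx)]
  suffices h : ∃ s : F, s ≠ 0 ∧ s + s ^ q = 0 ∧ IsDec (Y * C.R j r s * Y⁻¹) by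
    obtain ⟨s, hs0, -, i, u, α, hu, hα, hαu, he⟩ := h
    exact ⟨i, u, hu, by rw [← hres s hs0, he, res_rt hαu hα]⟩
  by_contra hno
  push Not at hno
  have hswap : ∀ s : F, s + s ^ q = 0 → s ≠ 0 → ∃ i l, i ≠ l ∧
      ∀ p, Moves (Y * C.R j r s * Y⁻¹) p (Equiv.swap i l p) := by
    intro s hs hs0
    obtain ⟨-, -, i, l, hil, h1, h2, h3⟩ := (hdec s hs hs0).resolve_left (hno s hs0 hs)
    refine ⟨i, l, hil, fun p => ?_⟩
    rw [Equiv.swap_apply_def]
    split_ifs with hp hp'
    · exact hp ▸ h1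
    · exact hp' ▸ h2
    · exact h3 p hp hp'
  obtain ⟨s, hs0, hs⟩ := C.exists_skew
  obtain ⟨hm3, h2, -⟩ := (hdec s hs hs0).resolve_left (hno s hs0 hs)
  -- a second parameter
  obtain ⟨u, hu, hu0, hus⟩ : ∃ u : F, u + u ^ q = 0 ∧ u ≠ 0 ∧ s + u ≠ 0 := by
    by_contra! hc
    have hsub : ∀ x : {x : F // x + x ^ q = 0}, x.1 ∈ ({0, -s} : Finset F) := fun x => by
      by_cases h0 : x.1 = 0
      · simp [h0]
      · simp [eq_neg_of_add_eq_zero_right (hc _ x.2 h0)]
    have := Nat.card_le_card_of_injective (fun x => (⟨x.1, hsub x⟩ : ({0, -s} : Finset F)))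
      fun a b h => Subtype.ext (congrArg (fun y : ({0, -s} : Finset F) => y.1) h)
    rw [Cfsg.Agent.Unitary.card_trace_zero C.hF, Nat.card_eq_fintype_card, Fintype.card_coe] at this
    have hq := this.trans Finset.card_le_two
    have := C.exc (le_antisymm hq C.two_le_q)
    omega
  have hsu : (s + u) + (s + u) ^ q = 0 := by
    rw [Cfsg.Agent.Unitary.add_pow_q C.hF]; linear_combination hs + hu
  obtain ⟨i1, l1, hd1, H1⟩ := hswap s hs hs0
  obtain ⟨i2, l2, hd2, H2⟩ := hswap u hu hu0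
  obtain ⟨i3, l3, hd3, H3⟩ := hswap (s + u) hsu hus
  have heq : Equiv.swap i3 l3 = Equiv.swap i1 l1 * Equiv.swap i2 l2 := Equiv.ext fun p => by
    refine (H3 p).unique C.hm ?_
    rw [show Y * C.R j r (s + u) * Y⁻¹ = (Y * C.R j r s * Y⁻¹) * (Y * C.R j r u * Y⁻¹) by
      rw [← C.R_mul hr]; group]
    exact (H2 p).comp (H1 _)
  have := congrArg Equiv.Perm.sign heq
  rw [map_mul, Equiv.Perm.sign_swap hd1, Equiv.Perm.sign_swap hd2, Equiv.Perm.sign_swap hd3] at this
  exact absurd this (by decide)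

end Cfsg.Agent.C7U
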