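import Cfsg.Agent.Lib.C7U.Radical
import Cfsg.Agent.Lib.C7U.WrRoot
import Cfsg.Agent.Lib.C7U.Lines
import Cfsg.Agent.Lib.C7.Key

/-!
# Overgroups mapping one line to another

If an element of an overgroup `M` with only scalar long root elements carries one isotropic line to
another, it lies in the wreath group.
-/

set_option autoImplicit false
set_option linter.unusedSectionVars false

namespace Cfsg.Agent.C7U

open Matrix Module Cfsg.Agent.Transvect Cfsg.Agent.C7
open Cfsg.Agent.Unitary (IsHerm Nondeg)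
open Cfsg.Agent.C4.Herm (fl fl_apply Iso eich eich_apply eich_iso eich_mem_sl perpF mem_perpF
  le_finrank_perpF)
open scoped MatrixGroups

namespace Ctx

variable {F : Type*} [Field F] [Fintype F] {q m : ℕ} (C : Ctx F q m) {t s : ℕ}

/-- All long root elements of `M` are scalar in the other positions. -/
def Scal (M : Subgroup (GL (J m (t + 1)) F)) : Prop :=
  ∀ (i : Fin (t + 1)) (K : (J m t → F) →ₗ[F] (J m t → F)) (b : Fin m → F), b ≠ 0 → C.h b b = 0 →
    rt i K b (fl C.H b) ∈ M → ∃ c : F, ∀ a, K a = c • a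

/-- Overgroups with `Scal` of the stabiliser with `t + 1` factors lie in the wreath group. -/
def Maxl (t : ℕ) : Prop :=
  ∀ M : Subgroup (GL (J m (t + 1)) F), C.ust (t + 1) ≤ M → M ≤ C.su (t + 1) → C.Scal M →
    M ≤ Wr F m (t + 1)

/-- The standing hypotheses on an overgroup. -/
structure Ovg (C : Ctx F q m) (M : Subgroup (GL (J m (t + 1)) F)) : Prop where
  hM : C.ust (t + 1) ≤ M
  hMK : M ≤ C.su (t + 1)
  hS : C.Scal M
  hIH : ∀ s, t = s + 1 → C.Maxl s

lemma comap_scal {M : Subgroup (GL (J m (s + 2)) F)} (hS : C.Scal M) (i : Fin (s + 2)) :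
    C.Scal (M.comap (krHom F m i) ⊓ C.su (s + 1)) := by
  intro j k u hu hu' hk
  set α := fl C.H u
  have h : α u = 0 := hu'
  have hα : α ≠ 0 := C4.Herm.fl_ne_zero C.hF C.H C.nd hu
  have hmem : kr i (rt j k u α) 1 ∈ M := hk.1
  set W' := kr i (rt j k u α) (1 : GL (Fin m) F) with hW
  set l := i.succAbove j
  have hT : ∀ z q, app W' (T i z q) = T i z q + T i (T j (k (ct j α z)) u) q := fun z q => by
    rw [hW, app_kr, rt_apply h, map_one, LinearEquiv.coe_one, id_eq, map_add, LinearMap.add_apply]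
  have hres : ∀ x, app W' x - x ∈ Li l u := by
    intro x
    rw [← sum_T_single i x, map_sum, ← Finset.sum_sub_distrib]
    refine Submodule.sum_mem _ fun c _ => ?_
    rw [hT, add_sub_cancel_left]
    exact nested_mem i j _ u _
  obtain ⟨w, hw⟩ := LinearMap.surjective_of_ne_zero hα 1
  have hfix : ∀ x, ct l α x = 0 → app W' x = x := by
    intro x hx
    have hc : ∀ c, ct j α (ct i (LinearMap.proj c) x) = 0 := fun c => by
      have hL : (ct j α ∘ₗ ct i (LinearMap.proj c)) ∘ₗ (LinearMap.id - (T l).flip w ∘ₗ ct l α) = 0 :=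
        lin_ext l fun z q => by
          simp only [LinearMap.comp_apply, LinearMap.sub_apply, LinearMap.id_apply,
            LinearMap.flip_apply, ct_T, LinearMap.zero_apply]
          rw [show T l z q - T l (α q • z) w = T l z (q - α q • w) by
            rw [map_sub (T l z), map_smul (T l z), map_smul (T l), LinearMap.smul_apply]]
          exact ct_Li (by rw [map_sub, map_smul, hw, smul_eq_mul, mul_one, sub_self])
            (ct_mem_Li i j _ (T_mem_Li l z _))
      have := LinearMap.congr_fun hL x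
      simpa only [LinearMap.comp_apply, LinearMap.sub_apply, LinearMap.id_apply,
        LinearMap.flip_apply, hx, map_zero, LinearMap.zero_apply, sub_zero] using this
    conv_rhs => rw [← sum_T_single i x]
    conv_lhs => rw [← sum_T_single i x, map_sum]
    refine Finset.sum_congr rfl fun c _ => ?_
    rw [hT, show ct j α (fun g => x (ins i c g)) = 0 from hc c]
    simp
  obtain ⟨k', hk'⟩ := exists_rt hu hα h hres hfix
  obtain ⟨c, hc⟩ := hS l k' u hu hu' (hk' ▸ hmem)
  refine ⟨c, fun x => ?_⟩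
  have : Nonempty (Fin m) := ⟨⟨0, by have := C.hm; omega⟩⟩
  obtain ⟨q, hq⟩ := exists_ne (0 : Fin m → F)
  obtain ⟨z, hz⟩ := nested_eq i j x q
  have h1 := hT (T j x w) q
  rw [ct_T, hw, one_smul] at h1
  conv_lhs at h1 => rw [hk', hz, rt_T h, hw, one_smul, hc, map_smul, LinearMap.smul_apply, ← hz,
    ← hz]
  rw [add_right_inj, ← LinearMap.smul_apply, ← map_smul, ← LinearMap.smul_apply, ← map_smul] at h1
  exact (T_inj_left hu (T_inj_left hq h1)).symm

include C

lemma smul_rt {i : Fin (t + 1)} {u : Fin m → F} (hu : C.h u u = 0) (c : F)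
    (k : (J m t → F) →ₗ[F] (J m t → F)) :
    rt i k (c • u) (fl C.H (c • u)) = rt i ((c * c ^ q) • k) u (fl C.H u) := by
  refine gl_ext fun x => ?_
  rw [rt_apply (show fl C.H (c • u) (c • u) = 0 by simp [C.H.smul_left, C.H.smul_right, hu]),
    rt_apply (show fl C.H u u = 0 from hu)]
  change x + T i (k (C.cb i (c • u) x)) (c • u) = x + T i (((c * c ^ q) • k) (C.cb i u x)) u
  simp only [C.cb_smul, map_smul, LinearMap.smul_apply, smul_smul]

lemma iso_of_kr_one {i : Fin (t + 1)} {B : GL (Fin m) F}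
    (h : kr i (1 : GL (J m t) F) B ∈ C.isoJ (t + 1)) : Iso C.h B := by
  obtain ⟨a, ha⟩ := @exists_ne (J m t → F) (@Function.nontrivial _ _ (C.nonempty_J t) _) 0
  obtain ⟨a', ha'⟩ := C.exists_pair_J ha
  intro x y
  have e := h (T i a' x) (T i a y)
  simp only [app_kr, map_one, LinearEquiv.coe_one, id_eq, C.fV_T, ha', one_mul] at e
  exact e

lemma conj_kr_rt {i : Fin (t + 1)} {B : GL (Fin m) F} (hB : Iso C.h B) {u : Fin m → F}
    (hu : C.h u u = 0) (k : (J m t → F) →ₗ[F] (J m t → F)) :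
    kr i 1 B * rt i k u (fl C.H u) * (kr i 1 B)⁻¹ = rt i k (app B u) (fl C.H (app B u)) := by
  rw [conj_rt (app_kr i 1 B) (show fl C.H u u = 0 from hu)]
  congr 1
  · exact LinearMap.ext fun a => by simp
  · refine LinearMap.ext fun z => ?_
    simp only [LinearMap.comp_apply, LinearEquiv.coe_coe, fl_apply]
    rw [← hB, app_app_inv]

lemma map_Li_eq {g : GL (J m (t + 1)) F} {i l : Fin (t + 1)} {b b₁ : Fin m → F} (hb0 : b ≠ 0)
    (hb₁0 : b₁ ≠ 0) (hgA : ∀ a, app g (T i a b) ∈ Li l b₁) :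
    (Li i b).map (app g).toLinearMap = Li l b₁ := by
  refine Submodule.eq_of_le_of_finrank_eq ?_
    (by rw [LinearEquiv.finrank_map_eq, finrank_Li i hb0, finrank_Li _ hb₁0])
  rintro _ ⟨_, ⟨a, rfl⟩, rfl⟩
  exact hgA a

lemma cb_map_iff {g : GL (J m (t + 1)) F} (hg : g ∈ C.isoJ (t + 1)) {i l : Fin (t + 1)}
    {b b₁ : Fin m → F} (hmap : (Li i b).map (app g).toLinearMap = Li l b₁)
    (x : J m (t + 1) → F) : C.cb l b₁ (app g x) = 0 ↔ C.cb i b x = 0 := by
  rw [C.cb_eq_zero_iff, C.cb_eq_zero_iff, ← hmap, ← C.iso_map_perp hg]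
  exact ⟨fun ⟨y, hy, e⟩ => (app g).injective e ▸ hy, fun h => ⟨x, h, rfl⟩⟩

variable {M : Subgroup (GL (J m (t + 1)) F)}

/-- An element of `M` in the radical of a line stabiliser is an Eichler element. -/
lemma Ovg.radical_mem (H : C.Ovg M) {e : GL (J m (t + 1)) F} (he : e ∈ M) {i : Fin (t + 1)}
    {b : Fin m → F} (hb0 : b ≠ 0) (hb : C.h b b = 0) (he1 : ∀ a, app e (T i a b) = T i a b)
    (he2 : ∀ x, C.cb i b x = 0 → app e x - x ∈ Li i b) :
    ∃ v c, C.h v b = 0 ∧ c + c ^ q = -(C.h v v) ∧ e = C.E i b v c := by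
  obtain ⟨b', -, h1, h2, -⟩ := C.exists_partner hb0 hb
  obtain ⟨v, c, hv, hc, G, hG⟩ := C.exists_radical hb0 hb h1 h2 (H.hMK he).1 he1 he2
    fun v c hv hc k hk => H.hS i k b hb0 hb (hk ▸ mul_mem (mul_mem he (H.hM (C.E_mem hb hv hc)))
      (inv_mem (mul_mem (H.hM (C.E_mem hb hv hc)) he)))
  have hrt : rt i G b (fl C.H b) ∈ M := by
    have := mul_mem (inv_mem (H.hM (C.E_mem (i := i) hb hv hc))) he
    rwa [hG, inv_mul_cancel_left] at this
  obtain ⟨μ, hμ⟩ := H.hS i G b hb0 hb hrt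
  have hR : rt i G b (fl C.H b) = C.R i b μ := by
    rw [R, show G = μ • LinearMap.id from LinearMap.ext fun a => by rw [hμ]; rfl]
  have hsk := C.skew_of_R_mem hb0 hb (hR ▸ (H.hMK hrt).1)
  refine ⟨v, c + μ, hv, ?_, by rw [hG, hR, C.E_mul_R hb hv]⟩
  rw [Cfsg.Agent.Unitary.add_pow_q C.hF]
  linear_combination hc + hsk

/-- Eichler elements at a line go to Eichler elements at its image. -/
lemma Ovg.conj_E (H : C.Ovg M) {g : GL (J m (t + 1)) F} (hg : g ∈ M) {i l : Fin (t + 1)}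
    {b b₁ : Fin m → F} (hb0 : b ≠ 0) (hb : C.h b b = 0) (hb₁0 : b₁ ≠ 0) (hb₁ : C.h b₁ b₁ = 0)
    (hgA : ∀ a, app g (T i a b) ∈ Li l b₁) {v : Fin m → F} (hv : C.h v b = 0) {c : F}
    (hc : c + c ^ q = -(C.h v v)) :
    ∃ v' c', C.h v' b₁ = 0 ∧ c' + c' ^ q = -(C.h v' v') ∧
      g * C.E i b v c * g⁻¹ = C.E l b₁ v' c' := by
  have hmap := C.map_Li_eq hb0 hb₁0 hgA
  refine H.radical_mem C (mul_mem (mul_mem hg (H.hM (C.E_mem hb hv hc))) (inv_mem hg)) hb₁0 hb₁
    (fun a => ?_) fun x hx => ?_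
  · obtain ⟨_, ⟨a', rfl⟩, e⟩ : T l a b₁ ∈ (Li i b).map (app g).toLinearMap := hmap ▸ T_mem_Li _ _ _
    rw [← e, map_mul, map_mul]
    simp only [LinearEquiv.mul_apply, LinearEquiv.coe_coe, LinearMap.flip_apply, app_inv_app,
      C.E_apply hb hv, C.cb_T, hb, (C.H.eq_zero_symm C.hF).1 hv]
    simp
  · have h1 : C.cb i b (app g⁻¹ x) = 0 :=
      (C.cb_map_iff (H.hMK hg).1 hmap _).1 (by rwa [app_app_inv])
    rw [← hmap]
    refine ⟨app (C.E i b v c) (app g⁻¹ x) - app g⁻¹ x, ?_, ?_⟩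
    · rw [C.E_apply hb hv, h1]
      simp only [map_zero, LinearMap.zero_apply, add_zero, smul_zero, sub_sub_cancel_left]
      exact Submodule.neg_mem _ (T_mem_Li _ _ _)
    · simp only [map_mul, LinearEquiv.mul_apply, LinearEquiv.coe_coe, map_sub, app_app_inv]

/-- The decomposition of an element carrying an isotropic line to another. -/
theorem Ovg.exists_decomp (H : C.Ovg M) {g : GL (J m (t + 1)) F} (hg : g ∈ M) {i l : Fin (t + 1)}
    {b b₁ : Fin m → F} (hb0 : b ≠ 0) (hb : C.h b b = 0) (hb₁0 : b₁ ≠ 0) (hb₁ : C.h b₁ b₁ = 0)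
    (hgA : ∀ a, app g (T i a b) ∈ Li l b₁) :
    ∃ p ∈ Wr F m (t + 1), ∃ (X : GL (J m t) F) (B : GL (Fin m) F)
      (G : (J m t → F) →ₗ[F] (J m t → F)) (κ : F), κ ≠ 0 ∧ κ ^ q = κ ∧
      (∀ x y, C.fV t (app X x) (app X y) = κ * C.fV t x y) ∧
      (∀ u w, C.h (app B u) (app B w) = κ⁻¹ * C.h u w) ∧
      (∀ a u, app (p * kr i X B) (T i a u) = T l (app X a) (app B u)) ∧
      app B b = κ⁻¹ • b₁ ∧ g = p * kr i X B * rt i G b (fl C.H b) := by
  have HV := C.fV_herm (t + 1)
  have Ht := C.fV_herm t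
  have hgiso : g ∈ C.isoJ (t + 1) := (H.hMK hg).1
  obtain ⟨bp, hbp, hpb, hbbp, -⟩ := C.exists_partner hb0 hb
  obtain ⟨bp1, hbp1, hpb1, hb1p, -⟩ := C.exists_partner hb₁0 hb₁
  let P : (J m t → F) →ₗ[F] (J m t → F) := C.cb l b₁ ∘ₗ (app g).toLinearMap ∘ₗ (T i).flip bp
  let X0 : (J m t → F) →ₗ[F] (J m t → F) := C.cb l bp1 ∘ₗ (app g).toLinearMap ∘ₗ (T i).flip b
  have hX0 : ∀ a, app g (T i a b) = T l (X0 a) b₁ := fun a => C.eq_T_of_Li hb1p (hgA a)
  have hPX : ∀ a a', C.fV t (P a) (X0 a') = C.fV t a a' := fun a a' => by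
    have h1 := hgiso (T i a bp) (T i a' b)
    rw [hX0, C.fV_T, hpb, mul_one, C.fV_right] at h1
    exact h1
  have hPi : Function.Injective P := (injective_iff_map_eq_zero P).2 fun a ha =>
    C.fV_nondeg t a fun a' => by rw [← hPX, ha, Ht.zero_left]
  have step : ∀ v, C.h v b = 0 → ∃ v', C.h v' b₁ = 0 ∧
      ∀ a, app g (T i a v) - T l (P a) v' ∈ Li l b₁ := by
    intro v hv
    obtain ⟨c, hc⟩ := C.exists_trace v
    obtain ⟨v', c', hv', -, he⟩ := H.conj_E C hg hb0 hb hb₁0 hb₁ hgA hv hc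
    refine ⟨v', hv', fun a => ?_⟩
    have h1 : app g (app (C.E i b v c) (T i a bp)) = app (C.E l b₁ v' c') (app g (T i a bp)) := by
      rw [← he, map_mul, map_mul]
      simp only [LinearEquiv.mul_apply, app_inv_app]
    have hP : C.cb l b₁ (app g (T i a bp)) = P a := rfl
    rw [C.E_apply hb hv, C.E_apply hb₁ hv', C.cb_T, C.cb_T, hpb, one_smul, hP] at h1
    simp only [map_add, map_sub, map_smul, LinearMap.smul_apply] at h1
    have h2 : app g (T i a v) - T l (P a) v' =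
        app g (T i (C.h bp v • a) b) - c • app g (T i a b) -
          T l (C.cb l v' (app g (T i a bp))) b₁ + c' • T l (P a) b₁ := by
      simp only [map_smul, LinearMap.smul_apply]
      linear_combination (norm := module) h1
    rw [h2]
    exact Submodule.add_mem _ (Submodule.sub_mem _ (Submodule.sub_mem _ (hgA _)
      (Submodule.smul_mem _ _ (hgA _))) (T_mem_Li _ _ _)) (Submodule.smul_mem _ _ (T_mem_Li _ _ _))
  have hsim : ∀ v w v' w', C.h v' b₁ = 0 → C.h w' b₁ = 0 →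
      (∀ a, app g (T i a v) - T l (P a) v' ∈ Li l b₁) →
      (∀ a, app g (T i a w) - T l (P a) w' ∈ Li l b₁) →
      ∀ a a', C.fV t (P a) (P a') * C.h v' w' = C.fV t a a' * C.h v w := by
    intro v w v' w' hv' hw' hgv hgw a a'
    obtain ⟨x, hx⟩ := hgv a
    obtain ⟨y, hy⟩ := hgw a'
    have h1 := hgiso (T i a v) (T i a' w)
    rw [eq_add_of_sub_eq hx.symm, eq_add_of_sub_eq hy.symm] at h1
    simp only [LinearMap.flip_apply, HV.add_left, HV.add_right C.hF, C.fV_T, hb₁, hv',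
      (C.H.eq_zero_symm C.hF).1 hw'] at h1
    linear_combination h1
  obtain ⟨z, hzb, -, hzz⟩ := C.exists_aniso_perp hb hbp hpb hbbp
  obtain ⟨z', hz', hgz⟩ := step z hzb
  obtain ⟨a₀, ha₀⟩ := @exists_ne (J m t → F) (@Function.nontrivial _ _ (C.nonempty_J t) _) 0
  obtain ⟨a₁, ha₁⟩ := C.exists_pair_J ha₀
  have hz1 := hsim z z z' z' hz' hz' hgz hgz
  have hzz' : C.h z' z' ≠ 0 := fun e => hzz (by simpa [ha₁, e] using (hz1 a₁ a₀).symm)
  set κ := C.h z z / C.h z' z' with hκdef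
  have hκ0 : κ ≠ 0 := div_ne_zero hzz hzz'
  have hκ : κ ^ q = κ := by rw [hκdef, div_pow, C.H.self_fixed, C.H.self_fixed]
  have hκi : κ⁻¹ ^ q = κ⁻¹ := by rw [inv_pow, hκ]
  have hPP : ∀ a a', C.fV t (P a) (P a') = κ * C.fV t a a' := fun a a' => by
    have := hz1 a a'
    rw [hκdef, div_mul_eq_mul_div, eq_div_iff hzz', this, mul_comm]
  have hhh : ∀ v w v' w', C.h v' b₁ = 0 → C.h w' b₁ = 0 →
      (∀ a, app g (T i a v) - T l (P a) v' ∈ Li l b₁) →
      (∀ a, app g (T i a w) - T l (P a) w' ∈ Li l b₁) → C.h v' w' = κ⁻¹ * C.h v w := by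
    intro v w v' w' hv' hw' hgv hgw
    have := hsim v w v' w' hv' hw' hgv hgw a₁ a₀
    rw [hPP, ha₁, mul_one, one_mul] at this
    rw [← this, inv_mul_cancel_left₀ hκ0]
  obtain ⟨X, hX⟩ := exists_gl P hPi
  have hX0' : ∀ a, X0 a = κ⁻¹ • P a := fun a => by
    refine sub_eq_zero.1 (C.fV_nondeg t _ fun y => (Ht.eq_zero_symm C.hF).1 ?_)
    obtain ⟨a', rfl⟩ : ∃ a', P a' = y := ⟨app X⁻¹ y, by rw [← hX, app_app_inv]⟩
    rw [Ht.sub_right C.hF, Ht.smul_right, hPX, hPP, hκi]
    field_simp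
    ring
  -- the map on position `i`
  obtain ⟨ψ, hψ⟩ := exists_dual (show P a₀ ≠ 0 from fun e => ha₀ (hPi (e.trans (map_zero P).symm)))
  let π : (Fin m → F) →ₗ[F] (Fin m → F) :=
    LinearMap.id - (fl C.H bp).smulRight b - (fl C.H b).smulRight bp
  let π1 : (Fin m → F) →ₗ[F] (Fin m → F) :=
    LinearMap.id - (fl C.H bp1).smulRight b₁ - (fl C.H b₁).smulRight bp1
  let ω : (Fin m → F) →ₗ[F] (Fin m → F) :=
    π1 ∘ₗ lc l ψ ∘ₗ (app g).toLinearMap ∘ₗ T i a₀ ∘ₗ π
  have hπ : ∀ x, π x = x - C.h x bp • b - C.h x b • bp := fun x => rfl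
  have hπ1 : ∀ x, π1 x = x - C.h x bp1 • b₁ - C.h x b₁ • bp1 := fun x => rfl
  have hω : ∀ x, ∃ v', C.h v' b₁ = 0 ∧ (∀ a, app g (T i a (π x)) - T l (P a) v' ∈ Li l b₁) ∧
      ω x = v' - C.h v' bp1 • b₁ := by
    intro x
    obtain ⟨v', hv', hgv⟩ := step (π x) (C.sub_pair_perp hb hbp hpb hbbp x).1
    obtain ⟨y, hy⟩ := hgv a₀
    refine ⟨v', hv', hgv, ?_⟩
    show π1 (lc l ψ (app g (T i a₀ (π x)))) = _
    rw [eq_add_of_sub_eq hy.symm, LinearMap.flip_apply, map_add (lc l ψ), lc_T, lc_T, hψ, one_smul,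
      hπ1]
    simp only [C.H.add_left, C.H.smul_left, hv', hb₁, hb1p]
    module
  let Bl : (Fin m → F) →ₗ[F] (Fin m → F) :=
    (fl C.H bp).smulRight (κ⁻¹ • b₁) + (fl C.H b).smulRight bp1 + ω
  have hBl : ∀ x, Bl x = C.h x bp • κ⁻¹ • b₁ + C.h x b • bp1 + ω x := fun x => rfl
  have hBsim : ∀ u w, C.h (Bl u) (Bl w) = κ⁻¹ * C.h u w := by
    intro u w
    obtain ⟨u', hu', hgu, hωu⟩ := hω u
    obtain ⟨w', hw', hgw, hωw⟩ := hω w
    have h1 := hhh _ _ u' w' hu' hw' hgu hgw
    rw [hπ, hπ] at h1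
    simp only [C.H.sub_left, C.H.sub_right C.hF, C.H.smul_left, C.H.smul_right, hb, hbp, hpb, hbbp,
      ← C.H.conj_symm] at h1
    rw [hBl, hBl, hωu, hωw]
    simp only [C.H.add_left, C.H.add_right C.hF, C.H.sub_left, C.H.sub_right C.hF, C.H.smul_left,
      C.H.smul_right, hb₁, hbp1, hpb1, hb1p, hu', hw', (C.H.eq_zero_symm C.hF).1 hw', hκi,
      mul_pow, ← C.H.conj_symm, mul_zero, zero_mul]
    linear_combination h1
  have hBi : Function.Injective Bl := (injective_iff_map_eq_zero Bl).2 fun u hu => C.nd u fun w => by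
    have h1 := hBsim u w
    rw [hu, C.H.zero_left] at h1
    exact (mul_eq_zero.1 h1.symm).resolve_left (inv_ne_zero hκ0)
  obtain ⟨B, hB⟩ := exists_gl Bl hBi
  have hπb : π b = 0 := by rw [hπ, hbbp, hb]; module
  have hπp : π bp = 0 := by rw [hπ, hbp, hpb]; module
  have hω0 : ∀ u, π u = 0 → ω u = 0 := fun u hu => by
    show π1 (lc l ψ (app g (T i a₀ (π u)))) = 0
    rw [hu]; simp
  have hBb : app B b = κ⁻¹ • b₁ := by rw [hB, hBl, hbbp, hb, hω0 b hπb]; module
  have hBp : app B bp = bp1 := by rw [hB, hBl, hbp, hpb, hω0 bp hπp]; module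
  obtain ⟨p, hp, hpT⟩ := exists_perm (F := F) (m := m) i l
  set K := p * kr i X B with hKdef
  have hK : ∀ a u, app K (T i a u) = T l (app X a) (app B u) := fun a u => by
    rw [hKdef, map_mul, LinearEquiv.mul_apply, app_kr, hpT]
  have hKiso : K ∈ C.isoJ (t + 1) := C.iso_of_T i fun a w a' w' => by
    rw [hK, hK, C.fV_T, hX, hX, hPP, hB, hB, hBsim]
    field_simp
  clear_value K
  have hKg : ∀ x, C.cb i b x = 0 → app g x - app K x ∈ Li l b₁ := by
    intro x hx
    have hL : (Li l b₁).mkQ ∘ₗ ((app g).toLinearMap - (app K).toLinearMap) ∘ₗ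
        (LinearMap.id - (T i).flip bp ∘ₗ C.cb i b) = 0 := lin_ext i fun a w => by
      obtain ⟨v', hv', hgv, hωw⟩ := hω w
      have e1 : T i a w - T i (C.h w b • a) bp = T i a (C.h w bp • b + π w) := by
        rw [hπ, map_add, map_sub, map_sub, map_smul (T i a), map_smul (T i a), map_smul (T i),
          LinearMap.smul_apply]
        abel
      have e2 : app B (C.h w bp • b + π w) = (C.h w bp * κ⁻¹ - C.h v' bp1) • b₁ + v' := by
        have : π (π w) = π w := by
          obtain ⟨h1, h2⟩ := C.sub_pair_perp hb hbp hpb hbbp w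
          rw [hπ (π w), show C.h (π w) b = 0 from h1, show C.h (π w) bp = 0 from h2]
          module
        have hw : ω (π w) = ω w := by
          show π1 (lc l ψ (app g (T i a₀ (π (π w))))) = _
          rw [this]; rfl
        obtain ⟨h1, h2⟩ := C.sub_pair_perp hb hbp hpb hbbp w
        rw [map_add, map_smul, hBb, hB, hBl, show C.h (π w) b = 0 from h1,
          show C.h (π w) bp = 0 from h2, hw, hωw]
        module
      simp only [LinearMap.comp_apply, LinearMap.sub_apply, LinearMap.id_apply,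
        LinearMap.flip_apply, C.cb_T, LinearEquiv.coe_coe, LinearMap.zero_apply, Submodule.mkQ_apply,
        Submodule.Quotient.mk_eq_zero]
      rw [e1, hK, e2, map_add (T i a), map_smul (T i a), map_add (app g), map_smul (app g), hX,
        map_add (T l (P a)), map_smul (T l (P a))]
      rw [show ∀ (x y z w : J m (t + 1) → F), x + y - (z + w) = x - z + (y - w) from
        fun x y z w => by abel]
      exact Submodule.add_mem _ (Submodule.sub_mem _ (Submodule.smul_mem _ _ (hgA a))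
        (Submodule.smul_mem _ _ (T_mem_Li _ _ _))) (hgv a)
    have := LinearMap.congr_fun hL x
    simp only [LinearMap.comp_apply, LinearMap.sub_apply, LinearMap.id_apply, LinearMap.flip_apply,
      hx, map_zero, LinearMap.zero_apply, sub_zero, LinearEquiv.coe_coe, Submodule.mkQ_apply,
      Submodule.Quotient.mk_eq_zero] at this
    exact this
  set e₀ := K⁻¹ * g with he₀
  have he1 : ∀ a, app e₀ (T i a b) = T i a b := fun a => by
    apply (app K).injective
    rw [he₀, map_mul, LinearEquiv.mul_apply, app_app_inv, hK, hBb, hX, hX0, hX0', map_smul,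
      LinearMap.smul_apply, map_smul]
  have he2 : ∀ x, C.cb i b x = 0 → app e₀ x - x ∈ Li i b := by
    intro x hx
    obtain ⟨y, hy⟩ := hKg x hx
    refine ⟨κ • app X⁻¹ y, (app K).injective ?_⟩
    rw [map_sub, he₀, map_mul, LinearEquiv.mul_apply, app_app_inv, ← hy, LinearMap.flip_apply, hK,
      hBb, map_smul (app X), app_app_inv, map_smul, LinearMap.flip_apply, map_smul,
      LinearMap.smul_apply, inv_smul_smul₀ hκ0]
  obtain ⟨v, c, hv, hc, G, hG⟩ := C.exists_radical hb0 hb hpb hbbp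
    (mul_mem (inv_mem hKiso) hgiso) he1 he2 fun v c hv hc k hk => by
      obtain ⟨v', c', -, -, he⟩ := H.conj_E C hg hb0 hb hb₁0 hb₁ hgA hv hc
      have h1 : rt i k b (fl C.H b) * C.E i b v c = K⁻¹ * C.E l b₁ v' c' * K := by
        rw [← hk, ← he]; group
      set y := app (eich C.H b₁ v' c') bp1
      set y₂ := app (eich C.H b v c) bp
      have hy₂ : C.h y₂ b = 1 := by
        rw [show y₂ = _ from eich_apply C.H hb ((C.H.eq_zero_symm C.hF).1 hv) hv c bp]
        simp [C.H.add_left, C.H.sub_left, C.H.smul_left, hb, hv, hpb]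
      refine ⟨C.h (app B⁻¹ y - y₂) bp, fun a => ?_⟩
      have h2 := congrArg (fun z => app z (T i a bp)) h1
      have hE : app (C.E i b v c) (T i a bp) = T i a y₂ := by
        rw [E, app_kr, map_one]; rfl
      have hE' : app (C.E l b₁ v' c') (T l (app X a) bp1) = T l (app X a) y := by
        rw [E, app_kr, map_one]; rfl
      have hKi : app K⁻¹ (T l (app X a) y) = T i a (app B⁻¹ y) := by
        apply (app K).injective
        rw [app_app_inv, hK, app_app_inv]
      simp only [map_mul, LinearEquiv.mul_apply, hE, hK, hBp, hE', hKi,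
        rt_T (show fl C.H b b = 0 from hb), fl_apply, hy₂, one_smul] at h2
      have h3 := congrArg (C.cb i bp) (eq_sub_of_add_eq' h2)
      rwa [map_sub, C.cb_T, C.cb_T, C.cb_T, hbbp, one_smul, ← sub_smul, ← C.H.sub_left] at h3
  refine ⟨p, hp, X, B * eich C.H b v c, G, κ, hκ0, hκ, fun x y => by rw [hX, hX, hPP],
    fun u w => ?_, fun a u => ?_, ?_, ?_⟩
  · rw [map_mul, LinearEquiv.mul_apply, LinearEquiv.mul_apply, hB, hB, hBsim,
      eich_iso C.hF C.H hb hv hc]
  · rw [map_mul, LinearEquiv.mul_apply, app_kr, hpT]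
  · rw [map_mul, LinearEquiv.mul_apply,
      eich_apply C.H hb ((C.H.eq_zero_symm C.hF).1 hv) hv c b, hb,
      (C.H.eq_zero_symm C.hF).1 hv]
    simpa using hBb
  · have h1 : kr i X B * C.E i b v c = kr i X (B * eich C.H b v c) := by
      rw [E, kr_mul, mul_one]
    rw [← h1, ← mul_assoc p, ← hKdef, mul_assoc, ← hG, mul_inv_cancel_left]

lemma exists_norm_ne_one (h : q ≠ 2) : ∃ lam : F, lam ≠ 0 ∧ lam * lam ^ q ≠ 1 := by
  by_contra! hc
  have key : ∀ x : F, x + x ^ q = 0 → x = 0 ∨ x = -1 := by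
    intro x hx
    by_contra! hne
    have h2 := hc (1 + x) fun e => hne.2 (eq_neg_of_add_eq_zero_right e)
    rw [Cfsg.Agent.Unitary.add_pow_q C.hF, one_pow] at h2
    have h3 := hc x hne.1
    exact one_ne_zero (show (1 : F) = 0 by linear_combination h2 - h3 - hx)
  classical
  have hsub : ∀ x : {x : F // x + x ^ q = 0}, x.1 ∈ ({0, -1} : Finset F) := fun x => by
    rcases key x.1 x.2 with e | e <;> simp [e]
  have := Nat.card_le_card_of_injective (fun x => (⟨x.1, hsub x⟩ : ({0, -1} : Finset F)))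
    fun a b e => Subtype.ext (congrArg (fun y : ({0, -1} : Finset F) => y.1) e)
  rw [Cfsg.Agent.Unitary.card_trace_zero C.hF, Nat.card_eq_fintype_card, Fintype.card_coe] at this
  exact h (le_antisymm (this.trans Finset.card_le_two) C.two_le_q)

/-- A long root element times a left factor in `M` is scalar. -/
theorem Ovg.scal_of_kr_mul_rt (H : C.Ovg M) {i : Fin (t + 1)} {a : GL (J m t) F}
    {k : (J m t → F) →ₗ[F] (J m t → F)} {b : Fin m → F} (hb0 : b ≠ 0) (hb : C.h b b = 0)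
    (hy : kr i a 1 * rt i k b (fl C.H b) ∈ M) : ∃ c : F, ∀ x, k x = c • x := by
  have hdiff : ∀ B : GL (Fin m) F, kr i 1 B ∈ C.ust (t + 1) →
      (rt i k b (fl C.H b))⁻¹ * rt i k (app B b) (fl C.H (app B b)) ∈ M := by
    intro B hB
    have hB' := H.hM hB
    have := mul_mem (inv_mem hy) (mul_mem (mul_mem hB' hy) (inv_mem hB'))
    rwa [show kr i 1 B * (kr i a 1 * rt i k b (fl C.H b)) * (kr i 1 B)⁻¹ =
        kr i a 1 * (kr i 1 B * rt i k b (fl C.H b) * (kr i 1 B)⁻¹) by
        rw [← mul_assoc, kr_mul, one_mul, mul_one, ← mul_assoc (kr i a 1),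
          ← mul_assoc (kr i a 1), kr_mul, mul_one, one_mul],
      C.conj_kr_rt (C.iso_of_kr_one hB.2.1) hb, _root_.mul_inv_rev, mul_assoc,
      inv_mul_cancel_left] at this
  obtain ⟨bp, hbp, hpb, hbbp, -⟩ := C.exists_partner hb0 hb
  by_cases hm4 : 4 ≤ m
  · have hW : 2 ≤ finrank F (perpF C.H ![b, bp]) := by
      have : m ≤ finrank F (perpF C.H ![b, bp]) + 2 := le_finrank_perpF C.H ![b, bp]
      omega
    obtain ⟨d, hd, hd0, hdd⟩ := C4.Herm.exists_iso_in C.hF C.H hW
    obtain ⟨B₀, hB₀, ρ, hρ, hB₀b⟩ := C.exists_move i hb0 hb hd0 hdd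
    set b₂ := ρ • d with hb₂def
    have hdb : C.h d b = 0 := (mem_perpF C.H).1 hd 0
    have hdp : C.h d bp = 0 := (mem_perpF C.H).1 hd 1
    have hb₂b : C.h b₂ b = 0 := by rw [hb₂def, C.H.smul_left, hdb, mul_zero]
    have hb₂p : C.h b₂ bp = 0 := by rw [hb₂def, C.H.smul_left, hdp, mul_zero]
    have hb₂ : C.h b₂ b₂ = 0 := by rw [hb₂def, C.H.smul_left, C.H.smul_right, hdd]; simp
    obtain ⟨b₂', -, h21, -, -⟩ := C.exists_partner (smul_ne_zero hρ hd0) hb₂
    have hbb₂ := (C.H.eq_zero_symm C.hF).1 hb₂b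
    have hx : ∀ μ : F, rt i (-k) b (fl C.H b) *
        rt i k (b₂ + μ • b) (fl C.H (b₂ + μ • b)) ∈ M := by
      intro μ
      set v := (-μ) ^ q • (b₂' - C.h b₂' b • bp) with hv
      have hvb : C.h v b = 0 := by
        rw [hv, C.H.smul_left, C.H.sub_left, C.H.smul_left, hpb, mul_one, sub_self, mul_zero]
      have hvb₂ : C.h v b₂ = (-μ) ^ q := by
        rw [hv, C.H.smul_left, C.H.sub_left, C.H.smul_left,
          (C.H.eq_zero_symm C.hF).1 hb₂p, h21]
        ring
      obtain ⟨c, hc⟩ := C.exists_trace v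
      have hE : kr i (1 : GL (J m t) F) (eich C.H b v c) ∈ C.ust (t + 1) := C.E_mem hb hvb hc
      have hmem := hdiff (eich C.H b v c * B₀)
        (by rw [← one_mul (1 : GL (J m t) F), ← kr_mul]; exact mul_mem hE hB₀)
      have e : app (eich C.H b v c * B₀) b = b₂ + μ • b := by
        rw [map_mul, LinearEquiv.mul_apply, hB₀b,
          eich_apply C.H hb ((C.H.eq_zero_symm C.hF).1 hvb) hvb c b₂, hb₂b,
          C.H.conj_symm v b₂, hvb₂, Cfsg.Agent.Unitary.pow_q_pow_q C.hF]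
        module
      rwa [e, rt_inv (show fl C.H b b = 0 from hb)] at hmem
    obtain ⟨ν, hν⟩ := Cfsg.Agent.Unitary.exists_trace_eq C.hF (one_pow q : (1 : F) ^ q = 1)
    refine H.hS i k b hb0 hb ?_
    have hu : ∀ μ : F, C.h (b₂ + μ • b) (b₂ + μ • b) = 0 := fun μ => by
      simp [C.H.add_left, C.H.add_right C.hF, C.H.smul_left, C.H.smul_right, hb, hb₂, hb₂b, hbb₂]
    have key : rt i k b (fl C.H b) =
        rt i (-k) b (fl C.H b) * rt i k (b₂ + (1 + ν) • b) (fl C.H (b₂ + (1 + ν) • b)) *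
        (rt i (-k) b (fl C.H b) * rt i k (b₂ + (0 : F) • b) (fl C.H (b₂ + (0 : F) • b))) *
        (rt i (-k) b (fl C.H b) * rt i k (b₂ + (1 : F) • b) (fl C.H (b₂ + (1 : F) • b)))⁻¹ *
        (rt i (-k) b (fl C.H b) * rt i k (b₂ + ν • b) (fl C.H (b₂ + ν • b)))⁻¹ := by
      refine gl_ext fun x => ?_
      have hap : ∀ (k : (J m t → F) →ₗ[F] (J m t → F)) (μ : F) (y : J m (t + 1) → F),
          app (rt i k (b₂ + μ • b) (fl C.H (b₂ + μ • b))) y =
            y + T i (k (C.cb i (b₂ + μ • b) y)) (b₂ + μ • b) := fun k μ => rt_apply (hu μ) k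
      have hap' : ∀ (k : (J m t → F) →ₗ[F] (J m t → F)) (y : J m (t + 1) → F),
          app (rt i k b (fl C.H b)) y = y + T i (k (C.cb i b y)) b := fun k => rt_apply hb k
      have hap0 : ∀ (k : (J m t → F) →ₗ[F] (J m t → F)) (y : J m (t + 1) → F),
          app (rt i k b₂ (fl C.H b₂)) y = y + T i (k (C.cb i b₂ y)) b₂ := fun k => rt_apply hb₂ k
      have e1 : (1 + ν) ^ q = 1 + ν ^ q := by
        rw [Cfsg.Agent.Unitary.add_pow_q C.hF, one_pow]
      rw [_root_.mul_inv_rev, _root_.mul_inv_rev, rt_inv (show fl C.H b b = 0 from hb),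
        rt_inv (show fl C.H (b₂ + (1 : F) • b) _ = 0 from hu 1),
        rt_inv (show fl C.H (b₂ + ν • b) _ = 0 from hu ν)]
      simp only [map_mul, LinearEquiv.mul_apply, hap, hap', hap0, map_add, map_smul, LinearMap.neg_apply,
        map_neg, C.cb_add, C.cb_smul, C.cb_T, hb, hb₂, hb₂b, hbb₂, C.H.add_left, C.H.smul_left,
        mul_zero, add_zero, zero_smul, map_zero, LinearMap.zero_apply, neg_neg, smul_zero,
        LinearMap.add_apply, LinearMap.smul_apply, neg_zero, e1, one_pow,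
        zero_pow (show q ≠ 0 by have := C.two_le_q; omega)]
      linear_combination (norm := module) -hν • T i (k (C.cb i b x)) b
    rw [key]
    exact mul_mem (mul_mem (mul_mem (hx _) (hx _)) (inv_mem (hx _))) (inv_mem (hx _))
  · have hq : q ≠ 2 := fun e => hm4 (C.exc e)
    obtain ⟨lam, hl, hl1⟩ := C.exists_norm_ne_one hq
    obtain ⟨B, hB, hBsl, hBb, -⟩ := C.exists_torus hb hbp hpb hbbp hl
    have hmem := hdiff B (C.kr_one_mem_ust i hB hBsl)
    rw [hBb, C.smul_rt hb, rt_inv (show fl C.H b b = 0 from hb),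
      rt_mul (show fl C.H b b = 0 from hb)] at hmem
    obtain ⟨c, hc⟩ := H.hS i _ b hb0 hb hmem
    refine ⟨(lam * lam ^ q - 1)⁻¹ * c, fun x => ?_⟩
    rw [← smul_smul, ← hc, eq_inv_smul_iff₀ (sub_ne_zero.2 hl1)]
    simp [sub_smul]
    abel

/-- An element of `M` carrying an isotropic line to another is in the wreath group. -/
theorem Ovg.mem_Wr_of_map (H : C.Ovg M) {g : GL (J m (t + 1)) F} (hg : g ∈ M) {i l : Fin (t + 1)}
    {b b₁ : Fin m → F} (hb0 : b ≠ 0) (hb : C.h b b = 0) (hb₁0 : b₁ ≠ 0) (hb₁ : C.h b₁ b₁ = 0)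
    (hgA : ∀ a, app g (T i a b) ∈ Li l b₁) : g ∈ Wr F m (t + 1) := by
  obtain ⟨p, hp, X, B, G, κ, hκ0, hκ, hX, hB, hK, hBb, hgK⟩ :=
    H.exists_decomp C hg hb0 hb hb₁0 hb₁ hgA
  cases t with
  | zero => exact mem_Wr_one _
  | succ s =>
    set K := p * kr i X B
    have hbb : fl C.H b b = 0 := hb
    have hnorm : ∀ a ∈ C.ust (s + 1), X * a * X⁻¹ ∈ C.ust (s + 1) := by
      intro a ha
      set a' := X * a * X⁻¹ with ha'
      have hsl : a' ∈ Cfsg.Geo.specialLinear (J m (s + 1)) F :=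
        (MonoidHom.normal_ker _).conj_mem _ ha.2.2 X
      have hiso : a' ∈ C.isoJ (s + 1) := fun x y => by
        simp only [ha', map_mul, LinearEquiv.mul_apply]
        rw [hX, ha.2.1, ← hX, app_app_inv, app_app_inv]
      set k₁ := (app a⁻¹).toLinearMap ∘ₗ G ∘ₗ (app a).toLinearMap - G
      set k₂ := κ⁻¹ • ((app X).toLinearMap ∘ₗ k₁ ∘ₗ (app X⁻¹).toLinearMap) with hk₂
      have hE : kr l a' 1 * rt l k₂ b₁ (fl C.H b₁) ∈ M := by
        have h1 : rt i G b (fl C.H b) * kr i a 1 * (rt i G b (fl C.H b))⁻¹ =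
            kr i a 1 * rt i k₁ b (fl C.H b) := by
          have hc : kr i a⁻¹ 1 * rt i G b (fl C.H b) * kr i a 1 =
              rt i ((app a⁻¹).toLinearMap ∘ₗ G ∘ₗ (app a).toLinearMap) b (fl C.H b) := by
            have hc := conj_rt (h := kr i a⁻¹ 1) (app_kr i a⁻¹ 1) hbb G
            rw [kr_inv, inv_inv, inv_one, map_one] at hc
            exact hc
          rw [rt_inv hbb, show rt i k₁ b (fl C.H b) =
              kr i a⁻¹ 1 * rt i G b (fl C.H b) * kr i a 1 * rt i (-G) b (fl C.H b) by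
            rw [hc, rt_mul hbb, ← sub_eq_add_neg]]
          simp only [← mul_assoc, kr_mul, mul_inv_cancel, one_mul, kr_one]
        have h2 : K * kr i a 1 * K⁻¹ = kr l a' 1 := by
          rw [mul_inv_eq_iff_eq_mul]
          refine gl_ext_T i fun x q => ?_
          simp only [map_mul, LinearEquiv.mul_apply, app_kr, hK, a', app_inv_app, map_one,
            LinearEquiv.coe_one, id_eq]
        have h3 : K * rt i k₁ b (fl C.H b) * K⁻¹ = rt l k₂ b₁ (fl C.H b₁) := by
          have hfl : fl C.H b ∘ₗ (app B⁻¹).toLinearMap = fl C.H b₁ := LinearMap.ext fun z => by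
            have h0 := hB (app B⁻¹ z) b
            rw [app_app_inv, hBb, C.H.smul_right, inv_pow, hκ] at h0
            exact (mul_left_cancel₀ (inv_ne_zero hκ0) h0).symm
          rw [conj_rt hK hbb, hfl, hBb]
          refine gl_ext fun x => ?_
          rw [rt_apply (show fl C.H b₁ (κ⁻¹ • b₁) = 0 by simp [hb₁]),
            rt_apply (show fl C.H b₁ b₁ = 0 from hb₁), hk₂, LinearMap.smul_apply, map_smul, map_smul,
            LinearMap.smul_apply]
        have h4 : g * kr i a 1 * g⁻¹ = kr l a' 1 * rt l k₂ b₁ (fl C.H b₁) := by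
          rw [← h2, ← h3, hgK]
          calc K * rt i G b (fl C.H b) * kr i a 1 * (K * rt i G b (fl C.H b))⁻¹
              = K * (rt i G b (fl C.H b) * kr i a 1 * (rt i G b (fl C.H b))⁻¹) * K⁻¹ := by group
            _ = _ := by rw [h1]; group
        rw [← h4]
        exact mul_mem (mul_mem hg (H.hM (C.kr_left_mem_ust i ha))) (inv_mem hg)
      obtain ⟨c, hc⟩ := H.scal_of_kr_mul_rt C hb₁0 hb₁ hE
      have hR : rt l k₂ b₁ (fl C.H b₁) = C.R l b₁ c := by
        rw [R, show k₂ = c • LinearMap.id from LinearMap.ext fun x => by rw [hc]; rfl]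
      rw [hR] at hE
      have hkr : kr l a' (1 : GL (Fin m) F) ∈ C.isoJ (s + 2) :=
        C.kr_iso l hiso fun x y => by simp
      have hsk : c + c ^ q = 0 := C.skew_of_R_mem hb₁0 hb₁ (i := l) (by
        have := mul_mem (inv_mem hkr) (H.hMK hE).1
        rwa [inv_mul_cancel_left] at this)
      have hkM : kr l a' 1 ∈ M := by
        have := mul_mem hE (inv_mem (H.hM (C.R_mem (i := l) hb₁ hsk)))
        rwa [mul_inv_cancel_right] at this
      refine ⟨H.hIH s rfl _ (le_inf (fun a ha => H.hM (C.kr_left_mem_ust l ha)) inf_le_right)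
        inf_le_right (C.comap_scal H.hS l) (Subgroup.mem_inf.2 ⟨hkM, hiso, hsl⟩), hiso, hsl⟩
    have hXW : X ∈ Wr F m (s + 1) := by
      refine mem_Wr_of_lines C.hm (S := {u | C.h u u = 0})
        (eq_top_iff.2 fun x _ => C4.Herm.mem_span_iso C.hF C.H C.nd (by have := C.hm; omega) x)
        (fun u hu u' hu' => ?_) X fun j u hu hu0 => ?_
      · obtain ⟨s₀, hs₀, hs⟩ := C.exists_skew
        have hs' : s₀ ^ q = -s₀ := eq_neg_of_add_eq_zero_right hs
        by_cases h0 : C.h u' u = 0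
        · exact ⟨1, one_ne_zero, by
            show C.h (u + (1 : F) • u') (u + (1 : F) • u') = 0
            rw [one_smul, C.H.add_left, C.H.add_right C.hF, C.H.add_right C.hF, hu, hu', h0,
              (C.H.eq_zero_symm C.hF).1 h0]
            ring⟩
        · refine ⟨s₀ / C.h u' u, div_ne_zero hs₀ h0, ?_⟩
          show C.h (u + (s₀ / C.h u' u) • u') (u + (s₀ / C.h u' u) • u') = 0
          rw [C.H.add_left, C.H.add_right C.hF, C.H.add_right C.hF, C.H.smul_left, C.H.smul_left,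
            C.H.smul_right, C.H.smul_right, hu, hu', div_pow, C.H.conj_symm u' u, hs',
            div_mul_cancel₀ _ h0, div_mul_cancel₀ _ (pow_ne_zero _ h0)]
          ring
      · obtain ⟨l', v, -, hl⟩ := line_of_root_group C (Y := X) (j := j) hu0 hu fun s hs hs0 =>
          (hnorm _ (C.R_mem hu hs)).1
        exact ⟨l', v, fun a => hl ▸ Submodule.mem_map_of_mem (T_mem_Li _ _ _)⟩
    have hKW : K ∈ Wr F m (s + 2) := mul_mem hp (kr_mem i hXW B)
    have hKiso : K ∈ C.isoJ (s + 2) := C.iso_of_T i fun a w a' w' => by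
      rw [hK, hK, C.fV_T, hX, hB]
      field_simp
    have hKsl : K ∈ Cfsg.Geo.specialLinear (J m (s + 2)) F := by
      have := mul_mem (Subgroup.mem_inf.1 (H.hMK hg)).2 (inv_mem (rt_mem_sl i G b (fl C.H b)))
      rwa [hgK, mul_inv_cancel_right] at this
    have hKu : K ∈ C.ust (s + 2) := ⟨hKW, hKiso, hKsl⟩
    have hrt : rt i G b (fl C.H b) ∈ M := by
      have := mul_mem (inv_mem (H.hM hKu)) hg
      rwa [hgK, inv_mul_cancel_left] at this
    obtain ⟨c, hc⟩ := H.hS i G b hb0 hb hrt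
    rw [hgK, show G = c • LinearMap.id from LinearMap.ext fun a => by rw [hc]; rfl]
    show K * C.R i b c ∈ _
    rw [C.R_eq_kr hb]
    exact mul_mem hKW (kr_one_mem i _)

end Ctx

end Cfsg.Agent.C7U
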