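import Cfsg.Agent.Lib.C7U.MaxBig

/-!
# The case `q = 2`

For a good pair `(A, y)` and a local involution `n` fixing `A`, the dihedral group of `n` and `y` has a
central element whose centraliser lies in the wreath group.
-/

set_option autoImplicit false
set_option linter.unusedSectionVars false

namespace Cfsg.Agent.C7U

open Matrix Module Cfsg.Agent.Transvect Cfsg.Agent.C7
open Cfsg.Agent.Unitary (IsHerm Nondeg)
open Cfsg.Agent.C4.Herm (fl fl_apply Iso tu tu_apply tu_iso perpF mem_perpF le_finrank_perpF)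
open scoped MatrixGroups

namespace Ctx

variable {F : Type*} [Field F] [Fintype F] {q m : ℕ} (C : Ctx F q m) {t σ : ℕ}

/-- A factor acting in another position. -/
lemma app_kr_other (i : Fin (σ + 2)) (j : Fin (σ + 1)) (N : GL (Fin m) F) (z : J m (σ + 1) → F)
    (u : Fin m → F) :
    app (kr (i.succAbove j) 1 N) (T i z u) = T i (app (kr j 1 N) z) u :=
  LinearMap.congr_fun (lin_ext j
    (f := (app (kr (i.succAbove j) (1 : GL (J m (σ + 1)) F) N)).toLinearMap ∘ₗ (T i).flip u)
    (g := (T i).flip u ∘ₗ (app (kr j (1 : GL (J m σ) F) N)).toLinearMap) fun c w => by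
      simp only [LinearMap.comp_apply, LinearEquiv.coe_coe, LinearMap.flip_apply, app_kr, map_one,
        LinearEquiv.coe_one, id_eq]
      obtain ⟨z', hz⟩ := nested_eq i j c u
      rw [hz, app_kr, map_one, LinearEquiv.coe_one, id_eq, hz]) z

include C

lemma fixed_eq_one (hq : q = 2) {x : F} (hx : x ^ q = x) (h0 : x ≠ 0) : x = 1 := by
  rw [hq, pow_two] at hx
  exact mul_left_cancel₀ h0 (hx.trans (mul_one x).symm)

lemma pow_four (hq : q = 2) (x : F) : x ^ 4 = x := by
  have h := FiniteField.pow_card x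
  rw [C.hF, hq] at h
  simpa using h

lemma R_smul (hq : q = 2) {i : Fin (t + 1)} {u : Fin m → F} (hu : C.h u u = 0) {c : F}
    (hc : c ≠ 0) : C.R i (c • u) 1 = C.R i u 1 := by
  have h1 : c * c ^ q = 1 := by
    have := C.pow_four hq c
    rw [hq]
    exact mul_left_cancel₀ hc (by linear_combination this)
  rw [R, C.smul_rt hu, h1, one_smul, R]

lemma R_sq (hq : q = 2) {i : Fin (t + 1)} {u : Fin m → F} (hu : C.h u u = 0) :
    C.R i u 1 * C.R i u 1 = 1 := by
  rw [C.R_mul hu, show (1 : F) + 1 = 0 by linear_combination C.two_eq_zero hq, C.R_zero hu]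

lemma form_iso (hq : q = 2) {g : GL (J m (t + 1)) F} (hg : g ∈ C.isoJ (t + 1)) {i l : Fin (t + 1)}
    {X : GL (J m t) F} {B : GL (Fin m) F}
    (h : ∀ a u, app g (T i a u) = T l (app X a) (app B u)) : Iso C.h B ∧ X ∈ C.isoJ t := by
  have e : ∀ a a' u w, C.fV t (app X a) (app X a') * C.h (app B u) (app B w) =
      C.fV t a a' * C.h u w := fun a a' u w => by rw [← C.fV_T l, ← h, ← h, hg, C.fV_T]
  obtain ⟨b, hb0, hb⟩ := C.exists_iso
  obtain ⟨b', hb', h1, h2, -⟩ := C.exists_partner hb0 hb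
  obtain ⟨z, -, -, hz⟩ := C.exists_aniso_perp hb hb' h1 h2
  have hzz : C.h z z = 1 := C.fixed_eq_one hq (C.H.self_fixed z) hz
  obtain ⟨a, ha⟩ := @exists_ne (J m t → F) (@Function.nontrivial _ _ (C.nonempty_J t) _) 0
  obtain ⟨a', ha'⟩ := C.exists_pair_J ha
  have h3 := e a' a z z
  rw [ha', hzz, one_mul] at h3
  have hBz : C.h (app B z) (app B z) = 1 := C.fixed_eq_one hq (C.H.self_fixed _) fun e0 => by
    rw [e0, mul_zero] at h3; exact zero_ne_one h3
  refine ⟨fun u w => ?_, fun x y => ?_⟩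
  · have h4 := e a' a u w
    rw [hBz, mul_one] at h3
    rwa [h3, ha', one_mul, one_mul] at h4
  · simpa [hBz, hzz, -app_apply] using e x y z z

lemma conj_R_form {g : GL (J m (t + 1)) F} {i l : Fin (t + 1)} {X : GL (J m t) F}
    {B : GL (Fin m) F} (h : ∀ a u, app g (T i a u) = T l (app X a) (app B u)) (hB : Iso C.h B)
    {b : Fin m → F} (hb : C.h b b = 0) (s : F) :
    g * C.R i b s * g⁻¹ = C.R l (app B b) s := by
  rw [R, R, conj_rt h (show fl C.H b b = 0 from hb)]
  congr 1
  · exact LinearMap.ext fun a => by simp [-app_apply, app_app_inv]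
  · refine LinearMap.ext fun z => ?_
    simp only [LinearMap.comp_apply, LinearEquiv.coe_coe, fl_apply]
    rw [← hB, app_app_inv]

variable {M : Subgroup (GL (J m (t + 1)) F)}

/-- The centraliser of a local involution is in the wreath group. -/
theorem Ovg.mem_Wr_of_comm_local (H : C.Ovg M) (hq : q = 2) {g : GL (J m (t + 1)) F} (hg : g ∈ M)
    {i : Fin (t + 1)} {B : GL (Fin m) F} (hB : Iso C.h B) (hB2 : ∀ u, app B (app B u) = u)
    {u₀ : Fin m → F} (hu₀ : app B u₀ ≠ u₀) (hc : g * kr i 1 B = kr i 1 B * g) :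
    g ∈ Wr F m (t + 1) := by
  have horth : ∀ u v, C.h (app B v - v) (app B u - u) = 0 := fun u v => by
    have h1 : C.h (app B v) u = C.h v (app B u) := by
      conv_lhs => rw [← hB2 u, hB]
    simp only [C.H.sub_left, C.H.sub_right C.hF, hB v u, h1]
    linear_combination (C.h v u - C.h v (app B u)) * C.two_eq_zero hq
  refine H.mem_Wr_of_comm C hg hc (i := i) (p := app B u₀ - u₀) (sub_ne_zero.2 hu₀) (horth _ _) ?_ ?_
  · rintro _ ⟨a, rfl⟩
    refine ⟨T i a u₀, ?_⟩
    show app (kr i 1 B) (T i a u₀) - T i a u₀ = _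
    rw [app_kr, map_one, LinearEquiv.coe_one, id_eq, LinearMap.flip_apply, map_sub]
  · refine C4.res_le fun x => C.cb_eq_zero_iff.1 ?_
    exact LinearMap.congr_fun (lin_ext i
      (f := C.cb i (app B u₀ - u₀) ∘ₗ ((app (kr i (1 : GL (J m t) F) B)).toLinearMap - LinearMap.id))
      (g := 0) fun a u => by
        simp only [LinearMap.comp_apply, LinearMap.sub_apply, LinearEquiv.coe_coe,
          LinearMap.id_apply, app_kr, map_one, LinearEquiv.coe_one, id_eq, ← map_sub, C.cb_T,
          horth, zero_smul, LinearMap.zero_apply]) x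

/-- An involution of `M` commuting with a local one and conjugate to it by `y` puts `y` in the
wreath group. -/
theorem Ovg.mem_Wr_of_inv (H : C.Ovg M) (hq : q = 2) {y : GL (J m (t + 1)) F} (hy : y ∈ M)
    (hy2 : y * y = 1) {i : Fin (t + 1)} {N : GL (Fin m) F} (hN : Iso C.h N)
    (hN2 : ∀ u, app N (app N u) = u) {u₀ : Fin m → F} (hu₀ : app N u₀ ∉ F ∙ u₀)
    (hn : kr i 1 N ∈ M) (hc : kr i 1 N * (y * kr i 1 N * y) = y * kr i 1 N * y * kr i 1 N) :
    y ∈ Wr F m (t + 1) := by
  set n := kr i (1 : GL (J m t) F) N with hndef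
  set n' := y * n * y with hn'
  have hn'M : n' ∈ M := mul_mem (mul_mem hy hn) hy
  have hu₀' : app N u₀ ≠ u₀ := fun e => hu₀ (by rw [e]; exact Submodule.mem_span_singleton_self _)
  have hn'W := H.mem_Wr_of_comm_local C hq hn'M hN hN2 hu₀' hc.symm
  have hn'2 : n' * n' = 1 := by
    have hnn : n * n = 1 := gl_ext_T i fun a u => by
      simp only [hndef, map_mul, LinearEquiv.mul_apply, app_kr, map_one, LinearEquiv.coe_one, id_eq,
        hN2]
    calc n' * n' = y * n * (y * y) * n * y := by rw [hn']; group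
      _ = y * (n * n) * y := by rw [hy2]; group
      _ = 1 := by rw [hnn, mul_one, hy2]
  obtain ⟨l, X, B, hT⟩ := exists_form hn'W i
  obtain ⟨a₀, ha₀⟩ := @exists_ne (J m t → F) (@Function.nontrivial _ _ (C.nonempty_J t) _) 0
  have hXa : app X a₀ ≠ 0 := (app X).map_ne_zero_iff.2 ha₀
  have hli : l = i := by
    by_contra hne
    cases t with
    | zero => exact hne ((Fin.fin_one_eq_zero l).trans (Fin.fin_one_eq_zero i).symm)
    | succ σ =>
      obtain ⟨j, hj⟩ := Fin.exists_succAbove_eq (Ne.symm hne)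
      have h1 := congrArg (fun z => app z (T i a₀ u₀)) hc
      simp only [map_mul, LinearEquiv.mul_apply] at h1
      have e1 : app n (T i a₀ u₀) = T i a₀ (app N u₀) := by
        rw [hndef, app_kr, map_one, LinearEquiv.coe_one, id_eq]
      have e2 : app n (T l (app X a₀) (app B u₀)) =
          T l (app (kr j 1 N) (app X a₀)) (app B u₀) := by
        rw [hndef, ← hj, app_kr_other]
      rw [e1, hT, hT, e2] at h1
      obtain ⟨c, hc'⟩ := Submodule.mem_span_singleton.1 (mem_span_of_T_eq hXa h1.symm)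
      exact hu₀ (Submodule.mem_span_singleton.2 ⟨c, (app B).injective (by rw [map_smul, hc'])⟩)
  subst l
  obtain ⟨hBiso, -⟩ := C.form_iso hq (H.hMK hn'M).1 hT
  obtain ⟨ψ, hψ⟩ := exists_dual (show app X (app X a₀) ≠ 0 from (app X).map_ne_zero_iff.2 hXa)
  set c := ψ a₀ with hcdef
  have hBB : ∀ u, app B (app B u) = c • u := fun u => by
    have h1 := congrArg (fun z => lc i ψ (app z (T i a₀ u))) hn'2
    simp only [map_mul, LinearEquiv.mul_apply, map_one, LinearEquiv.coe_one, id_eq, hT, lc_T, hψ,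
      one_smul] at h1
    exact h1
  set s := c ^ 2 with hsdef
  have h2 := C.two_eq_zero hq
  have hs : s * s = c := by rw [hsdef, ← pow_add, C.pow_four hq]
  let D : (Fin m → F) →ₗ[F] (Fin m → F) := (app B).toLinearMap + s • LinearMap.id
  have hle : LinearMap.range D ≤ LinearMap.ker D := by
    rintro _ ⟨u, rfl⟩
    show app B (app B u + s • u) + s • (app B u + s • u) = 0
    rw [map_add, map_smul, hBB, smul_add, smul_smul, hs,
      show ∀ v w : Fin m → F, v + w + (w + v) = (2 : F) • (v + w) from fun v w => by module, h2,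
      zero_smul]
  have hker : 2 ≤ finrank F (LinearMap.ker D) := by
    have h3 := LinearMap.finrank_range_add_finrank_ker D
    have h4 := Submodule.finrank_mono hle
    rw [finrank_fin_fun] at h3
    have := C.exc hq
    omega
  obtain ⟨p, hpD, hp0, hp⟩ := C4.Herm.exists_iso_in C.hF C.H hker
  have hBp : app B p = s • p := by
    have h5 : app B p + s • p = 0 := hpD
    rw [eq_neg_of_add_eq_zero_left h5, neg_eq_iff_add_eq_zero, ← two_smul F, h2, zero_smul]
  have hs0 : s ≠ 0 := fun e => hp0 ((app B).map_eq_zero_iff.1 (by rw [hBp, e, zero_smul]))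
  have hR : n' * C.R i p 1 * n'⁻¹ = C.R i p 1 := by
    rw [C.conj_R_form hT hBiso hp, hBp, C.R_smul hq hp hs0]
  have hyi : y⁻¹ = y := inv_eq_of_mul_eq_one_right hy2
  refine H.mem_Wr_of_conj C hy hp0 hp (i := i) fun e he he0 => ?_
  rw [(C.skew_two hq he).resolve_left he0]
  refine H.mem_Wr_of_comm_local C hq (mul_mem (mul_mem hy (H.hM (C.R_mem hp (C.skew_one hq))))
    (inv_mem hy)) hN hN2 hu₀' (i := i) ?_
  rw [mul_inv_eq_iff_eq_mul] at hR
  rw [hyi, ← hndef]
  calc y * C.R i p 1 * y * n = y * (C.R i p 1 * (y * n * y)) * y := by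
        simp [mul_assoc, hy2]
    _ = y * (y * n * y * C.R i p 1) * y := by rw [← hR]
    _ = n * (y * C.R i p 1 * y) := by simp [← mul_assoc, hy2]

/-- Overgroups lie in the wreath group for `q = 2`. -/
theorem Ovg.le_Wr_of_two (H : C.Ovg M) (hq : q = 2) : M ≤ Wr F m (t + 1) := by
  by_contra hcon
  obtain ⟨P, hgood⟩ := H.exists_good C hcon
  have hm4 := C.exc hq
  have h2 := C.two_eq_zero hq
  set i := P.i
  set b := P.b
  have hb : C.h b b = 0 := P.hb
  obtain ⟨bp, hbp, hpb, hbbp, -⟩ := C.exists_partner P.hb0 hb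
  have hW2 : 2 ≤ finrank F (perpF C.H ![b, bp]) := by
    have : m ≤ finrank F (perpF C.H ![b, bp]) + 2 := le_finrank_perpF C.H ![b, bp]
    omega
  obtain ⟨b₂, hd, hb₂0, hb₂⟩ := C4.Herm.exists_iso_in C.hF C.H hW2
  have hb₂b : C.h b₂ b = 0 := (mem_perpF C.H).1 hd 0
  have hb₂p : C.h b₂ bp = 0 := (mem_perpF C.H).1 hd 1
  have hbb₂ := (C.H.eq_zero_symm C.hF).1 hb₂b
  have hpb₂ := (C.H.eq_zero_symm C.hF).1 hb₂p
  obtain ⟨b₂', -, h21, -, -⟩ := C.exists_partner hb₂0 hb₂
  set u₁ := b₂' - C.h b₂' b • bp with hu₁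
  have hu₁b : C.h u₁ b = 0 := by
    rw [hu₁, C.H.sub_left, C.H.smul_left, hpb, mul_one, sub_self]
  have hu₁b₂ : C.h u₁ b₂ = 1 := by
    rw [hu₁, C.H.sub_left, C.H.smul_left, hpb₂, mul_zero, sub_zero, h21]
  have hbu₁ := (C.H.eq_zero_symm C.hF).1 hu₁b
  have hb₂u₁ : C.h b₂ u₁ = 1 := by rw [C.H.conj_symm u₁ b₂, hu₁b₂, one_pow]
  have h1q := C.skew_one hq
  set N := tu C.H b 1 * tu C.H b₂ 1 with hNdef
  have hNap : ∀ u, app N u = u + C.h u b • b + C.h u b₂ • b₂ := fun u => by
    rw [hNdef, map_mul, LinearEquiv.mul_apply, tu_apply C.H hb, tu_apply C.H hb₂, C.H.add_left,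
      C.H.smul_left, hb₂b, mul_zero, add_zero, one_mul, one_mul]
    abel
  have hN : Iso C.h N := fun x y => by
    rw [hNdef, map_mul, LinearEquiv.mul_apply, LinearEquiv.mul_apply,
      tu_iso C.hF C.H hb h1q, tu_iso C.hF C.H hb₂ h1q]
  have hN2 : ∀ u, app N (app N u) = u := fun u => by
    rw [hNap, hNap]
    simp only [C.H.add_left, C.H.smul_left, hb, hb₂, hb₂b, hbb₂, mul_zero, add_zero]
    rw [show ∀ (x v w : Fin m → F), x + v + w + v + w = x + (2 : F) • (v + w) from
      fun x v w => by module, h2, zero_smul, add_zero]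
  have hNu₁ : app N u₁ = u₁ + b₂ := by rw [hNap, hu₁b, hu₁b₂, zero_smul, one_smul, add_zero]
  have hNn : app N u₁ ∉ F ∙ u₁ := fun h => by
    obtain ⟨c, hc⟩ := Submodule.mem_span_singleton.1 h
    rw [hNu₁] at hc
    have h3 := congrArg (C.h · b₂) hc
    simp only [C.H.smul_left, C.H.add_left, hu₁b₂, hb₂, mul_one, add_zero] at h3
    rw [h3, one_smul, left_eq_add] at hc
    exact hb₂0 hc
  have hNu₁' : app N u₁ ≠ u₁ := fun e => hNn (by rw [e]; exact Submodule.mem_span_singleton_self _)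
  set n := kr i (1 : GL (J m t) F) N with hndef
  have hnR : n = C.R i b 1 * C.R i b₂ 1 := by
    rw [C.R_eq_kr hb, C.R_eq_kr hb₂, kr_mul, one_mul]
  clear_value N
  have hnM : n ∈ M := hnR ▸ mul_mem (H.hM (C.R_mem hb h1q)) (H.hM (C.R_mem hb₂ h1q))
  have hnn : n * n = 1 := gl_ext_T i fun a u => by
    simp only [hndef, map_mul, LinearEquiv.mul_apply, app_kr, map_one, LinearEquiv.coe_one, id_eq,
      hN2]
  have hni : n⁻¹ = n := inv_eq_of_mul_eq_one_right hnn
  have hnfix : ∀ x ∈ Li i b, app n x = x := by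
    rintro _ ⟨a, rfl⟩
    rw [LinearMap.flip_apply, hndef, app_kr, map_one, LinearEquiv.coe_one, id_eq, hNap, hb, hbb₂]
    simp
  set R₀ := C.R P.i₀ P.b₀ 1 with hR₀
  have hR₀2 : R₀ * R₀ = 1 := C.R_sq hq P.hb₀
  set y := P.x * R₀ * P.x⁻¹ with hydef
  have hyM : y ∈ M := mul_mem (mul_mem P.hx (H.hM (C.R_mem P.hb₀ h1q))) (inv_mem P.hx)
  have hyy : y * y = 1 := by
    rw [hydef, show ∀ a r : GL (J m (t + 1)) F, a * r * a⁻¹ * (a * r * a⁻¹) = a * (r * r) * a⁻¹ from
      fun a r => by group, hR₀2, mul_one, mul_inv_cancel]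
  have hyW : y ∉ Wr F m (t + 1) := fun h => P.hxW (H.mem_Wr_of_conj C P.hx P.hb₀0 P.hb₀
    fun e he he0 => by rw [(C.skew_two hq he).resolve_left he0]; exact h)
  have hyres : C4.res y = P.S := by rw [hydef, C4.res_conj, hR₀, C.res_R P.hb₀0 P.hb₀ one_ne_zero]
  have hyfix : ∀ v ∈ P.S, app y v = v := by
    rintro _ ⟨v, ⟨a, rfl⟩, rfl⟩
    rw [hydef, map_mul, map_mul]
    simp only [LinearEquiv.mul_apply, LinearEquiv.coe_coe, app_inv_app, LinearMap.flip_apply]
    rw [hR₀, (C.R_fix_iff P.hb₀0 P.hb₀ one_ne_zero).2 (by rw [C.cb_T, P.hb₀, zero_smul])]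
  clear_value y
  -- the product `n y n y` has odd order
  have hodd : Odd (orderOf (n * y * n * y)) := by
    set g := P.x⁻¹ * n * P.x with hgdef
    have hgM : g ∈ M := mul_mem (mul_mem (inv_mem P.hx) hnM) P.hx
    have hconj : n * y * n * y = MulAut.conj P.x (g * R₀ * g⁻¹ * R₀) := by
      rw [MulAut.conj_apply, hgdef, hydef]
      simp only [_root_.mul_inv_rev, inv_inv, hni]
      group
    rw [hconj, MulEquiv.orderOf_eq]
    by_cases hgW : g ∈ Wr F m (t + 1)
    swap
    · have hle : P.j ≤ finrank F (Li P.i₀ P.b₀ ⊓ (Li P.i₀ P.b₀).map (app g).toLinearMap :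
          Submodule F (J m (t + 1) → F)) := by
        rw [← LinearEquiv.finrank_map_eq (app P.x)
          (Li P.i₀ P.b₀ ⊓ (Li P.i₀ P.b₀).map (app g).toLinearMap)]
        refine Submodule.finrank_mono ?_
        rintro _ ⟨hv, w, hw, rfl⟩
        refine ⟨w, ⟨hw, w, hw, ?_⟩, rfl⟩
        have h3 := hnfix _ hv
        simp only [LinearEquiv.coe_coe] at h3 ⊢
        rw [hgdef, map_mul, map_mul, LinearEquiv.mul_apply, LinearEquiv.mul_apply, h3, app_inv_app]
      let P' : C.Pr M := ⟨g, hgM, hgW, P.i₀, P.b₀, P.hb₀0, P.hb₀, P.i₀, P.b₀, P.hb₀0, P.hb₀,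
        fun x' e1 e2 i' b' l v e3 e4 e5 e6 => (P.hmax x' e1 e2 i' b' l v e3 e4 e5 e6).trans hle⟩
      have := P'.odd_mul (P'.good_of_four H hm4) hq
      rw [← orderOf_inv] at this
      have e : (R₀ * (g * R₀ * g⁻¹))⁻¹ = g * R₀ * g⁻¹ * R₀ := by
        simp only [_root_.mul_inv_rev, inv_inv, inv_eq_of_mul_eq_one_right hR₀2, mul_assoc]
      change Odd (orderOf (R₀ * (g * R₀ * g⁻¹))⁻¹) at this
      rwa [e] at this
    · obtain ⟨l, X, B, hT⟩ := exists_form hgW P.i₀
      obtain ⟨hB, -⟩ := C.form_iso hq (H.hMK hgM).1 hT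
      set v := app B P.b₀
      have hv : C.h v v = 0 := by rw [hB, P.hb₀]
      rw [hR₀, C.conj_R_form hT hB P.hb₀]
      have hno : ¬ Commute (C.R l v 1) (C.R P.i₀ P.b₀ 1) := fun hcm => by
        refine hyW (H.mem_Wr_of_inv C hq hyM hyy hN hN2 hNn hnM ?_)
        have h3 : n * y * n * y = y * (n * y * n) := by
          rw [hconj, hR₀, C.conj_R_form hT hB P.hb₀, hcm.eq, hydef, MulAut.conj_apply]
          have h4 : g * C.R P.i₀ P.b₀ 1 * g⁻¹ = C.R l v 1 := C.conj_R_form hT hB P.hb₀ 1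
          rw [← h4, hgdef, hR₀]
          simp only [_root_.mul_inv_rev, inv_inv, hni]
          group
        simpa [mul_assoc] using h3
      by_cases hl : l = P.i₀
      swap
      · refine absurd ?_ hno
        cases t with
        | zero => exact absurd ((Fin.fin_one_eq_zero l).trans (Fin.fin_one_eq_zero P.i₀).symm) hl
        | succ σ =>
          obtain ⟨j, hj⟩ := Fin.exists_succAbove_eq hl
          refine gl_ext_T P.i₀ fun a u => ?_
          rw [C.R_eq_kr hv, C.R_eq_kr P.hb₀, ← hj]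
          simp only [map_mul, LinearEquiv.mul_apply, app_kr_other, app_kr, map_one,
            LinearEquiv.coe_one, id_eq]
      subst hl
      by_cases hvb : C.h v P.b₀ = 0
      · refine absurd (gl_ext fun x => ?_) hno
        simp only [map_mul, LinearEquiv.mul_apply, C.R_apply hv, C.R_apply P.hb₀, map_add, map_smul,
          C.cb_T, hvb, (C.H.eq_zero_symm C.hF).1 hvb, zero_smul, map_zero, LinearMap.zero_apply,
          smul_zero, add_zero]
        abel
      refine Odd.of_dvd_nat (by decide : Odd 3) (orderOf_dvd_of_pow_eq_one ?_)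
      set A := C.R P.i₀ v 1 with hA
      set D := C.R P.i₀ P.b₀ 1 with hD
      have key : ∀ {v w : Fin m → F}, C.h v v = 0 → C.h w w = 0 →
          C.R P.i₀ v 1 * C.R P.i₀ w 1 * (C.R P.i₀ v 1)⁻¹ =
            C.R P.i₀ (w + C.h w v • v) 1 := fun {v w} hv hw => by
        rw [C.conj_R_form (g := C.R P.i₀ v 1) (X := 1) (B := tu C.H v 1)
          (fun a u => by rw [C.R_eq_kr hv, app_kr]) (tu_iso C.hF C.H hv h1q) hw, tu_apply C.H hv,
          one_mul]
      have hbraid : A * D * A = D * A * D := by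
        have e1 := key hv P.hb₀
        have e2 := key P.hb₀ hv
        have hsy : C.h P.b₀ v = C.h v P.b₀ ^ q := C.H.conj_symm v P.b₀
        have e3 : C.h v P.b₀ * C.h P.b₀ v = 1 := by
          have := C.pow_four hq (C.h v P.b₀)
          rw [hsy, show C.h v P.b₀ ^ q = C.h v P.b₀ ^ 2 from congrArg (fun n : ℕ => C.h v P.b₀ ^ n) hq]
          exact mul_left_cancel₀ hvb (by linear_combination this)
        have e4 : P.b₀ + C.h P.b₀ v • v = C.h P.b₀ v • (v + C.h v P.b₀ • P.b₀) := by
          rw [smul_add, smul_smul, mul_comm (C.h P.b₀ v), e3, one_smul, add_comm]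
        have h5 : C.h (v + C.h v P.b₀ • P.b₀) (v + C.h v P.b₀ • P.b₀) = 0 := by
          simp only [C.H.add_left, C.H.add_right C.hF, C.H.smul_left, C.H.smul_right, hv, P.hb₀]
          rw [hsy]
          linear_combination C.h v P.b₀ * C.h v P.b₀ ^ q * h2
        rw [e4, C.R_smul hq h5 fun e => by rw [e, mul_zero] at e3; exact zero_ne_one e3, ← e2] at e1
        rwa [inv_eq_of_mul_eq_one_right (C.R_sq hq hv),
          inv_eq_of_mul_eq_one_right (C.R_sq hq P.hb₀)] at e1
      calc (A * D) ^ 3 = A * D * A * (D * A * D) := by simp [pow_succ, mul_assoc]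
        _ = A * D * A * (A * D * A) := by rw [hbraid]
        _ = A * D * (A * A) * D * A := by group
        _ = A * (D * D) * A := by rw [C.R_sq hq hv]; group
        _ = 1 := by rw [C.R_sq hq P.hb₀, mul_one, C.R_sq hq hv]
  obtain ⟨e, he⟩ := hodd
  set ρ := n * y with hρ
  have hρi : ρ⁻¹ = y * n := by rw [hρ, _root_.mul_inv_rev, hni, inv_eq_of_mul_eq_one_right hyy]
  have hnρ : n * ρ = y := by rw [hρ, ← mul_assoc, hnn, one_mul]
  set o := 2 * e + 1 with ho
  set w := ρ ^ o with hwdef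
  have hww : w * w = 1 := by
    have h3 := pow_orderOf_eq_one (n * y * n * y)
    rw [he, show n * y * n * y = ρ ^ 2 by rw [hρ, pow_two]; group, ← pow_mul] at h3
    rw [hwdef, ← pow_add, ← two_mul]
    exact h3
  have hwi : w⁻¹ = w := inv_eq_of_mul_eq_one_right hww
  have hwn : w * n = n * w := by
    have h3 : n * ρ * n⁻¹ = ρ⁻¹ := by rw [hρi, hnρ, hni]
    have h4 := congrArg (· ^ o) h3
    simp only [conj_pow, inv_pow, ← hwdef, hwi, mul_inv_eq_iff_eq_mul] at h4
    exact h4.symm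
  have hwy : w * y = y * w := by
    have h3 : y * ρ * y⁻¹ = ρ⁻¹ := by
      rw [hρi, hρ, inv_eq_of_mul_eq_one_right hyy]; simp [mul_assoc, hyy]
    have h4 := congrArg (· ^ o) h3
    simp only [conj_pow, inv_pow, ← hwdef, hwi, mul_inv_eq_iff_eq_mul] at h4
    exact h4.symm
  have hdih : ∀ k : ℕ, n * ρ ^ (2 * k + 1) = ρ⁻¹ ^ k * y * ρ ^ k := by
    intro k
    induction k with
    | zero => simp [hnρ]
    | succ k ih =>
      rw [pow_succ' ρ⁻¹, pow_succ ρ k,
        show ρ⁻¹ * ρ⁻¹ ^ k * y * (ρ ^ k * ρ) = ρ⁻¹ * (ρ⁻¹ ^ k * y * ρ ^ k) * ρ by group, ← ih,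
        show 2 * (k + 1) + 1 = (2 * k + 1) + 1 + 1 by ring, pow_succ' ρ, hρi,
        ← mul_assoc n ρ, hnρ, show y * n * (n * ρ ^ (2 * k + 1)) * ρ =
          y * (n * n) * (ρ ^ (2 * k + 1) * ρ) by group, hnn, mul_one, ← pow_succ]
  set u := ρ⁻¹ ^ e with hu
  set y'' := n * w with hy''
  have hy''u : y'' = u * P.x * R₀ * (u * P.x)⁻¹ := by
    rw [hy'', hwdef, ho, hdih, hu, hydef, inv_pow]
    group
  have hρM : ρ ∈ M := mul_mem hnM hyM
  have huxM : u * P.x ∈ M := mul_mem (pow_mem (inv_mem hρM) e) P.hx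
  have hy''M : y'' ∈ M := mul_mem hnM (pow_mem hρM o)
  have hy''n : y'' * n = n * y'' := by rw [hy'', mul_assoc, hwn]
  have hy''W := H.mem_Wr_of_comm_local C hq hy''M hN hN2 hNu₁' hy''n
  have huxW : u * P.x ∈ Wr F m (t + 1) := H.mem_Wr_of_conj C huxM P.hb₀0 P.hb₀
    fun e he he0 => by rw [(C.skew_two hq he).resolve_left he0, ← hy''u]; exact hy''W
  obtain ⟨l, X, B, hT⟩ := exists_form huxW P.i₀
  obtain ⟨hB, -⟩ := C.form_iso hq (H.hMK huxM).1 hT
  set v := app B P.b₀
  have hv : C.h v v = 0 := by rw [hB, P.hb₀]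
  have hv0 : v ≠ 0 := (app B).map_ne_zero_iff.2 P.hb₀0
  have hy''R : y'' = C.R l v 1 := by rw [hy''u, hR₀, C.conj_R_form hT hB P.hb₀]
  have hmeet : P.A ⊓ P.S ≤ Li l v := by
    rintro p ⟨hpA, w', ⟨a, rfl⟩, hw'⟩
    have hρp : app ρ p = p := by
      rw [hρ, map_mul, LinearEquiv.mul_apply, hyfix p ⟨_, T_mem_Li _ _ _, hw'⟩, hnfix p hpA]
    have hup : ∀ k : ℕ, app (ρ⁻¹ ^ k) p = p := by
      intro k
      induction k with
      | zero => simp
      | succ k ih =>
        rw [pow_succ, map_mul, LinearEquiv.mul_apply]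
        nth_rewrite 1 [← hρp]
        rw [app_inv_app, ih]
    refine ⟨app X a, ?_⟩
    show T l (app X a) (app B P.b₀) = p
    rw [← hT, map_mul, LinearEquiv.mul_apply]
    exact (congrArg (app u) hw').trans (hup e)
  have hwn'' : w = n * y'' := by rw [hy'', ← mul_assoc, hnn, one_mul]
  by_cases hl : l = i
  · subst l
    have hwkr : w = kr i 1 (N * tu C.H v 1) := by
      rw [hwn'', hy''R, C.R_eq_kr hv, hndef, kr_mul, one_mul]
    have hB' : Iso C.h (N * tu C.H v 1) := fun x y => by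
      rw [map_mul, LinearEquiv.mul_apply, LinearEquiv.mul_apply, hN, tu_iso C.hF C.H hv h1q]
    obtain ⟨a₀, ha₀⟩ := @exists_ne (J m t → F) (@Function.nontrivial _ _ (C.nonempty_J t) _) 0
    have hinv : ∀ z, app (N * tu C.H v 1) (app (N * tu C.H v 1) z) = z := fun z => by
      have h3 := congrArg (fun g => app g (T i a₀ z)) hww
      rw [hwkr, kr_mul, one_mul, app_kr, map_one, LinearEquiv.coe_one, id_eq, map_one,
        LinearEquiv.coe_one, id_eq] at h3
      rw [← LinearEquiv.mul_apply, ← map_mul]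
      exact T_inj_right ha₀ h3
    by_cases hall : ∀ z, app (N * tu C.H v 1) z = z
    · have hN' : ∀ z, app N z - z ∈ F ∙ v := fun z => by
        have h3 := congrArg (app N) (hall z)
        rw [map_mul, LinearEquiv.mul_apply, hN2, tu_apply C.H hv] at h3
        rw [← h3, add_sub_cancel_left]
        exact Submodule.smul_mem _ _ (Submodule.mem_span_singleton_self _)
      have h3 := hN' u₁
      have h4 := hN' bp
      rw [hNu₁, add_sub_cancel_left] at h3
      rw [hNap, hpb, hpb₂, zero_smul, add_zero, one_smul, add_sub_cancel_left] at h4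
      obtain ⟨c, hc⟩ := Submodule.mem_span_singleton.1 h3
      obtain ⟨c', hc'⟩ := Submodule.mem_span_singleton.1 h4
      have h5 := hb₂u₁
      rw [← hc, C.H.smul_left] at h5
      rw [← hc', C.H.smul_left] at hbu₁
      rcases mul_eq_zero.1 hbu₁ with h6 | h6
      · exact P.hb0 (by show b = 0; rw [← hc', h6, zero_smul])
      · rw [h6, mul_zero] at h5; exact zero_ne_one h5
    push Not at hall
    obtain ⟨z, hz⟩ := hall
    exact hyW (H.mem_Wr_of_comm_local C hq hyM hB' hinv hz (i := i) (by rw [← hwkr, hwy]))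
  -- different positions
  cases t with
  | zero => exact hl ((Fin.fin_one_eq_zero l).trans (Fin.fin_one_eq_zero i).symm)
  | succ σ =>
    obtain ⟨j, hj⟩ := Fin.exists_succAbove_eq hl
    set R' := C.R j v 1 with hR'
    have hR'2 : ∀ a, app R' (app R' a) = a := fun a => by
      rw [← LinearEquiv.mul_apply, ← map_mul, C.R_sq hq hv, map_one, LinearEquiv.coe_one, id_eq]
    have hcy : ∀ z x, C.cb i z (app y'' x) = app R' (C.cb i z x) := fun z x =>
      LinearMap.congr_fun (lin_ext i (f := C.cb i z ∘ₗ (app y'').toLinearMap)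
        (g := (app R').toLinearMap ∘ₗ C.cb i z) fun a u => by
          simp only [LinearMap.comp_apply, LinearEquiv.coe_coe, hy''R, hR', C.R_eq_kr hv, ← hj,
            app_kr_other, C.cb_T, map_smul]) x
    have hn_ap : ∀ x, app n x = x + T i (C.cb i b x) b + T i (C.cb i b₂ x) b₂ := fun x => by
      rw [hnR, map_mul, LinearEquiv.mul_apply, C.R_apply hb, C.R_apply hb₂, one_smul, one_smul,
        map_add, C.cb_T, hb₂b, zero_smul, add_zero]
      abel
    have hw' : w = y'' * n := by rw [hy''n, ← hwn'']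
    have hwS : ∀ v ∈ P.S, app w v ∈ P.S := fun v hv => by
      rw [← hyres] at hv ⊢
      obtain ⟨x, rfl⟩ := hv
      refine ⟨app w x, ?_⟩
      show app y (app w x) - app w x = app w (app y x - x)
      rw [map_sub, ← LinearEquiv.mul_apply (app w), ← map_mul, hwy, map_mul, LinearEquiv.mul_apply]
    let f : (J m (σ + 1 + 1) → F) →ₗ[F] (J m (σ + 1) → F) :=
      ((app R').toLinearMap - LinearMap.id) ∘ₗ C.cb i b
    set S₁ := P.S ⊓ LinearMap.ker f with hS₁
    have hfin1 : m ^ (σ + 1) ≤ m ^ σ + finrank F S₁ := by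
      have h3 := finrank_le_map_add f P.S
      rw [P.finrank_S] at h3
      refine h3.trans (Nat.add_le_add_right ?_ _)
      rw [← finrank_Li j hv0]
      refine Submodule.finrank_mono ?_
      rintro _ ⟨x, -, rfl⟩
      exact C.res_R_le j hv 1 (C4.mem_res _)
    have hfin2 : finrank F S₁ ≤ m ^ σ + P.j := by
      refine (finrank_le_map_add (C.cb i b₂) S₁).trans (Nat.add_le_add ?_ ?_)
      · rw [← finrank_Li j hv0]
        refine Submodule.finrank_mono ?_
        rintro _ ⟨s, ⟨hsS, hsf⟩, rfl⟩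
        have hsf' : app R' (C.cb i b s) = C.cb i b s := sub_eq_zero.1 hsf
        have hd : app w s - s ∈ P.A ⊓ P.S := by
          rw [← P.S_inf_perp H]
          refine ⟨Submodule.sub_mem _ (hwS s hsS) hsS, C.cb_eq_zero_iff.1 ?_⟩
          show C.cb i b (app w s - s) = 0
          rw [map_sub, hw', map_mul, LinearEquiv.mul_apply, hcy, hn_ap]
          simp only [map_add, C.cb_T, hb, hb₂b, zero_smul, map_zero, add_zero, hsf']
          exact sub_self _
        have h4 : C.cb i u₁ (app w s - s) = 0 := ct_Li hbu₁ hd.1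
        rw [map_sub, hw', map_mul, LinearEquiv.mul_apply, hcy, hn_ap] at h4
        simp only [map_add, C.cb_T, hbu₁, hb₂u₁, zero_smul, one_smul, map_zero, add_zero,
          sub_eq_zero] at h4
        rw [← map_add] at h4
        have h5 := congrArg (app R') h4
        rw [hR'2] at h5
        rw [show C.cb i b₂ s = app R' (C.cb i u₁ s) - C.cb i u₁ s by rw [← h5]; abel]
        exact C.res_R_le j hv 1 (C4.mem_res _)
      · refine le_trans (Submodule.finrank_mono ?_)
          (P.transfer H P.hx P.hxW (i' := P.i₀) (l := i) P.hb₀0 P.hb₀ hb₂0 hb₂)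
        exact fun s hs => ⟨hs.1.1, C.cb_eq_zero_iff.1 hs.2⟩
    have hj' : P.j ≤ m ^ σ :=
      (Submodule.finrank_mono (le_inf inf_le_left hmeet)).trans (finrank_inf_Li_le hl P.hb0 hv0)
    rw [pow_succ] at hfin1
    have : 0 < m ^ σ := pow_pos (by omega) σ
    nlinarith

/-- Overgroups of the stabiliser with only scalar long root elements lie in the wreath group. -/
theorem maxl : ∀ t, C.Maxl t := by
  intro t
  induction t with
  | zero => exact fun M _ _ _ g _ => mem_Wr_one g
  | succ t ih =>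
    intro M hM hMK hS
    have H : C.Ovg M := ⟨hM, hMK, hS, fun s hs => by
      obtain rfl : t = s := by omega
      exact ih⟩
    by_cases hq : q = 2
    · exact H.le_Wr_of_two C hq
    · exact H.le_Wr_of_ne_two C hq

end Ctx

end Cfsg.Agent.C7U
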