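import Cfsg.Agent.Lib.C7U.NonScal
import Cfsg.Agent.Lib.C7U.MaxTwo
import Cfsg.Agent.Lib.C7.Main
import Cfsg.Agent.Lib.C5.Transfer

/-!
# The unitary tensor wreath stabiliser is maximal

In the tensor power, and carried to standard coordinates by a similarity.
-/

set_option autoImplicit false
set_option linter.unusedSectionVars false

namespace Cfsg.Agent.C7U

open Matrix Module Cfsg.Agent.Transvect Cfsg.Agent.C7
open Cfsg.Agent.Unitary (IsHerm Nondeg suGL)
open Cfsg.Agent.C4.Herm (fl fl_apply Iso)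
open scoped MatrixGroups

namespace Ctx

variable {F : Type*} [Field F] [Fintype F] {q m : ℕ} (C : Ctx F q m)

include C

/-- The stabiliser of at least two factors is maximal among the special isometries. -/
theorem isMaximalIn_ust (s : ℕ) :
    Cfsg.Geo.IsMaximalIn (C.su (s + 2)) (C.ust (s + 2)) := by
  refine ⟨lt_of_le_of_ne inf_le_right fun he => ?_, fun M hM hMK => ?_⟩
  · obtain ⟨p, hp⟩ := C.exists_pure (s + 1)
    obtain ⟨b, hb0, hb⟩ := C.exists_iso
    obtain ⟨c, hc0, hc⟩ := C.exists_skew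
    have hmem : C.trv (s + 2) (T 0 p b) c ∈ C.ust (s + 2) :=
      he.symm ▸ C.trv_mem_su (C.pure_iso (C.pure_T 0 hp hb0 hb)) hc
    rw [C.trv_T p hb] at hmem
    obtain ⟨d, hd⟩ := C7.scal_stab C.hm 0 _ b (fl C.H b) hb0
      (C4.Herm.fl_ne_zero C.hF C.H C.nd hb0) hb ⟨hmem.1, rt_mem_sl _ _ _ _⟩
    obtain ⟨a, ha⟩ := C.exists_pair_J (C.pure_ne hp)
    have h1 := hd p
    have h2 := hd a
    rw [LinearMap.smulRight_apply, flG_apply, C.pure_iso hp, zero_smul] at h1
    rw [LinearMap.smulRight_apply, flG_apply, ha, one_smul,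
      (smul_eq_zero.1 h1.symm).resolve_right (C.pure_ne hp), zero_smul] at h2
    exact (smul_eq_zero.1 h2).elim hc0 (C.pure_ne hp)
  · by_cases hS : C.Scal M
    · exact .inl (le_antisymm (le_inf (C.maxl (s + 1) M hM hMK hS) hMK) hM)
    · exact .inr (le_antisymm hMK (C.su_le_of_not_scal (s + 1) hM hMK hS))

end Ctx

/-- The tensor wreath stabiliser is maximal in the special unitary group. -/
theorem isMaximalIn_tensorWreath {F : Type*} [Field F] [Fintype F] {n q k t : ℕ}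
    (hF : Fintype.card F = q ^ 2) (hk : 3 ≤ k) (ht : 2 ≤ t) (hex : ¬ (q = 2 ∧ k = 3))
    (e : Fin n ≃ (Fin t → Fin k)) (P : GL (Fin n) F) {f₁ : (Fin k → F) → (Fin k → F) → F}
    (hf₁ : Cfsg.Geo.IsUnitaryFormPow q f₁)
    (hT : Cfsg.Geo.IsTensorPowerFormStructure (fun x : F => x ^ q) (Cfsg.hermForm n F q) f₁ e P) :
    Cfsg.Geo.IsMaximalIn (suGL n F q)
      (Cfsg.Geo.tensorWreathSubgroup k t e P ⊓ suGL n F q) := by
  obtain ⟨s, rfl⟩ := Nat.exists_eq_add_of_le' ht
  let C : Ctx F q k :=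
    { h := f₁
      hF := hF
      H := ⟨hf₁.add_left, hf₁.smul_left, fun x y => hf₁.herm y x⟩
      nd := fun x hx => by
        by_contra h
        obtain ⟨-, y, hy⟩ := hf₁.nondegenerate x h
        exact hy (hx y)
      hm := hk
      exc := fun hq => by
        by_contra h
        exact hex ⟨hq, by omega⟩ }
  obtain ⟨c, hc0, hc⟩ := hT
  let Φ : GL (J k (s + 2)) F ≃* GL (Fin n) F :=
    (Cfsg.Geo.glReindex e.symm).trans (MulAut.conj P)
  have hΦ : ∀ g x, app (Φ g) (app P (x ∘ e)) = app P (app g x ∘ e) := fun g x => by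
    show app (P * Cfsg.Geo.glReindex e.symm g * P⁻¹) _ = _
    rw [map_mul, map_mul, LinearEquiv.mul_apply, LinearEquiv.mul_apply, app_inv_app, app_reindex]
    simp [Function.comp_def, -app_apply]
  have hsurj : ∀ y, ∃ x, app P (x ∘ e) = y := fun y =>
    ⟨app P⁻¹ y ∘ e.symm, by simp [Function.comp_def, -app_apply]⟩
  have hform : ∀ x y, Cfsg.hermForm n F q (app P (x ∘ e)) (app P (y ∘ e)) =
      c * C.fV (s + 2) x y := fun x y => by rw [app_apply, app_apply]; exact hc x y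
  have hsl : ∀ g, Φ g ∈ Cfsg.Geo.specialLinear (Fin n) F ↔
      g ∈ Cfsg.Geo.specialLinear (J k (s + 2)) F := fun g => by
    show P * Cfsg.Geo.glReindex e.symm g * P⁻¹ ∈ Cfsg.Geo.specialLinear (Fin n) F ↔ _
    rw [mem_sl_iff, Units.val_mul, Units.val_mul, Matrix.det_units_conj, ← mem_sl_iff,
      reindex_mem_sl]
  have hsu : (C.su (s + 2)).map Φ.toMonoidHom = suGL n F q := by
    refine le_antisymm ?_ fun h hh => ⟨Φ.symm h, ⟨fun x y => ?_, ?_⟩, Φ.apply_symm_apply h⟩
    · rintro _ ⟨g, hg, rfl⟩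
      refine ⟨fun u v => ?_, (hsl g).2 hg.2⟩
      obtain ⟨x, rfl⟩ := hsurj u
      obtain ⟨y, rfl⟩ := hsurj v
      show Cfsg.hermForm n F q (app (Φ g) _) (app (Φ g) _) = _
      rw [hΦ, hΦ, hform, hform, hg.1]
    · refine mul_left_cancel₀ hc0 ?_
      rw [← hform, ← hform, ← hΦ, ← hΦ, Φ.apply_symm_apply]
      exact hh.1 (app P (x ∘ e)) (app P (y ∘ e))
    · exact (hsl _).1 (by rw [Φ.apply_symm_apply]; exact hh.2)
  have hW : (Wr F k (s + 2)).map Φ.toMonoidHom = Cfsg.Geo.tensorWreathSubgroup k (s + 2) e P := by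
    rw [Cfsg.Geo.tensorWreathSubgroup, Subgroup.map_map]
    rfl
  have h := C5.isMaximalIn_map Φ (C.isMaximalIn_ust s)
  have hust : (C.ust (s + 2)).map Φ.toMonoidHom =
      Cfsg.Geo.tensorWreathSubgroup k (s + 2) e P ⊓ suGL n F q := by
    rw [← hsu, ← hW]
    exact Subgroup.map_inf _ _ _ Φ.injective
  rw [hsu, hust] at h
  exact h

end Cfsg.Agent.C7U
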