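import Cfsg.Agent.Lib.C7U.Key
import Cfsg.Agent.Lib.C7.Main

/-!
# The extremal pair

For an overgroup outside the wreath group take a line `A` and an image `S` of a line meeting it in a
largest subspace. Then `A ∩ S = A ∩ S^⊥ = S ∩ A^⊥`.
-/

set_option autoImplicit false
set_option linter.unusedSectionVars false

namespace Cfsg.Agent.C7U

open Matrix Module Cfsg.Agent.Transvect Cfsg.Agent.C7
open Cfsg.Agent.Unitary (IsHerm Nondeg)
open Cfsg.Agent.C4.Herm (fl fl_apply Iso perpF mem_perpF le_finrank_perpF)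
open scoped MatrixGroups

namespace Ctx

variable {F : Type*} [Field F] [Fintype F] {q m : ℕ} (C : Ctx F q m) {t s : ℕ}

include C

lemma Li_le_perp {i : Fin (t + 1)} {b : Fin m → F} (hb : C.h b b = 0) :
    Li i b ≤ perpS (C.fV_herm (t + 1)) (Li i b) := by
  rintro _ ⟨a, rfl⟩ _ ⟨a', rfl⟩
  show C.fV (t + 1) (T i a b) (T i a' b) = 0
  rw [C.fV_T, hb, mul_zero]

lemma map_Li_le_perp {g : GL (J m (t + 1)) F} (hg : g ∈ C.isoJ (t + 1)) {i : Fin (t + 1)}
    {b : Fin m → F} (hb : C.h b b = 0) :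
    (Li i b).map (app g).toLinearMap ≤
      perpS (C.fV_herm (t + 1)) ((Li i b).map (app g).toLinearMap) := by
  rw [← C.iso_map_perp hg]
  exact Submodule.map_mono (C.Li_le_perp hb)

lemma perp_symm {x y : J m t → F} (h : C.fV t x y = 0) : C.fV t y x = 0 :=
  ((C.fV_herm t).eq_zero_symm C.hF).1 h

lemma iso_of_map_Li {g : GL (J m (t + 1)) F} (hg : g ∈ C.isoJ (t + 1)) {i l : Fin (t + 1)}
    {b v : Fin m → F} (hb : C.h b b = 0)
    (hmap : (Li i b).map (app g).toLinearMap = Li l v) : C.h v v = 0 := by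
  obtain ⟨a, ha⟩ := @exists_ne (J m t → F) (@Function.nontrivial _ _ (C.nonempty_J t) _) 0
  obtain ⟨a', ha'⟩ := C.exists_pair_J ha
  have h1 := (hmap ▸ C.map_Li_le_perp (i := i) hg hb) (T_mem_Li l a' v) _ (T_mem_Li l a v)
  rw [C.fV_T, ha', one_mul] at h1
  exact h1

variable {M : Subgroup (GL (J m (t + 1)) F)}

/-- Conjugating a root group into the wreath group forces being in it. -/
theorem Ovg.mem_Wr_of_conj (H : C.Ovg M) {x : GL (J m (t + 1)) F} (hx : x ∈ M) {i : Fin (t + 1)}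
    {b : Fin m → F} (hb0 : b ≠ 0) (hb : C.h b b = 0)
    (h : ∀ s : F, s + s ^ q = 0 → s ≠ 0 → x * C.R i b s * x⁻¹ ∈ Wr F m (t + 1)) :
    x ∈ Wr F m (t + 1) := by
  obtain ⟨l, v, hv0, hmap⟩ := line_of_root_group C hb0 hb h
  exact H.mem_Wr_of_map C hx hb0 hb hv0 (C.iso_of_map_Li (H.hMK hx).1 hb hmap)
    fun a => hmap ▸ Submodule.mem_map_of_mem (T_mem_Li _ _ _)

/-- An element of `M` carrying a line into the perp of a line is in the wreath group. -/
theorem Ovg.mem_Wr_of_perp (H : C.Ovg M) {g : GL (J m (t + 1)) F} (hg : g ∈ M) {i l : Fin (t + 1)}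
    {b v : Fin m → F} (hb0 : b ≠ 0) (hb : C.h b b = 0) (hv0 : v ≠ 0) (hv : C.h v v = 0)
    (h : ∀ a, C.cb l v (app g (T i a b)) = 0) : g ∈ Wr F m (t + 1) := by
  refine inv_inv g ▸ inv_mem (H.mem_Wr_of_conj C (inv_mem hg) hv0 hv (i := l) fun s hs hs0 => ?_)
  have hg' : g⁻¹ * C.R l v s * g⁻¹⁻¹ ∈ M :=
    mul_mem (mul_mem (inv_mem hg) (H.hM (C.R_mem hv hs))) (inv_mem (inv_mem hg))
  refine H.mem_Wr_of_map C hg' hb0 hb hb0 hb (i := i) (l := i) fun a => ?_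
  rw [inv_inv, map_mul, map_mul, LinearEquiv.mul_apply, LinearEquiv.mul_apply,
    (C.R_fix_iff hv0 hv hs0).2 (h a), app_inv_app]
  exact T_mem_Li _ _ _

/-- An element commuting with `w` is in the wreath group if the residual space of `w` contains a
line and is orthogonal to it. -/
theorem Ovg.mem_Wr_of_comm (H : C.Ovg M) {g w : GL (J m (t + 1)) F} (hg : g ∈ M)
    (hc : g * w = w * g) {i : Fin (t + 1)} {p : Fin m → F} (hp0 : p ≠ 0) (hp : C.h p p = 0)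
    (h1 : Li i p ≤ C4.res w) (h2 : C4.res w ≤ perpS (C.fV_herm (t + 1)) (Li i p)) :
    g ∈ Wr F m (t + 1) := by
  refine H.mem_Wr_of_perp C hg hp0 hp hp0 hp (i := i) (l := i) fun a => C.cb_eq_zero_iff.2 (h2 ?_)
  have : C4.res w = (C4.res w).map (app g).toLinearMap := by
    rw [← C4.res_conj, hc, mul_inv_cancel_right]
  rw [this]
  exact Submodule.mem_map_of_mem (h1 (T_mem_Li _ _ _))

/-! ### The extremal pair -/

/-- An image of a line off the wreath group and a line meeting it most. -/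
structure Pr (C : Ctx F q m) (M : Subgroup (GL (J m (t + 1)) F)) where
  x : GL (J m (t + 1)) F
  hx : x ∈ M
  hxW : x ∉ Wr F m (t + 1)
  i₀ : Fin (t + 1)
  b₀ : Fin m → F
  hb₀0 : b₀ ≠ 0
  hb₀ : C.h b₀ b₀ = 0
  i : Fin (t + 1)
  b : Fin m → F
  hb0 : b ≠ 0
  hb : C.h b b = 0
  hmax : ∀ x' ∈ M, x' ∉ Wr F m (t + 1) → ∀ (i' : Fin (t + 1)) (b' : Fin m → F) (l : Fin (t + 1))
    (v : Fin m → F), b' ≠ 0 → C.h b' b' = 0 → v ≠ 0 → C.h v v = 0 →
      finrank F (Li l v ⊓ (Li i' b').map (app x').toLinearMap : Submodule F (J m (t + 1) → F)) ≤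
        finrank F (Li i b ⊓ (Li i₀ b₀).map (app x).toLinearMap : Submodule F (J m (t + 1) → F))

namespace Pr

variable {C} (P : C.Pr M)

/-- The image of the line. -/
abbrev S : Submodule F (J m (t + 1) → F) := (Li P.i₀ P.b₀).map (app P.x).toLinearMap

/-- The line. -/
abbrev A : Submodule F (J m (t + 1) → F) := Li P.i P.b

/-- The dimension of the meet. -/
noncomputable abbrev j : ℕ := finrank F (P.A ⊓ P.S : Submodule F (J m (t + 1) → F))


lemma finrank_S : finrank F P.S = m ^ t := by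
  rw [LinearEquiv.finrank_map_eq, finrank_Li _ P.hb₀0]

/-- An image off the wreath group is nearly disjoint from the perps of lines. -/
theorem transfer (H : C.Ovg M) {x : GL (J m (t + 1)) F} (hx : x ∈ M) (hxW : x ∉ Wr F m (t + 1))
    {i' l : Fin (t + 1)} {b' v : Fin m → F} (hb'0 : b' ≠ 0) (hb' : C.h b' b' = 0) (hv0 : v ≠ 0)
    (hv : C.h v v = 0) :
    finrank F ((Li i' b').map (app x).toLinearMap ⊓ perpS (C.fV_herm (t + 1)) (Li l v) :
      Submodule F (J m (t + 1) → F)) ≤ P.j := by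
  obtain ⟨s, hs, hs0, hg⟩ : ∃ s : F, s + s ^ q = 0 ∧ s ≠ 0 ∧
      x⁻¹ * C.R l v s * x⁻¹⁻¹ ∉ Wr F m (t + 1) := by
    by_contra! hc
    exact hxW (inv_inv x ▸ inv_mem (H.mem_Wr_of_conj C (inv_mem hx) hv0 hv hc))
  set g := x⁻¹ * C.R l v s * x⁻¹⁻¹ with hgdef
  have hgM : g ∈ M := mul_mem (mul_mem (inv_mem hx) (H.hM (C.R_mem hv hs))) (inv_mem (inv_mem hx))
  refine le_trans ?_ (P.hmax g hgM hg i' b' i' b' hb'0 hb' hb'0 hb')
  rw [← LinearEquiv.finrank_map_eq (app x)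
    (Li i' b' ⊓ (Li i' b').map (app g).toLinearMap)]
  refine Submodule.finrank_mono ?_
  rintro _ ⟨⟨y, hy, rfl⟩, hperp⟩
  refine ⟨y, ⟨hy, y, hy, ?_⟩, rfl⟩
  simp only [LinearEquiv.coe_coe, hgdef, inv_inv, map_mul, LinearEquiv.mul_apply] at hperp ⊢
  rw [(C.R_fix_iff hv0 hv hs0).2 (C.cb_eq_zero_iff.2 hperp), app_inv_app]

lemma le_perp_A : P.A ≤ perpS (C.fV_herm (t + 1)) P.A := C.Li_le_perp P.hb

lemma le_perp_S (H : C.Ovg M) : P.S ≤ perpS (C.fV_herm (t + 1)) P.S :=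
  C.map_Li_le_perp (H.hMK P.hx).1 P.hb₀

lemma S_inf_perp (H : C.Ovg M) : P.S ⊓ perpS (C.fV_herm (t + 1)) P.A = P.A ⊓ P.S :=
  (Submodule.eq_of_le_of_finrank_le (le_inf inf_le_right (inf_le_left.trans P.le_perp_A))
    (P.transfer H P.hx P.hxW P.hb₀0 P.hb₀ P.hb0 P.hb)).symm

lemma A_inf_perp (H : C.Ovg M) : P.A ⊓ perpS (C.fV_herm (t + 1)) P.S = P.A ⊓ P.S := by
  refine (Submodule.eq_of_le_of_finrank_le
    (le_inf inf_le_left (inf_le_right.trans (P.le_perp_S H))) ?_).symm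
  have h1 := P.transfer H (inv_mem P.hx) (fun h => P.hxW (inv_inv P.x ▸ inv_mem h)) (i' := P.i)
    (l := P.i₀) P.hb0 P.hb P.hb₀0 P.hb₀
  rw [← LinearEquiv.finrank_map_eq (app P.x), Submodule.map_inf _ (app P.x).injective,
    C.iso_map_perp (H.hMK P.hx).1, ← Submodule.map_comp,
    show (app P.x).toLinearMap ∘ₗ (app P.x⁻¹).toLinearMap = LinearMap.id from
      LinearMap.ext fun y => app_app_inv P.x y, Submodule.map_id] at h1
  exact h1

end Pr

/-- An extremal pair exists outside the wreath group. -/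
theorem Ovg.exists_pr (H : C.Ovg M) (h : ¬ M ≤ Wr F m (t + 1)) : Nonempty (C.Pr M) := by
  classical
  obtain ⟨x, hx, hxW⟩ := SetLike.not_le_iff_exists.1 h
  obtain ⟨b, hb0, hb⟩ := C.exists_iso
  let Q : ℕ → Prop := fun n => ∃ x ∈ M, x ∉ Wr F m (t + 1) ∧
    ∃ (i' : Fin (t + 1)) (b' : Fin m → F) (l : Fin (t + 1)) (v : Fin m → F),
      b' ≠ 0 ∧ C.h b' b' = 0 ∧ v ≠ 0 ∧ C.h v v = 0 ∧
      finrank F (Li l v ⊓ (Li i' b').map (app x).toLinearMap : Submodule F (J m (t + 1) → F)) = n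
  have hbound : ∀ n, Q n → n ≤ m ^ t := by
    rintro _ ⟨x, -, -, i', b', l, v, -, -, hv0, -, rfl⟩
    rw [← finrank_Li l hv0]
    exact Submodule.finrank_mono inf_le_left
  have hQ : Q _ := ⟨x, hx, hxW, 0, b, 0, b, hb0, hb, hb0, hb, rfl⟩
  obtain ⟨x₁, h1, h2, i₁, b₁, l₁, v₁, h3, h4, h5, h6, h7⟩ :=
    Nat.findGreatest_spec (P := Q) (hbound _ hQ) hQ
  refine ⟨⟨x₁, h1, h2, i₁, b₁, h3, h4, l₁, v₁, h5, h6, fun x' e1 e2 i' b' l v e3 e4 e5 e6 => ?_⟩⟩
  have hQ' : Q _ := ⟨x', e1, e2, i', b', l, v, e3, e4, e5, e6, rfl⟩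
  exact (Nat.le_findGreatest (hbound _ hQ') hQ').trans h7.ge

end Ctx

end Cfsg.Agent.C7U
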