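import Cfsg.Agent.Lib.C7U.Stab

/-!
# The root group of an extremal pair

For `q > 2` the root group is everything in the group of a good pair, so no pair exists. For `q = 2`
the two roots of a good pair have a product of odd order.
-/

set_option autoImplicit false
set_option linter.unusedSectionVars false

namespace Cfsg.Agent.C7U

open Matrix Module Cfsg.Agent.Transvect Cfsg.Agent.C7
open Cfsg.Agent.Unitary (IsHerm Nondeg)
open scoped MatrixGroups

namespace Ctx

variable {F : Type*} [Field F] [Fintype F] {q m : ℕ} (C : Ctx F q m) {t : ℕ}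

include C

lemma two_eq_zero (hq : q = 2) : (2 : F) = 0 := by
  have h : ((Fintype.card F : ℕ) : F) = 0 := FiniteField.cast_card_eq_zero F
  rw [C.hF, hq, Nat.cast_pow, sq_eq_zero_iff] at h
  simpa using h

lemma skew_two (hq : q = 2) {s : F} (hs : s + s ^ q = 0) : s = 0 ∨ s = 1 := by
  have h2 := C.two_eq_zero hq
  rw [hq] at hs
  have h : s * (s - 1) = 0 := by linear_combination hs - s * h2
  rcases mul_eq_zero.1 h with h | h
  exacts [.inl h, .inr (sub_eq_zero.1 h)]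

lemma skew_one (hq : q = 2) : (1 : F) + 1 ^ q = 0 := by
  rw [one_pow]; linear_combination C.two_eq_zero hq

lemma exists_skew_ne (hq : q ≠ 2) (s : F) : ∃ u : F, u + u ^ q = 0 ∧ u ≠ 0 ∧ u ≠ s := by
  classical
  by_contra! hc
  have hsub : ∀ x : {x : F // x + x ^ q = 0}, x.1 ∈ ({0, s} : Finset F) := fun x => by
    by_cases h0 : x.1 = 0
    · simp [h0]
    · simp [hc _ x.2 h0]
  have := Nat.card_le_card_of_injective (fun x => (⟨x.1, hsub x⟩ : ({0, s} : Finset F)))
    fun a b e => Subtype.ext (congrArg (fun y : ({0, s} : Finset F) => y.1) e)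
  rw [Cfsg.Agent.Unitary.card_trace_zero C.hF, Nat.card_eq_fintype_card, Fintype.card_coe] at this
  exact hq (le_antisymm (this.trans Finset.card_le_two) C.two_le_q)

lemma R_inj {i : Fin (t + 1)} {b : Fin m → F} (hb0 : b ≠ 0) (hb : C.h b b = 0) {s u : F}
    (h : C.R i b s = C.R i b u) : s = u := by
  by_contra hne
  refine C.R_ne_one hb0 hb (sub_ne_zero.2 hne) (i := i) ?_
  rw [sub_eq_add_neg, ← C.R_mul hb, h, C.R_mul hb, add_neg_cancel, C.R_zero hb]

lemma R_pow {i : Fin (t + 1)} {b : Fin m → F} (hb : C.h b b = 0) (s : F) (n : ℕ) :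
    C.R i b s ^ n = C.R i b (n * s) := by
  induction n with
  | zero => rw [pow_zero, Nat.cast_zero, zero_mul, C.R_zero hb]
  | succ n ih => rw [pow_succ, ih, C.R_mul hb, Nat.cast_succ, add_one_mul]

lemma R_quad {i : Fin (t + 1)} {b : Fin m → F} (hb : C.h b b = 0) (s : F) :
    ((C.R i b s : Matrix (J m (t + 1)) (J m (t + 1)) F) - 1) *
      ((C.R i b s : Matrix (J m (t + 1)) (J m (t + 1)) F) - 1) = 0 := by
  refine Matrix.ext_of_mulVec_single fun f => ?_
  rw [Matrix.zero_mulVec, ← Matrix.mulVec_mulVec]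
  simp only [Matrix.sub_mulVec, Matrix.one_mulVec, ← app_apply, C.R_apply hb, add_sub_cancel_left,
    map_smul, C.cb_T, hb, zero_smul, map_zero, LinearMap.zero_apply, smul_zero, add_zero, sub_self]

variable {M : Subgroup (GL (J m (t + 1)) F)}

namespace Pr

variable {C} (P : C.Pr M)

/-- The root group inside the group of the pair. -/
noncomputable def U : Subgroup P.G := (C.rg P.i P.hb).subgroupOf P.G

lemma mem_U_of_map (hg : P.Good) {g : P.G}
    (h : ∃ s : F, s ≠ 0 ∧ s + s ^ q = 0 ∧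
      (g : GL (J m (t + 1)) F) * C.R P.i P.b s * (g : GL (J m (t + 1)) F)⁻¹ ∈ C.rg P.i P.hb) :
    g ∈ P.U := by
  obtain ⟨s, hs0, -, u, -, hu⟩ := h
  refine Subgroup.mem_subgroupOf.2 (hg _ g.2 fun a => ?_)
  have h1 : (Li P.i P.b).map (app (g : GL (J m (t + 1)) F)).toLinearMap ≤ Li P.i P.b := by
    rw [← C.res_R P.hb0 P.hb hs0, ← C4.res_conj, hu, C.res_R P.hb0 P.hb hs0]
    exact C.res_R_le _ P.hb u
  exact h1 (Submodule.mem_map_of_mem (T_mem_Li _ _ _))

lemma U_selfnorm (hg : P.Good) (g : P.G) (h : ∀ u ∈ P.U, g * u * g⁻¹ ∈ P.U) : g ∈ P.U := by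
  obtain ⟨s, hs0, hs⟩ := C.exists_skew
  exact P.mem_U_of_map hg ⟨s, hs0, hs,
    Subgroup.mem_subgroupOf.1 (h ⟨_, P.rg_le_G ⟨s, hs, rfl⟩⟩ ⟨s, hs, rfl⟩)⟩

/-- For `q = 2` the roots of a good pair have a product of odd order. -/
theorem odd_mul (hg : P.Good) (hq : q = 2) :
    Odd (orderOf (C.R P.i P.b 1 * (P.x * C.R P.i₀ P.b₀ 1 * P.x⁻¹))) := by
  have : Finite (GL (J m (t + 1)) F) := Finite.of_injective Units.val Units.val_injective
  have h1 := C.skew_one hq
  have h2 : (1 : F) + 1 = 0 := by linear_combination C.two_eq_zero hq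
  set u : P.G := ⟨_, P.rg_le_G ⟨1, h1, rfl⟩⟩ with hu
  have huU : u ∈ P.U := ⟨1, h1, rfl⟩
  have hu1 : u ≠ 1 := fun e => C.R_ne_one P.hb0 P.hb one_ne_zero (congrArg Subtype.val e)
  have hcard : Nat.card P.U = 2 := by
    refine Nat.card_eq_two_iff.2 ⟨1, ⟨u, huU⟩, fun e => hu1 (congrArg Subtype.val e).symm,
      Set.eq_univ_of_forall ?_⟩
    rintro ⟨⟨g, hgG⟩, s, hs, hgs⟩
    change g = C.R P.i P.b s at hgs
    rcases C.skew_two hq hs with rfl | rfl
    · exact Or.inl (Subtype.ext (Subtype.ext (hgs.trans (C.R_zero P.hb))))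
    · exact Or.inr (Subtype.ext (Subtype.ext hgs))
  set y : P.G := ⟨_, P.conj_mem_G h1⟩ with hy
  have hy1 : y ≠ 1 := fun e => C.R_ne_one P.hb₀0 P.hb₀ one_ne_zero (i := P.i₀) (by
    have := congrArg Subtype.val e
    simpa [hy, mul_inv_eq_one] using this)
  have := odd_orderOf_mul hcard (P.U_selfnorm hg) (x := u) (y := y)
    (Subtype.ext (by simp [hu, C.R_mul P.hb, h2, C.R_zero P.hb]))
    (Subtype.ext (by
      show P.x * C.R P.i₀ P.b₀ 1 * P.x⁻¹ * (P.x * C.R P.i₀ P.b₀ 1 * P.x⁻¹) = 1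
      rw [show ∀ a r : GL (J m (t + 1)) F, a * r * a⁻¹ * (a * r * a⁻¹) = a * (r * r) * a⁻¹ from
        fun a r => by group, C.R_mul P.hb₀, h2, C.R_zero P.hb₀, mul_one, mul_inv_cancel]))
    hu1 hy1
  rw [← Subgroup.orderOf_coe] at this
  exact this

end Pr

/-- Overgroups lie in the wreath group for `q > 2`. -/
theorem Ovg.le_Wr_of_ne_two (H : C.Ovg M) (hq : q ≠ 2) : M ≤ Wr F m (t + 1) := by
  by_contra hcon
  obtain ⟨P, hg⟩ := H.exists_good C hcon
  have : Finite (GL (J m (t + 1)) F) := Finite.of_injective Units.val Units.val_injective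
  have : Nonempty (J m (t + 1)) := C.nonempty_J (t + 1)
  obtain ⟨p, hp⟩ := CharP.exists F
  have := Fact.mk ((CharP.char_is_prime_or_zero F p).resolve_right (CharP.char_ne_zero_of_finite F p))
  let ψ : P.G →* Matrix (J m (t + 1)) (J m (t + 1)) F := (Units.coeHom _).comp P.G.subtype
  obtain ⟨s, hs0, hs⟩ := C.exists_skew
  obtain ⟨u, hu, hu0, hus⟩ := C.exists_skew_ne hq s
  have htop := eq_top_of_selfnorm (p := p) (U := P.U) ψ
    (Units.val_injective.comp Subtype.val_injective)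
    (fun g => ⟨1, by
      obtain ⟨e, -, he⟩ : ((g : P.G) : GL (J m (t + 1)) F) ∈ C.rg P.i P.hb := g.2
      refine Subtype.ext (Subtype.ext ?_)
      show ((g : P.G) : GL (J m (t + 1)) F) ^ p ^ 1 = 1
      rw [he, C.R_pow P.hb, pow_one, CharP.cast_eq_zero, zero_mul, C.R_zero P.hb]⟩)
    (fun a ha b hb => by
      obtain ⟨e, -, he⟩ := ha
      obtain ⟨e', -, he'⟩ := hb
      change (a : GL (J m (t + 1)) F) = _ at he
      change (b : GL (J m (t + 1)) F) = _ at he'
      refine Subtype.ext ?_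
      show (a : GL (J m (t + 1)) F) * b = b * a
      rw [he, he', C.R_mul P.hb, C.R_mul P.hb, add_comm e e'])
    (P.U_selfnorm hg)
    (fun a ha ha1 g hga => by
      obtain ⟨e, he, hae⟩ := ha
      refine P.mem_U_of_map hg ⟨e, fun e0 => ha1 (Subtype.ext ?_), he, ?_⟩
      · exact hae.trans (e0 ▸ C.R_zero P.hb)
      · have hga' : (a : GL (J m (t + 1)) F) * g = g * a := congrArg Subtype.val hga
        change (a : GL (J m (t + 1)) F) = _ at hae
        rw [← hae, ← hga', mul_inv_cancel_right, hae]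
        exact ⟨e, he, rfl⟩)
    (fun a ha => by
      obtain ⟨e, -, hae⟩ := ha
      change (a : GL (J m (t + 1)) F) = _ at hae
      show ((a : GL (J m (t + 1)) F).val - 1) * ((a : GL (J m (t + 1)) F).val - 1) = 0
      rw [hae]
      exact C.R_quad P.hb e)
    (u := ⟨_, P.rg_le_G ⟨s, hs, rfl⟩⟩) (v := ⟨_, P.rg_le_G ⟨u, hu, rfl⟩⟩) ⟨s, hs, rfl⟩
    (fun e => C.R_ne_one P.hb0 P.hb hs0 (congrArg Subtype.val e))
    (fun _ => ⟨⟨u, hu, rfl⟩, fun e => C.R_ne_one P.hb0 P.hb hu0 (congrArg Subtype.val e),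
      fun e => hus (C.R_inj P.hb0 P.hb (congrArg Subtype.val e))⟩)
  obtain ⟨e, he, hye⟩ : (⟨_, P.conj_mem_G hs⟩ : P.G) ∈ P.U := htop ▸ Subgroup.mem_top _
  change P.x * C.R P.i₀ P.b₀ s * P.x⁻¹ = C.R P.i P.b e at hye
  refine P.hxW (H.mem_Wr_of_map C P.hx P.hb₀0 P.hb₀ P.hb0 P.hb (i := P.i₀) (l := P.i) fun a => ?_)
  have h1 : P.S ≤ Li P.i P.b := by
    show (Li P.i₀ P.b₀).map (app P.x).toLinearMap ≤ _
    rw [← C.res_R P.hb₀0 P.hb₀ hs0, ← C4.res_conj, hye]
    exact C.res_R_le _ P.hb e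
  exact h1 (Submodule.mem_map_of_mem (T_mem_Li _ _ _))

end Ctx

end Cfsg.Agent.C7U
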