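import Cfsg.Agent.Lib.C7U.Dich

/-!
# A nonscalar root generates the special unitary group

The forms of the root elements at one point are invariant under the stabiliser. A pure transvection
among them finishes; a member trivial in a position `l` gives, by induction, all special isometries
of the positions other than `l`, and a permutation moves them to the positions other than the first.
-/

set_option autoImplicit false
set_option linter.unusedSectionVars false

namespace Cfsg.Agent.C7U

open Matrix Module Cfsg.Agent.Transvect Cfsg.Agent.C7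
open Cfsg.Agent.Unitary (IsHerm Nondeg)
open Cfsg.Agent.C4.Herm (fl fl_apply Iso)
open scoped MatrixGroups

variable {F : Type*} [Field F] {m : ℕ}

/-- The two ways of splitting off two positions. -/
lemma T_T_swap {s : ℕ} (i : Fin (s + 2)) (j : Fin (s + 1)) (z : J m s → F) (q u : Fin m → F) :
    T (i.succAbove j) (T (j.predAbove i) z q) u = T i (T j z u) q := by
  funext f
  simp only [T_apply, Fin.succAbove_succAbove_predAbove, Fin.succAbove_succAbove_succAbove_predAbove]
  ring

namespace Ctx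

variable [Fintype F] {q : ℕ} (C : Ctx F q m) {t : ℕ}

include C

lemma perm_iso {σ : Equiv.Perm (Fin t)} {g : GL (J m t) F}
    (h : ∀ (x : J m t → F) (f : J m t), app g x f = x (f ∘ σ)) : g ∈ C.isoJ t := by
  intro x y
  simp only [fV, h]
  let e : J m t ≃ J m t :=
    { toFun := fun a => a ∘ σ
      invFun := fun a => a ∘ σ.symm
      left_inv := fun a => by funext p; simp
      right_inv := fun a => by funext p; simp }
  conv_rhs => rw [← e.sum_comp]
  refine Finset.sum_congr rfl fun a _ => ?_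
  conv_rhs => rw [← e.sum_comp]
  refine Finset.sum_congr rfl fun b _ => ?_
  show _ = x (a ∘ σ) * (∏ p, Cfsg.Geo.gramMatrix C.h (a (σ p)) (b (σ p))) * y (b ∘ σ) ^ q
  rw [Equiv.prod_comp σ fun p => Cfsg.Geo.gramMatrix C.h (a p) (b p)]

/-- An element of the stabiliser carrying position `l` to position `i`, with at least three positions. -/
lemma exists_carry {s : ℕ} {i l : Fin (s + 3)} (hli : l ≠ i) :
    ∃ π ∈ C.ust (s + 3), ∃ X ∈ C.isoJ (s + 2), ∀ a u, app π (T l a u) = T i (app X a) u := by
  classical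
  obtain ⟨o, ho⟩ : ∃ o, o ∉ ({l, i} : Finset (Fin (s + 3))) := by
    by_contra! h
    have := Finset.card_le_card
      (fun x _ => h x : (Finset.univ : Finset (Fin (s + 3))) ⊆ {l, i})
    rw [Finset.card_univ, Fintype.card_fin] at this
    have := this.trans Finset.card_le_two
    omega
  simp only [Finset.mem_insert, Finset.mem_singleton, not_or] at ho
  set σ : Equiv.Perm (Fin (s + 3)) :=
    (Equiv.swap l o * Equiv.swap o i) * (Equiv.swap l o * Equiv.swap o i) with hσ
  have hσl : σ l = i := by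
    simp [σ, Equiv.Perm.mul_apply, Equiv.swap_apply_def, ho.1, Ne.symm ho.1, ho.2, Ne.symm ho.2,
      hli, Ne.symm hli]
  obtain ⟨g₁, hg₁, e₁⟩ := C7.exists_permGL (F := F) (m := m) (Equiv.swap l o)
  obtain ⟨g₂, hg₂, e₂⟩ := C7.exists_permGL (F := F) (m := m) (Equiv.swap o i)
  set π := g₁ * g₂ * (g₁ * g₂) with hπ
  have hπ' : ∀ (x : J m (s + 3) → F) f, app π x f = x (f ∘ σ) := fun x f => by
    simp only [π, map_mul, LinearEquiv.mul_apply, e₁, e₂, hσ]
    rfl
  have sq : ∀ (g : GL (J m (s + 3)) F) (a b : Fin (s + 3)),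
      (∀ (x : J m (s + 3) → F) f, app g x f = x (f ∘ Equiv.swap a b)) →
      (g : Matrix (J m (s + 3)) (J m (s + 3)) F).det *
        (g : Matrix (J m (s + 3)) (J m (s + 3)) F).det = 1 := by
    intro g a b e
    have : g * g = 1 := gl_ext fun x => funext fun f => by
      rw [map_mul, LinearEquiv.mul_apply, e, e, map_one, LinearEquiv.coe_one, id_eq]
      congr 1
      funext j
      simp
    rw [← Matrix.det_mul, ← Units.val_mul, this, Units.val_one, Matrix.det_one]
  have hπu : π ∈ C.ust (s + 3) := by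
    refine ⟨mul_mem (mul_mem hg₁ hg₂) (mul_mem hg₁ hg₂), C.perm_iso hπ', ?_⟩
    show π ∈ Cfsg.Geo.specialLinear (J m (s + 3)) F
    rw [mem_sl_iff, Units.val_mul, Units.val_mul, Matrix.det_mul, Matrix.det_mul, mul_mul_mul_comm,
      sq g₁ _ _ e₁, sq g₂ _ _ e₂, one_mul]
  choose τ hτ using fun p => Fin.exists_succAbove_eq
    (show σ (l.succAbove p) ≠ i from fun h => l.succAbove_ne p (σ.injective (h.trans hσl.symm)))
  have hτi : Function.Injective τ := fun a b h => Fin.succAbove_right_injective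
    (σ.injective (by rw [← hτ a, ← hτ b, h]))
  let fL : (J m (s + 2) → F) →ₗ[F] (J m (s + 2) → F) := LinearMap.funLeft F F fun g => g ∘ τ
  have hfL : Function.Injective fL := by
    refine LinearMap.funLeft_injective_of_surjective F F _ fun g => ?_
    let e := Equiv.ofBijective τ (Finite.injective_iff_bijective.1 hτi)
    exact ⟨g ∘ e.symm, funext fun j => congrArg g (e.symm_apply_apply j)⟩
  obtain ⟨X, hX⟩ := C7.exists_gl fL hfL
  have hT : ∀ a u, app π (T l a u) = T i (app X a) u := fun a u => by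
    funext f
    rw [hπ', hX]
    simp only [T_apply, fL, LinearMap.funLeft_apply, Function.comp_apply, hσl]
    congr 2
    funext p
    show f (σ (l.succAbove p)) = f (i.succAbove (τ p))
    rw [hτ p]
  refine ⟨π, hπu, X, fun a a' => ?_, hT⟩
  obtain ⟨r, hr0, hr⟩ := C.exists_iso
  obtain ⟨r', -, h1, -, -⟩ := C.exists_partner hr0 hr
  have e := hπu.2.1 (T l a r') (T l a' r)
  rwa [hT, hT, C.fV_T, C.fV_T, h1, mul_one, mul_one] at e

lemma inv_kB {M : Subgroup (GL (J m (t + 1)) F)} (hM : C.ust (t + 1) ≤ M) (hMK : M ≤ C.su (t + 1))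
    (i : Fin (t + 1)) {b : Fin m → F} (hb0 : b ≠ 0) (hb : C.h b b = 0) :
    C.Inv (C.kB M i hb) := by
  obtain ⟨b', hb', h1, h2, -⟩ := C.exists_partner hb0 hb
  have H := C.fV_herm (t + 1)
  refine ⟨fun B hB => ?_, fun A hA B hB => ?_⟩
  · obtain ⟨g, hg, e⟩ := C.mem_kB.1 hB
    have eB : ∀ a a', B a a' = C.fV (t + 1) (app g (T i a b') - T i a b') (T i a' b') := fun a a' => by
      rw [e, C.cb_T, C.cb_T, h1, one_smul, one_smul]
    have hfix : ∀ x, C.cb i b (app g x - x) = 0 := fun x => C.fV_nondeg t _ fun a => by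
      have h0 := e x 0
      rw [map_zero, H.zero_right C.hF] at h0
      rw [← C.fV_right, e, C.cb_T, hb, zero_smul, ← h0]
    refine ⟨fun x y z => ?_, fun c x z => ?_, fun x y => ?_⟩
    · simp only [eB, map_add, LinearMap.add_apply, H.sub_left, H.add_left]; ring
    · simp only [eB, map_smul, LinearMap.smul_apply, H.sub_left, H.smul_left]; ring
    · set X := T i x b'
      set Y := T i y b'
      have hzero : C.fV (t + 1) (app g X - X) (app g Y - Y) = 0 := by
        have h0 := e X 0
        rw [map_zero, H.zero_right C.hF] at h0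
        rw [e, hfix, ← h0]
      have hiso := (hMK hg).1 X Y
      rw [eB x y, eB y x, eq_neg_iff_add_eq_zero, ← H.conj_symm (app g X - X) Y]
      have hiso' := (hMK hg).1 Y X
      simp only [H.sub_left, H.sub_right C.hF] at hzero ⊢
      have hzero' : C.fV (t + 1) (app g Y - Y) (app g X - X) = 0 := by
        rw [H.eq_zero_symm C.hF, H.sub_left, H.sub_right C.hF, H.sub_right C.hF]; exact hzero
      simp only [H.sub_left, H.sub_right C.hF] at hzero'
      linear_combination hiso' - hzero'
  · obtain ⟨g, hg, e⟩ := C.mem_kB.1 hB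
    set k := kr i A (1 : GL (Fin m) F)
    have hk : k ∈ C.ust (t + 1) := C.kr_left_mem_ust i hA
    have hcb : ∀ x, C.cb i b (app k x) = app A (C.cb i b x) := fun x =>
      LinearMap.congr_fun (lin_ext i (f := C.cb i b ∘ₗ (app k).toLinearMap)
        (g := (app A).toLinearMap ∘ₗ C.cb i b) fun z w => by
          simp [k, app_kr, C.cb_T, -app_apply]) x
    refine C.mem_kB.2 ⟨k⁻¹ * g * k, mul_mem (mul_mem (inv_mem (hM hk)) hg) (hM hk), fun x y => ?_⟩
    rw [← hk.2.1 (app (k⁻¹ * g * k) x - x) y, map_sub]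
    simp only [map_mul, LinearEquiv.mul_apply, app_app_inv, e, hcb]

/-- A nonscalar root makes `M` the special unitary group. -/
theorem su_le_of_not_scal : ∀ t {M : Subgroup (GL (J m (t + 1)) F)},
    C.ust (t + 1) ≤ M → M ≤ C.su (t + 1) → ¬ C.Scal M → C.su (t + 1) ≤ M := by
  intro t
  induction t with
  | zero => exact fun hM _ _ g hg => hM ⟨mem_Wr_one g, hg⟩
  | succ t ih =>
    intro M hM hMK hns
    simp only [Scal, not_forall, exists_prop] at hns
    obtain ⟨i, K, b, hb0, hb, hK, hKns⟩ := hns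
    have hb' : (fl C.H b) b = 0 := hb
    have H := C.fV_herm (t + 2)
    have hB₀ : (fun a a' => C.fV (t + 1) (K a) a') ∈ C.kB M i hb :=
      C.mem_kB.2 ⟨_, hK, fun x y => by
        rw [rt_apply hb', add_sub_cancel_left, C.fV_left]; rfl⟩
    have hB₀ns : ¬ ∃ c : F, ∀ x y, C.fV (t + 1) (K x) y = c * C.fV (t + 1) x y := fun ⟨c, hc⟩ =>
      hKns ⟨c, fun a => sub_eq_zero.1 (C.fV_nondeg _ _ fun y => by
        rw [(C.fV_herm _).sub_left, (C.fV_herm _).smul_left, hc, sub_self])⟩
    rcases C.pure_or_triv t (C.inv_kB hM hMK i hb0 hb) hB₀ hB₀ns with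
      ⟨p, c, hp, hc, hpV⟩ | ⟨j, B, hB, hBns, Y, hY⟩
    · obtain ⟨g, hg, e⟩ := C.mem_kB.1 hpV
      have hv := C.pure_T i hp hb0 hb
      have hgv : g = C.trv (t + 2) (T i p b) c := gl_ext fun x => by
        rw [C.trv_apply (C.pure_iso hv), ← sub_eq_iff_eq_add']
        refine sub_eq_zero.1 (C.fV_nondeg _ _ fun y => ?_)
        rw [H.sub_left, e, H.smul_left, rk, ← C.fV_right, ← C.fV_right, H.conj_symm y (T i p b),
          sub_self]
      exact C.su_le_of_pure (t + 2) hM hMK hv hc (hgv ▸ hg)
    -- a member trivial in one position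
    obtain ⟨g, hg, e⟩ := C.mem_kB.1 hB
    obtain ⟨b', hb'', hb'b, hbb', -⟩ := C.exists_partner hb0 hb
    obtain ⟨r, hr0, hr⟩ := C.exists_iso
    obtain ⟨r', hr', h1, h2, -⟩ := C.exists_partner hr0 hr
    let K₁ : (J m (t + 1) → F) →ₗ[F] (J m (t + 1) → F) :=
      C.cb i b' ∘ₗ ((app g).toLinearMap - LinearMap.id) ∘ₗ (T i).flip b'
    have hK₁ : ∀ a a', C.fV (t + 1) (K₁ a) a' = B a a' := fun a a' => by
      show C.fV (t + 1) (C.cb i b' (app g (T i a b') - T i a b')) a' = _
      rw [← C.fV_right, e, C.cb_T, C.cb_T, hb'b, one_smul, one_smul]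
    let K' : (J m t → F) →ₗ[F] (J m t → F) := C.cb j r ∘ₗ K₁ ∘ₗ (T j).flip r'
    have hK' : ∀ z u, K₁ (T j z u) = T j (K' z) u := fun z u => by
      refine sub_eq_zero.1 (C.fV_nondeg _ _ fun y => ?_)
      suffices flG (C.fV_herm (t + 1)) y (K₁ (T j z u) - T j (K' z) u) = 0 from this
      rw [flG_apply, (C.fV_herm _).eq_zero_symm C.hF]
      refine LinearMap.congr_fun (lin_ext j (f := flG (C.fV_herm (t + 1)) (K₁ (T j z u) - T j (K' z) u))
        (g := 0) fun z' w => ?_) y
      rw [flG_apply, LinearMap.zero_apply, (C.fV_herm _).eq_zero_symm C.hF, (C.fV_herm _).sub_left,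
        hK₁, hY, C.fV_T]
      have h3 : C.fV t (K' z) z' = Y z z' := by
        show C.fV t (C.cb j r (K₁ (T j z r'))) z' = _
        rw [← C.fV_right, hK₁, hY, h1, mul_one]
      rw [h3, sub_self]
    have hK'ns : ¬ ∃ c : F, ∀ z, K' z = c • z := fun ⟨c, hc⟩ => hBns ⟨c, fun x y => by
      have hx : K₁ x = c • x := LinearMap.congr_fun
        (lin_ext j (f := K₁) (g := c • LinearMap.id) fun z u => by
          rw [hK', hc, map_smul]; rfl) x
      rw [← hK₁, hx, (C.fV_herm _).smul_left]⟩
    obtain ⟨s, rfl⟩ : ∃ s, t = s + 1 := by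
      refine ⟨t - 1, ?_⟩
      by_contra hne
      obtain rfl : t = 0 := by omega
      refine hK'ns ⟨K' 1 default, fun z => funext fun f => ?_⟩
      have hz : z = z default • (1 : J m 0 → F) := funext fun f => by
        rw [Subsingleton.elim f default]; simp
      conv_lhs => rw [hz, map_smul]
      rw [Subsingleton.elim f default]
      simp [mul_comm]
    set l := i.succAbove j
    set i' := j.predAbove i
    have hgx : ∀ a w, app g (T i a w) = T i a w + C.h w b • T i (K₁ a) b := fun a w => by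
      rw [← sub_eq_iff_eq_add']
      refine sub_eq_zero.1 (C.fV_nondeg _ _ fun y => ?_)
      rw [H.sub_left, e, C.cb_T, ((C.inv_kB hM hMK i hb0 hb).1 B hB).smul_left, H.smul_left,
        C.fV_left, hK₁, sub_self]
    set X := rt i' K' b (fl C.H b)
    have hgX : g = kr l X 1 := gl_ext_T l fun a u => LinearMap.congr_fun
      (lin_ext i' (f := (app g).toLinearMap ∘ₗ (T l).flip u)
        (g := (app (kr l X 1)).toLinearMap ∘ₗ (T l).flip u) fun z w => by
          simp only [LinearMap.comp_apply, LinearEquiv.coe_coe, LinearMap.flip_apply]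
          rw [app_kr]
          simp only [map_one, LinearEquiv.coe_one, id_eq, X, rt_T hb', map_add, map_smul,
            LinearMap.add_apply, LinearMap.smul_apply, fl_apply, l, i', T_T_swap, hgx, hK']) a
    have hXi : X ∈ C.isoJ (s + 2) := fun a a' => by
      have := (hMK hg).1 (T l a r') (T l a' r)
      rwa [hgX, app_kr, app_kr, C.fV_T, C.fV_T, map_one, LinearEquiv.coe_one, id_eq, id_eq, h1,
        mul_one, mul_one] at this
    have hM' := ih (M := M.comap (krHom F m l) ⊓ C.su (s + 2))
      (le_inf (fun A hA => hM (C.kr_left_mem_ust l hA)) inf_le_right) inf_le_right fun hS =>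
        hK'ns (hS i' K' b hb0 hb ⟨show kr l X 1 ∈ M from hgX ▸ hg, hXi, rt_mem_sl _ _ _ _⟩)
    obtain ⟨π, hπ, Z, hZ, hπT⟩ := C.exists_carry (i := i) (l := l) (Fin.succAbove_ne i j)
    refine C.su_le_of_root hM hMK i (fun A hA => ?_) hb0 hb hK hKns
    have hA' : Z⁻¹ * A * Z ∈ C.su (s + 2) := by
      refine ⟨mul_mem (mul_mem ((C.isoJ (s + 2)).inv_mem hZ) hA.1) hZ, ?_⟩
      show Z⁻¹ * A * Z ∈ Cfsg.Geo.specialLinear (J m (s + 2)) F
      rw [mem_sl_iff, Units.val_mul, Units.val_mul, Matrix.det_units_conj', mem_sl_iff.1 hA.2]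
    have h3 : kr i A 1 = π * kr l (Z⁻¹ * A * Z) 1 * π⁻¹ := by
      rw [eq_mul_inv_iff_mul_eq]
      refine gl_ext_T l fun a u => ?_
      simp only [map_mul, LinearEquiv.mul_apply, hπT, app_kr, app_app_inv, map_one,
        LinearEquiv.coe_one, id_eq]
    rw [h3]
    exact mul_mem (mul_mem (hM hπ) (hM' hA').1) (inv_mem (hM hπ))

end Ctx

end Cfsg.Agent.C7U
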