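import Cfsg.Agent.Lib.C7U.Key

/-!
# Transvections at pure vectors

`C.trv t v c` is the transvection at `v`, `C.Pure t v` says that all factors of `v` are isotropic.
-/

set_option autoImplicit false
set_option linter.unusedSectionVars false

namespace Cfsg.Agent.C7U

open Matrix Module Cfsg.Agent.Transvect Cfsg.Agent.C7
open Cfsg.Agent.Unitary (IsHerm Nondeg)
open Cfsg.Agent.C4.Herm (fl fl_apply Iso skew_pow)
open scoped MatrixGroups

variable {F : Type*} [Field F] {m : ℕ}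

/-- Commuting two positions. -/
lemma T_succ_T {t : ℕ} (j : Fin (t + 1)) (z : J m t → F) (w u : Fin m → F) :
    T j.succ (T 0 z w) u = T 0 (T j z u) w := by
  funext f
  simp only [T_apply, Fin.succ_succAbove_zero, Fin.succ_succAbove_succ, Fin.zero_succAbove]
  ring

namespace Ctx

variable [Fintype F] {q : ℕ} (C : Ctx F q m) {t : ℕ}

include C

/-- `x ↦ x + c (x, v) v`. -/
noncomputable def trv (t : ℕ) (v : J m t → F) (c : F) : GL (J m t) F :=
  C4.unip ((flG (C.fV_herm t) v).smulRight (c • v))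

lemma trv_apply {v : J m t → F} (hv : C.fV t v v = 0) (c : F) (x : J m t → F) :
    app (C.trv t v c) x = x + (c * C.fV t x v) • v := by
  rw [trv, C4.unip_apply fun y => ?_]
  · simp [LinearMap.smulRight_apply, smul_smul, mul_comm]
  · simp [LinearMap.smulRight_apply, hv]

lemma trv_mem_su {v : J m t → F} (hv : C.fV t v v = 0) {c : F} (hc : c + c ^ q = 0) :
    C.trv t v c ∈ C.su t := by
  refine ⟨fun x y => ?_, C4.unip_mem_sl _⟩
  have H := C.fV_herm t
  rw [C.trv_apply hv, C.trv_apply hv, H.add_left, H.add_right C.hF, H.add_right C.hF, H.smul_left,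
    H.smul_left, H.smul_right, H.smul_right, hv, H.conj_symm y v, mul_pow]
  linear_combination (C.fV t x v * C.fV t y v ^ q) * hc

lemma conj_trv {g : GL (J m t) F} (hg : g ∈ C.isoJ t) {v : J m t → F} (hv : C.fV t v v = 0) (c : F) :
    g * C.trv t v c * g⁻¹ = C.trv t (app g v) c := by
  rw [mul_inv_eq_iff_eq_mul]
  refine gl_ext fun x => ?_
  rw [map_mul, map_mul, LinearEquiv.mul_apply, LinearEquiv.mul_apply, C.trv_apply hv,
    C.trv_apply (show C.fV t (app g v) (app g v) = 0 by rw [hg, hv]), hg, map_add, map_smul]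

lemma trv_smul {v : J m t → F} (hv : C.fV t v v = 0) (ρ c : F) :
    C.trv t (ρ • v) c = C.trv t v (ρ ^ (q + 1) * c) := by
  have hv' : C.fV t (ρ • v) (ρ • v) = 0 := by
    rw [(C.fV_herm t).smul_left, (C.fV_herm t).smul_right, hv, mul_zero, mul_zero]
  refine gl_ext fun x => ?_
  rw [C.trv_apply hv', C.trv_apply hv, (C.fV_herm t).smul_right, smul_smul, pow_succ]
  congr 2
  ring

lemma trv_zero {v : J m t → F} (hv : C.fV t v v = 0) : C.trv t v 0 = 1 :=
  gl_ext fun x => by rw [C.trv_apply hv]; simp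

lemma skew_of_trv {v : J m t → F} (hv0 : v ≠ 0) (hv : C.fV t v v = 0) {c : F}
    (h : C.trv t v c ∈ C.isoJ t) : c + c ^ q = 0 := by
  obtain ⟨x, hx⟩ := C.exists_pair_J hv0
  have H := C.fV_herm t
  have e := h x x
  rw [C.trv_apply hv, H.add_left, H.add_right C.hF, H.add_right C.hF, H.smul_left, H.smul_left,
    H.smul_right, H.smul_right, hv, H.conj_symm x v, hx, mul_one, one_pow] at e
  linear_combination e

/-- A transvection at `p ⊗ b` as a root element. -/
lemma trv_T {i : Fin (t + 1)} (p : J m t → F) {b : Fin m → F} (hb : C.h b b = 0) (c : F) :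
    C.trv (t + 1) (T i p b) c =
      rt i ((flG (C.fV_herm t) p).smulRight (c • p)) b (fl C.H b) := gl_ext fun x => by
  rw [C.trv_apply (by rw [C.fV_T, hb, mul_zero]), rt_apply (show fl C.H b b = 0 from hb), C.fV_right,
    LinearMap.smulRight_apply, flG_apply, smul_smul, map_smul, LinearMap.smul_apply,
    mul_comm c]
  rfl

/-- All factors are isotropic points. -/
def Pure (C : Ctx F q m) : (t : ℕ) → (J m t → F) → Prop
  | 0, v => v ≠ 0
  | t + 1, v => ∃ β u, Pure C t β ∧ u ≠ 0 ∧ C.h u u = 0 ∧ v = T 0 β u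

lemma pure_ne : ∀ {t} {v : J m t → F}, C.Pure t v → v ≠ 0
  | 0, _, h => h
  | _ + 1, _, ⟨β, u, hβ, hu, _, rfl⟩ => fun h =>
    (T_eq_zero h).elim (pure_ne hβ) hu

lemma pure_iso {v : J m (t + 1) → F} (h : C.Pure (t + 1) v) : C.fV (t + 1) v v = 0 := by
  obtain ⟨β, u, -, -, hu, rfl⟩ := h
  rw [C.fV_T, hu, mul_zero]

lemma pure_T : ∀ {t} (i : Fin (t + 1)) {β : J m t → F} {u : Fin m → F}, C.Pure t β → u ≠ 0 →
    C.h u u = 0 → C.Pure (t + 1) (T i β u) := by
  intro t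
  induction t with
  | zero => intro i β u hβ hu hu'; rw [Fin.fin_one_eq_zero i]; exact ⟨β, u, hβ, hu, hu', rfl⟩
  | succ t ih =>
    intro i β u hβ hu hu'
    obtain rfl | ⟨j, rfl⟩ := Fin.eq_zero_or_eq_succ i
    · exact ⟨β, u, hβ, hu, hu', rfl⟩
    · obtain ⟨γ, w, hγ, hw, hw', rfl⟩ := hβ
      exact ⟨T j γ u, w, ih j hγ hu hu', hw, hw', T_succ_T j γ w u⟩

lemma exists_pure : ∀ t, ∃ v, C.Pure t v := by
  intro t
  induction t with
  | zero => exact ⟨fun _ => 1, fun h => one_ne_zero (congrFun h Fin.elim0)⟩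
  | succ t ih =>
    obtain ⟨β, hβ⟩ := ih
    obtain ⟨u, hu, hu'⟩ := C.exists_iso
    exact ⟨_, C.pure_T 0 hβ hu hu'⟩

/-- Pure vectors are conjugate under the stabiliser up to scalars. -/
lemma pure_move : ∀ {t} {v w : J m t → F}, C.Pure t v → C.Pure t w →
    ∃ g ∈ C.ust t, ∃ ρ : F, ρ ≠ 0 ∧ app g v = ρ • w := by
  intro t
  induction t with
  | zero =>
    intro v w hv hw
    refine ⟨1, one_mem _, v Fin.elim0 / w Fin.elim0, ?_, funext fun f => ?_⟩
    · refine div_ne_zero (fun h => hv (funext fun f => ?_)) fun h => hw (funext fun f => ?_) <;>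
        rw [Subsingleton.elim f Fin.elim0, h] <;> rfl
    · have : w Fin.elim0 ≠ 0 := fun h => hw (funext fun f => by
        rw [Subsingleton.elim f Fin.elim0, h]; rfl)
      rw [Subsingleton.elim f Fin.elim0]
      simp [this]
  | succ t ih =>
    intro v w hv hw
    obtain ⟨β, u, hβ, hu, hu', rfl⟩ := hv
    obtain ⟨γ, r, hγ, hr, hr', rfl⟩ := hw
    obtain ⟨A, hA, ρ, hρ, hAβ⟩ := ih hβ hγ
    obtain ⟨B, hB, ρ', hρ', hBu⟩ := C.exists_move (t := t) 0 hu hu' hr hr'
    refine ⟨_, mul_mem (C.kr_left_mem_ust 0 hA) hB, ρ' * ρ, mul_ne_zero hρ' hρ, ?_⟩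
    simp [map_mul, app_kr, -app_apply, hAβ, hBu, smul_smul, mul_comm]

/-- A pure vector can be scaled. -/
lemma pure_scale {v : J m (t + 1) → F} (hv : C.Pure (t + 1) v) {lam : F} (hl : lam ≠ 0) :
    ∃ g ∈ C.ust (t + 1), app g v = lam • v := by
  obtain ⟨β, u, -, hu, hu', rfl⟩ := hv
  obtain ⟨u', hu'', h1, h2, -⟩ := C.exists_partner hu hu'
  obtain ⟨B, hB, hBs, hBu, -⟩ := C.exists_torus hu' hu'' h1 h2 hl
  exact ⟨_, C.kr_one_mem_ust 0 hB hBs, by simp [app_kr, hBu, -app_apply]⟩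

/-- All transvections at `v` are in `M`. -/
def Cen (C : Ctx F q m) (t : ℕ) (M : Subgroup (GL (J m t) F)) (v : J m t → F) : Prop :=
  C.fV t v v = 0 ∧ ∀ c : F, c + c ^ q = 0 → C.trv t v c ∈ M

lemma cen_map {M : Subgroup (GL (J m t) F)} {g : GL (J m t) F} (hg : g ∈ M) (hgi : g ∈ C.isoJ t)
    {v : J m t → F} (hv : C.Cen t M v) : C.Cen t M (app g v) :=
  ⟨by rw [hgi]; exact hv.1, fun c hc => by
    rw [← C.conj_trv hgi hv.1]
    exact mul_mem (mul_mem hg (hv.2 c hc)) (inv_mem hg)⟩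

/-- One transvection at a pure vector gives all of them. -/
lemma cen_pure {M : Subgroup (GL (J m (t + 1)) F)} (hM : C.ust (t + 1) ≤ M)
    (hMK : M ≤ C.su (t + 1)) {v : J m (t + 1) → F} (hv : C.Pure (t + 1) v) {c : F} (hc0 : c ≠ 0)
    (hcM : C.trv (t + 1) v c ∈ M) {w : J m (t + 1) → F} (hw : C.Pure (t + 1) w) :
    C.Cen (t + 1) M w := by
  refine ⟨C.pure_iso hw, fun d hd => ?_⟩
  by_cases hd0 : d = 0
  · rw [hd0, C.trv_zero (C.pure_iso hw)]; exact one_mem M
  have hc := C.skew_of_trv (C.pure_ne hv) (C.pure_iso hv) (hMK hcM).1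
  obtain ⟨g, hg, ρ, hρ, hgv⟩ := C.pure_move hv hw
  set c' := ρ ^ (q + 1) * c
  have hc'0 : c' ≠ 0 := mul_ne_zero (pow_ne_zero _ hρ) hc0
  have h1 : C.trv (t + 1) w c' ∈ M := by
    rw [← C.trv_smul (C.pure_iso hw), ← hgv, ← C.conj_trv hg.2.1 (C.pure_iso hv)]
    exact mul_mem (mul_mem (hM hg) hcM) (inv_mem (hM hg))
  have hc' : c' ^ q = -c' := by
    rw [mul_pow, Cfsg.Agent.Unitary.pow_q_succ_fixed C.hF, skew_pow hc, mul_neg]
  obtain ⟨lam, hlam⟩ := Cfsg.Agent.Unitary.exists_norm_eq C.hF (c := d / c')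
    (by rw [div_pow, skew_pow hd, hc', neg_div_neg_eq])
  have hl : lam ≠ 0 := fun e => by
    rw [e, zero_pow (Nat.succ_ne_zero q)] at hlam
    exact div_ne_zero hd0 hc'0 hlam.symm
  obtain ⟨g', hg', hg'w⟩ := C.pure_scale hw hl
  have h2 := mul_mem (mul_mem (hM hg') h1) (inv_mem (hM hg'))
  rwa [C.conj_trv hg'.2.1 (C.pure_iso hw), hg'w, C.trv_smul (C.pure_iso hw), hlam,
    div_mul_cancel₀ _ hc'0] at h2

end Ctx

end Cfsg.Agent.C7U
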