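import Cfsg.Agent.Lib.C7U.Base

/-!
# The radical of a line stabiliser

An isometry fixing `Li i b` pointwise and trivial modulo it on its perp is an Eichler element times
`rt i G b`, as soon as the long parts of its commutators with Eichler elements are scalar.
-/

set_option autoImplicit false
set_option linter.unusedSectionVars false

namespace Cfsg.Agent.C7U

open Matrix Module Cfsg.Agent.Transvect Cfsg.Agent.C7
open Cfsg.Agent.Unitary (IsHerm Nondeg)
open Cfsg.Agent.C4.Herm (fl fl_apply skew_pow)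
open scoped MatrixGroups

namespace Ctx

variable {F : Type*} [Field F] [Fintype F] {q m : ℕ} (C : Ctx F q m) {t : ℕ}

include C

lemma exists_ne_conj : ∃ ν : F, ν ^ q ≠ ν := by
  by_contra! h
  obtain ⟨d, hd0, hd⟩ := Cfsg.Agent.Unitary.exists_skew C.hF
  obtain ⟨t, ht⟩ := Cfsg.Agent.Unitary.exists_trace_eq C.hF (one_pow q : (1 : F) ^ q = 1)
  have h2 : (2 : F) * d = 0 := by
    have := hd.symm.trans (h d)
    linear_combination -this
  rw [h t] at ht
  rcases mul_eq_zero.1 h2 with h | h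
  · exact one_ne_zero (ht.symm.trans (by linear_combination t * h))
  · exact hd0 h

lemma nonempty_J (t : ℕ) : Nonempty (J m t) :=
  ⟨fun _ => ⟨0, by have := C.hm; omega⟩⟩

lemma exists_pair_J {t : ℕ} {a : J m t → F} (ha : a ≠ 0) :
    ∃ a', C.fV t a' a = 1 := by
  obtain ⟨y, hy⟩ : ∃ y, C.fV t y a ≠ 0 := by
    by_contra! hc
    exact ha (C.fV_nondeg t a fun y => ((C.fV_herm t).eq_zero_symm C.hF).1 (hc y))
  exact ⟨(C.fV t y a)⁻¹ • y, by rw [(C.fV_herm t).smul_left, inv_mul_cancel₀ hy]⟩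

lemma eq_T_of_Li {i : Fin (t + 1)} {b b' : Fin m → F} (hbb' : C.h b b' = 1)
    {x : J m (t + 1) → F} (hx : x ∈ Li i b) : x = T i (C.cb i b' x) b := by
  obtain ⟨a, rfl⟩ := hx
  show T i a b = T i (C.cb i b' (T i a b)) b
  rw [C.cb_T, hbb', one_smul]

/-- A root element in the isometry group has a skew parameter. -/
lemma skew_of_R_mem {i : Fin (t + 1)} {b : Fin m → F} (hb0 : b ≠ 0) (hb : C.h b b = 0) {s : F}
    (h : C.R i b s ∈ C.isoJ (t + 1)) : s + s ^ q = 0 := by
  obtain ⟨b', hb', h1, h2, -⟩ := C.exists_partner hb0 hb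
  obtain ⟨a, ha⟩ := @exists_ne (J m t → F) (@Function.nontrivial _ _ (C.nonempty_J t) _) 0
  obtain ⟨a', ha'⟩ := C.exists_pair_J ha
  have H := C.fV_herm (t + 1)
  have e := h (T i a' b') (T i a b')
  rw [C.R_apply hb, C.R_apply hb, C.cb_T, C.cb_T, h1, one_smul, one_smul, H.add_left,
    H.add_right C.hF, H.add_right C.hF, H.smul_left, H.smul_left, H.smul_right, H.smul_right,
    C.fV_T, C.fV_T, C.fV_T, C.fV_T, ha', hb, h1, h2] at e
  linear_combination e

lemma E_mul_R {i : Fin (t + 1)} {b : Fin m → F} (hb : C.h b b = 0) {v : Fin m → F}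
    (hv : C.h v b = 0) (c s : F) : C.E i b v c * C.R i b s = C.E i b v (c + s) := by
  refine gl_ext fun x => ?_
  have hbv := (C.H.eq_zero_symm C.hF).1 hv
  rw [map_mul, LinearEquiv.mul_apply, C.R_apply hb, map_add, map_smul, C.E_apply hb hv,
    C.E_apply hb hv, C.E_apply hb hv, C.cb_T, C.cb_T, hb, hbv]
  simp only [zero_smul, map_zero, LinearMap.zero_apply, add_zero, sub_zero, smul_zero, add_smul]
  abel

/-- The structure of the radical. -/
theorem exists_radical {i : Fin (t + 1)} {b b' : Fin m → F} (hb0 : b ≠ 0) (hb : C.h b b = 0)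
    (hb'b : C.h b' b = 1) (hbb' : C.h b b' = 1) {e : GL (J m (t + 1)) F}
    (he : e ∈ C.isoJ (t + 1)) (he1 : ∀ a, app e (T i a b) = T i a b)
    (he2 : ∀ x, C.cb i b x = 0 → app e x - x ∈ Li i b)
    (hscal : ∀ (v : Fin m → F) (c : F), C.h v b = 0 → c + c ^ q = -(C.h v v) →
      ∀ k : (J m t → F) →ₗ[F] (J m t → F),
        e * C.E i b v c * (C.E i b v c * e)⁻¹ = rt i k b (fl C.H b) →
        ∃ μ : F, ∀ a, k a = μ • a) :
    ∃ v c, C.h v b = 0 ∧ c + c ^ q = -(C.h v v) ∧
      ∃ G : (J m t → F) →ₗ[F] (J m t → F), e = C.E i b v c * rt i G b (fl C.H b) := by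
  have HV := C.fV_herm (t + 1)
  have Ht := C.fV_herm t
  set N : (J m (t + 1) → F) →ₗ[F] (J m (t + 1) → F) := (app e).toLinearMap - LinearMap.id with hN
  have Nap : ∀ x, N x = app e x - x := fun x => rfl
  have Nperp : ∀ x, C.cb i b (N x) = 0 := fun x => C.cb_eq_zero_iff.2 (by
    rintro _ ⟨a, rfl⟩
    show C.fV (t + 1) (N x) (T i a b) = 0
    rw [Nap, HV.sub_left]
    conv_lhs => arg 1; rw [← he1 a]
    rw [he, sub_self])
  have hline : ∀ x, C.cb i b x = 0 → app e x = x + T i (C.cb i b' (N x)) b := fun x hx => by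
    rw [← C.eq_T_of_Li hbb' (show N x ∈ Li i b from he2 x hx), Nap, add_sub_cancel]
  have main : ∀ v : Fin m → F, C.h v b = 0 → ∃ μ : F, ∀ a a',
      C.fV t (C.cb i b' (N (T i a v))) a' - C.fV t a (C.cb i b' (N (T i a' v))) =
        μ * C.fV t a a' := by
    intro v hv
    have hbv := (C.H.eq_zero_symm C.hF).1 hv
    obtain ⟨c, hc⟩ := C.exists_trace v
    set k : (J m t → F) →ₗ[F] (J m t → F) :=
      C.cb i b' ∘ₗ N ∘ₗ (T i).flip v + C.cb i v ∘ₗ N ∘ₗ (T i).flip b' with hk
    have key : rt i k b (fl C.H b) * (C.E i b v c * e) = e * C.E i b v c := by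
      refine gl_ext fun x => ?_
      set p := C.cb i b x with hp
      have c1 : C.cb i b (app e x) = p := by rw [← sub_eq_zero, ← map_sub, ← Nap, Nperp]
      have c2 : C.cb i v (N x) = C.cb i v (N (T i p b')) := by
        have h0 : C.cb i b (x - T i p b') = 0 := by rw [map_sub, C.cb_T, hb'b, one_smul, sub_self]
        have h1 : C.cb i v (N (x - T i p b')) = 0 := ct_Li hbv (he2 _ h0)
        rwa [map_sub, map_sub, sub_eq_zero] at h1
      have c3 : C.cb i v (app e x) = C.cb i v x + C.cb i v (N x) := by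
        rw [← map_add, Nap, add_sub_cancel]
      have c4 : C.cb i b (app (C.E i b v c) (app e x)) = p := by
        rw [C.E_apply hb hv, map_add, map_sub, map_add, map_smul, C.cb_T, C.cb_T, C.cb_T, hv, hb, c1]
        simp
      have c5 : app e (T i p v) = T i p v + T i (C.cb i b' (N (T i p v))) b :=
        hline _ (by rw [C.cb_T, hv, zero_smul])
      rw [map_mul, map_mul, map_mul, LinearEquiv.mul_apply, LinearEquiv.mul_apply,
        LinearEquiv.mul_apply, rt_apply (show fl C.H b b = 0 from hb),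
        show ct i (fl C.H b) = C.cb i b from rfl, c4, C.E_apply hb hv, C.E_apply hb hv, c1, c3, ← hp]
      simp only [map_add, map_sub, map_smul, he1, c5, hk, LinearMap.add_apply, LinearMap.comp_apply,
        LinearMap.flip_apply, c2]
      abel
    obtain ⟨μ, hμ⟩ := hscal v c hv hc k (by rw [← key]; group)
    refine ⟨μ, fun a a' => ?_⟩
    have h1 : C.fV t (C.cb i v (N (T i a b'))) a' = -C.fV t a (C.cb i b' (N (T i a' v))) := by
      rw [← C.fV_right]
      have h2 := he (T i a b') (T i a' v)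
      have h3 : app e (T i a' v) = T i a' v + T i (C.cb i b' (N (T i a' v))) b :=
        hline _ (by rw [C.cb_T, hv, zero_smul])
      rw [show app e (T i a b') = T i a b' + N (T i a b') by rw [Nap, add_sub_cancel], h3,
        HV.add_left, HV.add_right C.hF, HV.add_right C.hF, C.fV_T, C.fV_T, hb'b,
        C.fV_right i (N _) _ b, Nperp, Ht.zero_left] at h2
      linear_combination h2
    have h4 := congrArg (fun z => C.fV t z a') (hμ a)
    simp only [hk, LinearMap.add_apply, LinearMap.comp_apply, LinearMap.flip_apply, Ht.add_left,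
      Ht.smul_left, h1] at h4
    linear_combination h4
  obtain ⟨ν, hν⟩ := C.exists_ne_conj
  have hscalar : ∀ v, C.h v b = 0 → ∃ μ : F, ∀ a, C.cb i b' (N (T i a v)) = μ • a := by
    intro v hv
    obtain ⟨μ, hμ⟩ := main v hv
    obtain ⟨μ', hμ'⟩ := main (ν • v) (by rw [C.H.smul_left, hv, mul_zero])
    have hne : ν - ν ^ q ≠ 0 := sub_ne_zero.2 (Ne.symm hν)
    refine ⟨(μ' - ν ^ q * μ) / (ν - ν ^ q), fun a => ?_⟩
    refine sub_eq_zero.1 (C.fV_nondeg t _ fun a' => ?_)
    have h1 := hμ a a'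
    have h2 := hμ' a a'
    simp only [map_smul, Ht.smul_left, Ht.smul_right] at h2
    rw [Ht.sub_left, Ht.smul_left, div_mul_eq_mul_div, eq_comm, ← sub_eq_zero]
    field_simp
    linear_combination ν ^ q * h1 - h2
  -- the Eichler part
  obtain ⟨a0, ha0⟩ := @exists_ne (J m t → F) (@Function.nontrivial _ _ (C.nonempty_J t) _) 0
  obtain ⟨ψ, hψ⟩ := exists_dual ha0
  set φ : (Fin m → F) →ₗ[F] F := ψ ∘ₗ C.cb i b' ∘ₗ N ∘ₗ T i a0 with hφ
  have hφv : ∀ v, C.h v b = 0 → ∀ a, N (T i a v) = φ v • T i a b := by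
    intro v hv a
    obtain ⟨μ, hμ⟩ := hscalar v hv
    have h1 : φ v = μ := by
      show ψ (C.cb i b' (N (T i a0 v))) = μ
      rw [hμ, map_smul, hψ, smul_eq_mul, mul_one]
    rw [C.eq_T_of_Li hbb' (x := N (T i a v)) (he2 _ (by rw [C.cb_T, hv, zero_smul])), hμ, h1,
      map_smul, LinearMap.smul_apply]
  obtain ⟨v, hv⟩ := C4.Herm.exists_fl C.hF C.H C.nd (-φ)
  have hvap : ∀ x, C.h x v = -φ x := fun x => LinearMap.congr_fun hv x
  have hφb : φ b = 0 := by
    show ψ (C.cb i b' (N (T i a0 b))) = 0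
    rw [Nap, he1, sub_self, map_zero, map_zero]
  have hvb : C.h v b = 0 := (C.H.eq_zero_symm C.hF).1 (by rw [hvap, hφb, neg_zero])
  obtain ⟨c, hc⟩ := C.exists_trace v
  refine ⟨v, c, hvb, hc, ?_⟩
  set E0 := C.E i b v c with hE0
  have hagree : ∀ x, C.cb i b x = 0 → app E0 x = app e x := by
    intro x hx
    have hL : ((app e).toLinearMap - (app E0).toLinearMap) ∘ₗ
        (LinearMap.id - (T i).flip b' ∘ₗ C.cb i b) = 0 := lin_ext i fun a w => by
      have hw : C.h (w - C.h w b • b') b = 0 := by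
        rw [C.H.sub_left, C.H.smul_left, hb'b, mul_one, sub_self]
      have e1 : T i a w - T i (C.h w b • a) b' = T i a (w - C.h w b • b') := by
        rw [map_sub, map_smul (T i a), map_smul (T i), LinearMap.smul_apply]
      simp only [LinearMap.comp_apply, LinearMap.sub_apply, LinearEquiv.coe_coe, LinearMap.id_apply,
        LinearMap.flip_apply, C.cb_T, e1, LinearMap.zero_apply]
      rw [← sub_add_cancel (app e (T i a (w - C.h w b • b'))) (T i a (w - C.h w b • b')), ← Nap,
        hφv _ hw, hE0, C.E_apply hb hvb, C.cb_T, C.cb_T, hw, hvap]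
      simp only [zero_smul, map_zero, LinearMap.zero_apply, smul_zero, add_zero, neg_smul, map_neg,
        LinearMap.neg_apply, map_smul, LinearMap.smul_apply]
      abel
    have := LinearMap.congr_fun hL x
    simp only [LinearMap.comp_apply, LinearMap.sub_apply, LinearEquiv.coe_coe, LinearMap.id_apply,
      hx, map_zero, LinearMap.zero_apply, sub_zero, sub_eq_zero] at this
    exact this.symm
  set e' := E0⁻¹ * e with he'
  have hfix : ∀ x, C.cb i b x = 0 → app e' x = x := fun x hx => by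
    rw [he', map_mul, LinearEquiv.mul_apply, ← hagree x hx, app_inv_app]
  have he'iso : e' ∈ C.isoJ (t + 1) := mul_mem (inv_mem (C.E_mem hb hvb hc).2.1) he
  have hres : ∀ x, app e' x - x ∈ Li i b := fun x => mem_Li_of_ct fun α hα => by
    obtain ⟨z, rfl⟩ := C4.Herm.exists_fl C.hF C.H C.nd α
    refine C.fV_nondeg t _ fun a => ?_
    rw [show ct i (fl C.H z) = C.cb i z from rfl, ← C.fV_right, HV.sub_left]
    have hz : app e' (T i a z) = T i a z :=
      hfix _ (by rw [C.cb_T, (C.H.eq_zero_symm C.hF).1 (show C.h b z = 0 from hα), zero_smul])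
    conv_lhs => arg 1; rw [← hz]
    rw [he'iso, sub_self]
  obtain ⟨G, hG⟩ := exists_rt hb0 (C4.Herm.fl_ne_zero C.hF C.H C.nd hb0)
    (show fl C.H b b = 0 from hb) hres hfix
  exact ⟨G, by rw [← hG, he', mul_inv_cancel_left]⟩

end Ctx

end Cfsg.Agent.C7U
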