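import Cfsg.Agent.Lib.C7U.Max
import Cfsg.Agent.Lib.C7U.Fpf

/-!
# The group of an extremal pair

In the group generated by the two root groups of an extremal pair the stabiliser of the line is its
root group, possibly after changing the line.
-/

set_option autoImplicit false
set_option linter.unusedSectionVars false

namespace Cfsg.Agent.C7U

open Matrix Module Cfsg.Agent.Transvect Cfsg.Agent.C7
open Cfsg.Agent.Unitary (IsHerm Nondeg)
open Cfsg.Agent.C4.Herm (fl fl_apply Iso perpF mem_perpF le_finrank_perpF)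
open scoped MatrixGroups

namespace Ctx

variable {F : Type*} [Field F] [Fintype F] {q m : ℕ} (C : Ctx F q m) {t s : ℕ}

include C

/-- The root group of an isotropic line. -/
noncomputable def rg (i : Fin (t + 1)) {b : Fin m → F} (hb : C.h b b = 0) :
    Subgroup (GL (J m (t + 1)) F) where
  carrier := {g | ∃ s : F, s + s ^ q = 0 ∧ g = C.R i b s}
  mul_mem' {g g'} := by
    rintro ⟨s, hs, rfl⟩ ⟨s', hs', rfl⟩
    refine ⟨s + s', ?_, C.R_mul hb s s'⟩
    rw [Cfsg.Agent.Unitary.add_pow_q C.hF]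
    linear_combination hs + hs'
  one_mem' := ⟨0, by simp [zero_pow (show q ≠ 0 by have := C.two_le_q; omega)], (C.R_zero hb).symm⟩
  inv_mem' {g} := by
    rintro ⟨s, hs, rfl⟩
    refine ⟨-s, ?_, C.R_inv hb s⟩
    rw [Cfsg.Agent.Unitary.neg_pow_q C.hF]
    linear_combination -hs

lemma res_R_le (i : Fin (t + 1)) {b : Fin m → F} (hb : C.h b b = 0) (s : F) :
    C4.res (C.R i b s) ≤ Li i b :=
  C4.res_le fun x => by
    rw [C.R_apply hb, add_sub_cancel_left]
    exact Submodule.smul_mem _ _ (T_mem_Li _ _ _)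

lemma cb_sub (i : Fin (t + 1)) (b b' : Fin m → F) (x : J m (t + 1) → F) :
    C.cb i (b - b') x = C.cb i b x - C.cb i b' x := by
  rw [eq_sub_iff_add_eq, ← C.cb_add, sub_add_cancel]

variable {M : Subgroup (GL (J m (t + 1)) F)}

namespace Pr

variable {C} (P : C.Pr M)

/-- The group generated by the two root groups. -/
noncomputable def G : Subgroup (GL (J m (t + 1)) F) :=
  C.rg P.i P.hb ⊔ (C.rg P.i₀ P.hb₀).map (MulAut.conj P.x).toMonoidHom

lemma rg_le_G : C.rg P.i P.hb ≤ P.G := le_sup_left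

lemma conj_mem_G {s : F} (hs : s + s ^ q = 0) : P.x * C.R P.i₀ P.b₀ s * P.x⁻¹ ∈ P.G :=
  Subgroup.mem_sup_right ⟨_, ⟨s, hs, rfl⟩, rfl⟩

lemma G_le (H : C.Ovg M) : P.G ≤ M := by
  refine sup_le ?_ ?_
  · rintro _ ⟨s, hs, rfl⟩
    exact H.hM (C.R_mem P.hb hs)
  · rintro _ ⟨_, ⟨s, hs, rfl⟩, rfl⟩
    exact mul_mem (mul_mem P.hx (H.hM (C.R_mem P.hb₀ hs))) (inv_mem P.hx)

lemma G_facts (H : C.Ovg M) {g : GL (J m (t + 1)) F} (hg : g ∈ P.G) :
    (∀ v, app g v - v ∈ P.A ⊔ P.S) ∧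
      ∀ v ∈ perpS (C.fV_herm (t + 1)) P.A ⊓ perpS (C.fV_herm (t + 1)) P.S, app g v = v := by
  rw [G, Subgroup.sup_eq_closure] at hg
  induction hg using Subgroup.closure_induction with
  | mem g hg =>
    rcases hg with ⟨s, -, rfl⟩ | ⟨_, ⟨s, -, rfl⟩, rfl⟩
    · refine ⟨fun v => Submodule.mem_sup_left (C.res_R_le _ P.hb s (C4.mem_res v)), fun v hv => ?_⟩
      rw [C.R_apply P.hb, C.cb_eq_zero_iff.2 hv.1]
      simp
    · refine ⟨fun v => Submodule.mem_sup_right ?_, fun v hv => ?_⟩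
      · have h1 := C4.mem_res (g := P.x * C.R P.i₀ P.b₀ s * P.x⁻¹) v
        rw [C4.res_conj] at h1
        exact Submodule.map_mono (C.res_R_le _ P.hb₀ s) h1
      · have h1 : C.cb P.i₀ P.b₀ (app P.x⁻¹ v) = 0 := C.cb_eq_zero_iff.2 fun y hy => by
          rw [← (H.hMK P.hx).1, app_app_inv]
          exact hv.2 _ ⟨y, hy, rfl⟩
        show app (P.x * C.R P.i₀ P.b₀ s * P.x⁻¹) v = v
        rw [map_mul, map_mul, LinearEquiv.mul_apply, LinearEquiv.mul_apply, C.R_apply P.hb₀, h1]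
        simp [-app_apply, app_app_inv]
  | one => exact ⟨fun v => by simp, fun v _ => by simp⟩
  | mul a b _ _ ha hb =>
    refine ⟨fun v => ?_, fun v hv => by
      rw [map_mul, LinearEquiv.mul_apply, hb.2 v hv, ha.2 v hv]⟩
    rw [map_mul, LinearEquiv.mul_apply, ← sub_add_sub_cancel _ (app b v) v]
    exact Submodule.add_mem _ (ha.1 _) (hb.1 v)
  | inv a _ ha =>
    refine ⟨fun v => ?_, fun v hv => by conv_lhs => rw [← ha.2 v hv, app_inv_app]⟩
    have := Submodule.neg_mem _ (ha.1 (app a⁻¹ v))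
    rwa [app_app_inv, neg_sub] at this

lemma meet_le_perp (H : C.Ovg M) : P.A ⊓ P.S ≤
    perpS (C.fV_herm (t + 1)) P.A ⊓ perpS (C.fV_herm (t + 1)) P.S :=
  le_inf (inf_le_left.trans P.le_perp_A) (inf_le_right.trans (P.le_perp_S H))

lemma sup_eq_perp (H : C.Ovg M) :
    (perpS (C.fV_herm (t + 1)) P.A ⊓ perpS (C.fV_herm (t + 1)) P.S) ⊔ P.A =
      perpS (C.fV_herm (t + 1)) P.A := by
  refine Submodule.eq_of_le_of_finrank_le (sup_le inf_le_left P.le_perp_A) ?_
  set Wp := perpS (C.fV_herm (t + 1)) P.A ⊓ perpS (C.fV_herm (t + 1)) P.S with hWp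
  have h1 : perpS (C.fV_herm (t + 1)) (P.A ⊔ P.S) ≤ Wp := fun v hv =>
    ⟨fun y hy => hv y (Submodule.mem_sup_left hy), fun y hy => hv y (Submodule.mem_sup_right hy)⟩
  have h2 := Submodule.finrank_mono h1
  have h3 := C.finrank_perp (P.A ⊔ P.S)
  have h4 := Submodule.finrank_sup_add_finrank_inf_eq P.A P.S
  have h5 := C.finrank_perp P.A
  have h6 := Submodule.finrank_sup_add_finrank_inf_eq Wp P.A
  have h7 : Wp ⊓ P.A = P.A ⊓ P.S := by
    rw [hWp, inf_comm, ← inf_assoc, inf_eq_left.2 P.le_perp_A, P.A_inf_perp H]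
  rw [h7] at h6
  have hA : finrank F P.A = m ^ t := finrank_Li _ P.hb0
  have hS := P.finrank_S
  omega

/-- `z` is orthogonal to the line and to the image. -/
def Excep (z : Fin m → F) : Prop :=
  z ≠ 0 ∧ C.h z P.b = 0 ∧ C.h z z ≠ 0 ∧ ∀ s ∈ P.S, C.cb P.i z s = 0

lemma no_iso_kill (H : C.Ovg M) (hj : P.j = 0) {l : Fin (t + 1)} {w : Fin m → F} (hw0 : w ≠ 0)
    (hw : C.h w w = 0) (h : ∀ s ∈ P.S, C.cb l w s = 0) : False := by
  have h1 := P.transfer H P.hx P.hxW (i' := P.i₀) (l := l) P.hb₀0 P.hb₀ hw0 hw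
  rw [inf_eq_left.2 (show P.S ≤ _ from fun s hs => C.cb_eq_zero_iff.1 (h s hs)), P.finrank_S, hj] at h1
  exact (pow_pos (show 0 < m by have := C.hm; omega) t).ne' (Nat.le_zero.1 h1)

/-- The stabiliser of the line in the group of the pair. -/
theorem stab_cases (H : C.Ovg M) {g : GL (J m (t + 1)) F} (hg : g ∈ P.G)
    (hgA : ∀ a, app g (T P.i a P.b) ∈ P.A) :
    g ∈ C.rg P.i P.hb ∨ (P.j = 0 ∧ m = 3 ∧ ∃ z, P.Excep z) := by
  set i := P.i
  set b := P.b
  have hb0 : b ≠ 0 := P.hb0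
  have hb : C.h b b = 0 := P.hb
  have hgM : g ∈ M := P.G_le H hg
  obtain ⟨hres, hfix⟩ := P.G_facts H hg
  have hW : g ∈ Wr F m (t + 1) := H.mem_Wr_of_map C hgM hb0 hb hb0 hb hgA
  obtain ⟨l, X, B, hgT⟩ := exists_form hW i
  obtain ⟨rfl, -⟩ := of_Li_le (i := l) (j := i) (u := app B b) (v := b) (by have := C.hm; omega)
    ((app B).map_ne_zero_iff.2 hb0) hb0 (by
      rintro _ ⟨a, rfl⟩
      show T l a (app B b) ∈ _
      rw [← app_app_inv X a, ← hgT]
      exact hgA _)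
  have hmod : ∀ y, C.cb i b y = 0 → app g y - y ∈ Li i b := by
    intro y hy
    have hy' : y ∈ (perpS (C.fV_herm (t + 1)) P.A ⊓ perpS (C.fV_herm (t + 1)) P.S) ⊔ P.A := by
      rw [P.sup_eq_perp H]; exact C.cb_eq_zero_iff.1 hy
    obtain ⟨w, hw, _, ⟨a, rfl⟩, rfl⟩ := Submodule.mem_sup.1 hy'
    rw [map_add, hfix w hw, add_sub_add_left_eq_sub]
    exact Submodule.sub_mem _ (hgA a) (T_mem_Li _ _ _)
  obtain ⟨bp, hbp, hpb, hbbp, -⟩ := C.exists_partner hb0 hb
  obtain ⟨z, hzb, -, hzz⟩ := C.exists_aniso_perp hb hbp hpb hbbp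
  have hbz := (C.H.eq_zero_symm C.hF).1 hzb
  have hXa : ∀ a, C.h (app B z) z • app X a = C.h z z • a := fun a => by
    obtain ⟨y, hy⟩ := hmod (T i a z) (by rw [C.cb_T, hzb, zero_smul])
    have h1 := congrArg (C.cb i z) hy
    rw [LinearMap.flip_apply, C.cb_T, hbz, zero_smul, map_sub, hgT, C.cb_T, C.cb_T, eq_comm,
      sub_eq_zero] at h1
    exact h1
  obtain ⟨a₀, ha₀⟩ := @exists_ne (J m t → F) (@Function.nontrivial _ _ (C.nonempty_J t) _) 0
  have he : C.h (app B z) z ≠ 0 := fun e => by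
    have := hXa a₀
    rw [e, zero_smul, eq_comm, smul_eq_zero] at this
    exact this.elim hzz ha₀
  set c := C.h z z / C.h (app B z) z with hcdef
  have hXc : ∀ a, app X a = c • a := fun a => by
    rw [hcdef, div_eq_inv_mul, ← smul_smul, ← hXa, inv_smul_smul₀ he]
  have hc0 : c ≠ 0 := div_ne_zero hzz he
  obtain ⟨B', hB'⟩ := exists_gl (c • (app B).toLinearMap) (fun u w h => (app B).injective
    (smul_right_injective _ hc0 (by simpa using h)))
  have hg1 : g = kr i 1 B' := gl_ext_T i fun a u => by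
    rw [hgT, app_kr, hXc, map_one, LinearEquiv.coe_one, id_eq, hB', LinearMap.smul_apply,
      map_smul (T i), LinearMap.smul_apply, map_smul (T i a)]
    rfl
  have hgB : ∀ a u, app g (T i a u) = T i a (app B' u) := fun a u => by
    rw [hg1, app_kr, map_one, LinearEquiv.coe_one, id_eq]
  obtain ⟨lam, hlam⟩ : ∃ lam : F, lam • b = app B' b := by
    obtain ⟨y, hy⟩ := hgA a₀
    rw [LinearMap.flip_apply, hgB] at hy
    exact Submodule.mem_span_singleton.1 (mem_span_of_T_eq ha₀ hy.symm)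
  by_cases hl1 : lam = 1
  · left
    have hga : ∀ a, app g (T i a b) = T i a b := fun a => by
      rw [hgB, ← hlam, hl1, one_smul]
    obtain ⟨v, e, hvb, -, hge⟩ := H.radical_mem C hgM hb0 hb hga hmod
    have hkill : ∀ y, C.cb i b y = 0 → C.cb i v y = 0 := by
      intro y hy
      have hy' : y ∈ (perpS (C.fV_herm (t + 1)) P.A ⊓ perpS (C.fV_herm (t + 1)) P.S) ⊔ P.A := by
        rw [P.sup_eq_perp H]; exact C.cb_eq_zero_iff.1 hy
      obtain ⟨w, hw, _, ⟨a, rfl⟩, rfl⟩ := Submodule.mem_sup.1 hy'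
      have h1 := hfix w hw
      rw [hge, C.E_apply hb hvb, C.cb_eq_zero_iff.2 hw.1] at h1
      simp only [map_zero, LinearMap.zero_apply, add_zero, smul_zero, sub_eq_self] at h1
      rw [map_add, (T_eq_zero h1).resolve_right hb0, LinearMap.flip_apply, C.cb_T,
        (C.H.eq_zero_symm C.hF).1 hvb, zero_smul, add_zero]
    have hperp : ∀ u, C.h u b = 0 → C.h u v = 0 := fun u hu => by
      have h1 := hkill (T i a₀ u) (by rw [C.cb_T, hu, zero_smul])
      rw [C.cb_T, smul_eq_zero] at h1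
      exact h1.resolve_right ha₀
    set μ := C.h v bp with hμ
    have hv : v = μ • b := sub_eq_zero.1 (C.nd _ fun u => (C.H.eq_zero_symm C.hF).1 ?_)
    swap
    · have h1 := hperp (u - C.h u b • bp) (by rw [C.H.sub_left, C.H.smul_left, hpb, mul_one, sub_self])
      rw [C.H.sub_left, C.H.smul_left] at h1
      rw [C.H.sub_right C.hF, C.H.smul_right, hμ, ← C.H.conj_symm]
      linear_combination h1
    have hR : g = C.R i b (μ - μ ^ q + e) := gl_ext fun x => by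
      rw [hge, C.E_apply hb hvb, C.R_apply hb, hv, C.cb_smul, map_smul (T i), map_smul (T i _),
        LinearMap.smul_apply]
      module
    exact ⟨_, C.skew_of_R_mem hb0 hb (hR ▸ (H.hMK hgM).1), hR⟩
  right
  have hj : P.j = 0 := Submodule.finrank_eq_zero.2 ((Submodule.eq_bot_iff _).2 fun x hx => by
    have h1 := hfix x (P.meet_le_perp H hx)
    obtain ⟨a, rfl⟩ := hx.1
    simp only [LinearMap.flip_apply] at h1 ⊢
    rw [hgB, ← hlam, map_smul] at h1
    have h2 : (lam - 1) • T i a b = 0 := by rw [sub_smul, one_smul, h1, sub_self]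
    exact (smul_eq_zero.1 h2).resolve_left (sub_ne_zero.2 hl1))
  have hz : ∀ v, C.h v b = 0 → v ∉ F ∙ b → ∃ μ : F, v - μ • b ≠ 0 ∧
      ∀ s ∈ P.S, C.cb i (v - μ • b) s = 0 := by
    intro v hv hvn
    obtain ⟨y, hy⟩ := hmod (T i a₀ v) (by rw [C.cb_T, hv, zero_smul])
    rw [LinearMap.flip_apply, hgB, ← map_sub] at hy
    obtain ⟨κ, hκ⟩ : ∃ κ : F, κ • b = app B' v - v := by
      by_cases h0 : app B' v - v = 0
      · exact ⟨0, by rw [h0, zero_smul]⟩
      · exact Submodule.mem_span_singleton.1 (mem_span_of_T_eq ha₀ hy.symm)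
    refine ⟨κ / (lam - 1), fun e => hvn (Submodule.mem_span_singleton.2 ⟨_, (sub_eq_zero.1 e).symm⟩),
      fun s hs => ?_⟩
    set z' := v - (κ / (lam - 1)) • b with hz'
    have hfix' : app B' z' = z' := by
      rw [hz', map_sub, map_smul, ← hlam, eq_add_of_sub_eq hκ.symm, smul_smul]
      have h1 : κ = κ / (lam - 1) * lam - κ / (lam - 1) := by
        have := sub_ne_zero.2 hl1
        field_simp
      nth_rewrite 1 [h1]
      module
    refine C.cb_eq_zero_iff.2 ?_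
    rintro _ ⟨a, rfl⟩
    refine C.perp_symm ?_
    show C.fV (t + 1) (T i a z') s = 0
    have hy' : T i a z' ∈
        (perpS (C.fV_herm (t + 1)) P.A ⊓ perpS (C.fV_herm (t + 1)) P.S) ⊔ P.A := by
      rw [P.sup_eq_perp H]
      refine C.cb_eq_zero_iff.1 ?_
      rw [C.cb_T, hz', C.H.sub_left, C.H.smul_left, hv, hb, mul_zero, sub_zero, zero_smul]
    obtain ⟨w, hw, _, ⟨a', rfl⟩, hsum⟩ := Submodule.mem_sup.1 hy'
    have h1 : app g (T i a z') = T i a z' := by rw [hgB, hfix']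
    rw [← hsum, map_add, hfix w hw, add_right_inj, LinearMap.flip_apply, hgB, ← hlam,
      map_smul] at h1
    have h2 : (lam - 1) • T i a' b = 0 := by rw [sub_smul, one_smul, h1, sub_self]
    rw [LinearMap.flip_apply, (smul_eq_zero.1 h2).resolve_left (sub_ne_zero.2 hl1), add_zero] at hsum
    rw [← hsum]
    exact hw.2 s hs
  refine ⟨hj, ?_, ?_⟩
  · by_contra hm
    have hW2 : 2 ≤ finrank F (perpF C.H ![b, bp]) := by
      have : m ≤ finrank F (perpF C.H ![b, bp]) + 2 := le_finrank_perpF C.H ![b, bp]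
      have := C.hm
      omega
    obtain ⟨d, hd, hd0, hdd⟩ := C4.Herm.exists_iso_in C.hF C.H hW2
    have hdb : C.h d b = 0 := (mem_perpF C.H).1 hd 0
    have hdp : C.h d bp = 0 := (mem_perpF C.H).1 hd 1
    obtain ⟨μ, hμ0, hμ⟩ := hz d hdb fun h => by
      obtain ⟨c', rfl⟩ := Submodule.mem_span_singleton.1 h
      rw [C.H.smul_left, hbbp, mul_one] at hdp
      exact hd0 (by rw [hdp, zero_smul])
    refine P.no_iso_kill H hj hμ0 ?_ hμ
    simp [C.H.sub_left, C.H.sub_right C.hF, C.H.smul_left, C.H.smul_right, hdd, hb, hdb,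
      (C.H.eq_zero_symm C.hF).1 hdb]
  · obtain ⟨μ, hμ0, hμ⟩ := hz z hzb fun h => by
      obtain ⟨c', hc'⟩ := Submodule.mem_span_singleton.1 h
      exact hzz (by rw [← hc', C.H.smul_left, C.H.smul_right, hb]; simp)
    refine ⟨_, hμ0, ?_, ?_, hμ⟩
    · simp [C.H.sub_left, C.H.smul_left, hzb, hb, b]
    · simp [C.H.sub_left, C.H.sub_right C.hF, C.H.smul_left, C.H.smul_right, hb, hzb, hbz, hzz, b]

/-- The stabiliser of the line is the root group. -/
def Good : Prop :=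
  ∀ g ∈ P.G, (∀ a, app g (T P.i a P.b) ∈ P.A) → g ∈ C.rg P.i P.hb

lemma good_of_four (H : C.Ovg M) (hm : 4 ≤ m) : P.Good := fun _ hg hgA =>
  (P.stab_cases H hg hgA).resolve_right fun h => by omega

end Pr

/-- Some extremal pair is good. -/
theorem Ovg.exists_good (H : C.Ovg M) (h : ¬ M ≤ Wr F m (t + 1)) : ∃ P : C.Pr M, P.Good := by
  obtain ⟨P⟩ := H.exists_pr C h
  by_cases he : P.j = 0 ∧ m = 3 ∧ ∃ z, P.Excep z
  swap
  · exact ⟨P, fun g hg hgA => (P.stab_cases H hg hgA).resolve_right he⟩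
  obtain ⟨hj, -, z, hz0, hzb, hzz, hzS⟩ := he
  obtain ⟨b₁, hb₁, hb₁z⟩ : ∃ b₁, C.h b₁ b₁ = 0 ∧ C.h b₁ z ≠ 0 := by
    by_contra! hc
    have hle : Submodule.span F {v : Fin m → F | C.h v v = 0} ≤ LinearMap.ker (fl C.H z) :=
      Submodule.span_le.2 fun v hv => LinearMap.mem_ker.2 (hc v hv)
    exact hzz (hle (C4.Herm.mem_span_iso C.hF C.H C.nd (by have := C.hm; omega) z))
  have hb₁0 : b₁ ≠ 0 := fun e => hb₁z (by rw [e, C.H.zero_left])
  have hmeet : finrank F (Li P.i b₁ ⊓ P.S : Submodule F (J m (t + 1) → F)) = 0 := by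
    have := P.hmax P.x P.hx P.hxW P.i₀ P.b₀ P.i b₁ P.hb₀0 P.hb₀ hb₁0 hb₁
    exact Nat.le_zero.1 (this.trans hj.le)
  let P' : C.Pr M :=
    { P with
      b := b₁
      hb0 := hb₁0
      hb := hb₁
      hmax := fun x' e1 e2 i' b' l v e3 e4 e5 e6 =>
        ((P.hmax x' e1 e2 i' b' l v e3 e4 e5 e6).trans hj.le).trans (Nat.zero_le _) }
  refine ⟨P', fun g hg hgA => (P'.stab_cases H hg hgA).resolve_right ?_⟩
  rintro ⟨hj', -, z₁, hz₁0, hz₁b, -, hz₁S⟩
  change C.h z₁ b₁ = 0 at hz₁b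
  change ∀ s ∈ P.S, C.cb P.i z₁ s = 0 at hz₁S
  have hind : z₁ ∉ F ∙ z := fun h => by
    obtain ⟨c, rfl⟩ := Submodule.mem_span_singleton.1 h
    rw [C.H.smul_left] at hz₁b
    exact hb₁z ((C.H.eq_zero_symm C.hF).1
      ((mul_eq_zero.1 hz₁b).resolve_left fun e => hz₁0 (by rw [e, zero_smul])))
  have hW : 2 ≤ finrank F ((F ∙ z) ⊔ (F ∙ z₁) : Submodule F (Fin m → F)) := by
    rw [Submodule.finrank_sup_span_singleton hind, finrank_span_singleton hz0]
  obtain ⟨w, hw, hw0, hww⟩ := C4.Herm.exists_iso_in C.hF C.H hW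
  obtain ⟨_, h1, _, h2, rfl⟩ := Submodule.mem_sup.1 hw
  obtain ⟨c₁, rfl⟩ := Submodule.mem_span_singleton.1 h1
  obtain ⟨c₂, rfl⟩ := Submodule.mem_span_singleton.1 h2
  exact P.no_iso_kill H hj hw0 hww fun s hs => by
    rw [C.cb_add, C.cb_smul, C.cb_smul, hzS s hs, hz₁S s hs]; simp

end Ctx

end Cfsg.Agent.C7U
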